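/-
Data for the automorphisms of the derived group of Fi24: an element of order 13 and the six transpositions
commuting with it.
-/
import Cfsg.Agent.Lib.CosetEnum.Basic

set_option autoImplicit false
set_option Elab.async false
set_option maxRecDepth 1000000

namespace CfsgLib.CosetEnum.Fi24Table.Out

/-- The element of order 13, in the order of application. -/
def xl : List ℕ :=
  [7, 4, 8, 8, 10, 11, 8, 11, 3, 11, 6, 8, 5, 6, 8, 6]

/-- The points of the six transpositions commuting with the element. -/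
def fPts : List ℕ :=
  [0, 3, 1, 88677, 292627, 296843]

/-- Words reaching them. -/
def fWords : List (List ℕ) :=
  [[],
    [0, 1],
    [1],
    [9, 8, 7, 6, 5, 10, 4, 5, 6, 3, 4, 5, 10, 7, 8, 6, 7, 5, 6, 4, 5, 10, 9, 8, 7, 6, 5, 4, 2, 3, 1, 2, 0, 1],
    [2, 3, 4, 5, 10, 11, 4, 5, 6, 3, 4, 5, 10, 7, 8, 6, 7, 4, 5, 6, 2, 3, 4, 5, 10, 11, 7, 5, 6, 3, 4, 5, 10, 9, 8, 7, 6, 5, 4, 3, 1, 2, 0, 1],
    [2, 3, 4, 5, 10, 11, 10, 5, 6, 2, 3, 4, 5, 10, 7, 8, 6, 7, 4, 5, 6, 3, 4, 5, 10, 11, 8, 7, 5, 6, 3, 4, 5, 10, 9, 8, 7, 6, 5, 4, 3, 1, 2, 0, 1]]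

/-- The pattern of the fourth generator along its orbit. -/
def tgt : List Bool :=
  [false, true, false, true, true, false]

/-- A word reaching the fourth generator. -/
def rWord : List ℕ :=
  [2, 3, 1, 2, 0, 1]

/-- The word of the transposition in the short form of the element of order three. -/
def eWord : List ℕ :=
  [2, 3, 4, 5, 10, 11, 6, 5, 10, 7, 8, 6, 7, 4, 5, 6, 3, 4, 5, 10, 11, 7, 5, 6, 3, 4, 5, 10, 9, 8, 7, 6, 5, 4, 3]

/-- The change to the short form. -/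
def huWord : List ℕ :=
  [4, 5, 10, 6, 7, 5, 6, 4, 5, 10, 8, 9, 7, 8, 6, 7, 5, 6, 4, 5, 10, 3, 4, 5, 6, 7, 8, 9, 4, 5, 6, 7, 4]

/-- The change of the second transposition. -/
def hbWord : List ℕ :=
  [7, 8, 6, 7, 5, 6, 4, 5, 10, 11, 5, 10, 6, 4, 5, 3, 4, 2, 3, 2]

/-- A word reaching the changed second transposition. -/
def bpWord : List ℕ :=
  [10, 5, 6, 3, 4, 5, 10, 11, 10, 7, 8, 6, 7, 5, 6, 3, 4, 5, 10, 9, 8, 7, 6, 5, 4, 3, 1, 2, 0, 1]

/-- A word reaching a common neighbour of the first generator and two of the six. -/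
def ccWord : List ℕ :=
  [10, 6, 5, 4, 3, 1, 2, 0, 1]

end CfsgLib.CosetEnum.Fi24Table.Out
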