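/-
The kernel functions for the automorphisms of the derived group of Fi24.
-/
import Cfsg.Agent.Lib.CosetEnum.AutCent
import Cfsg.Agent.Lib.CosetEnum.Fi24Table.Data
import Cfsg.Agent.Lib.CosetEnum.Fi24Table.Out.Data

set_option autoImplicit false
set_option maxRecDepth 1000000

namespace CfsgLib.CosetEnum.Fi24Table.Out

open CfsgLib.CosetEnum

/-- The permutation of the element of order 13. -/
noncomputable def fy (d : ℕ) : ℕ := runT table (nat_lit 12) xl d

/-- The permutation of a generator. -/
noncomputable def fG (x : ℕ) (d : ℕ) : ℕ := table.act (nat_lit 12) d x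

/-- The permutation of the transposition given by a word. -/
noncomputable def fW (w : List ℕ) (d : ℕ) : ℕ := conjMap table (nat_lit 12) (fG (nat_lit 0)) w d

/-- The word of one of the six transpositions. -/
noncomputable def wF (i : ℕ) : List ℕ := fWords.getD i []

/-- The point of one of the six transpositions. -/
noncomputable def pF (i : ℕ) : ℕ := fPts.getD i (nat_lit 0)

/-- The short form of the element of order three. -/
noncomputable def fU (d : ℕ) : ℕ :=
  force (conjMap table (nat_lit 12) (fG (nat_lit 2)) eWord d) fun a => force (fG (nat_lit 3) a) fun b =>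
    force (fG (nat_lit 1) b) fun c => fG (nat_lit 0) c

/-- The point is below its two translates by the product of the first two generators. -/
noncomputable def lowest (d : ℕ) : Bool :=
  force (force (fG (nat_lit 1) d) (fG (nat_lit 0))) fun a =>
    Bool.rec false (force (force (fG (nat_lit 1) a) (fG (nat_lit 0))) fun b => Nat.ble d b) (Nat.ble d a)

/-- The point is fixed by the products of `a` with the generators of a list. -/
noncomputable def fixProd (a : ℕ) (xs : List ℕ) (d : ℕ) : Bool :=
  List.rec (motive := fun _ => Bool) true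
    (fun x _ ih => Bool.rec false ih (Nat.beq (force (fG x d) (fG a)) d)) xs

/-- The point is one of a list. -/
noncomputable def inPts (l : List ℕ) (d : ℕ) : Bool :=
  List.rec (motive := fun _ => Bool) false (fun p _ ih => Bool.rec ih true (Nat.beq d p)) l

/-- The first member of a list of pairs is the point. -/
noncomputable def inEnts (l : List (ℕ × ℕ)) (d : ℕ) : Bool :=
  List.rec (motive := fun _ => Bool) false (fun p _ ih => Bool.rec ih true (Nat.beq d p.1)) l

/-- The scan at a point. -/
noncomputable def okPt (L : List (ℕ × ℕ)) (d : ℕ) : Bool :=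
  Bool.rec true (inPts fPts d) (Nat.beq (fy d) d) &&
    Bool.rec true (!(Nat.beq (fU d) d)) (lowest d) &&
    Bool.rec true (inPts [0, 88677] d) (fixProd (nat_lit 0) [2, 3, 4, 5, 6, 7, 8, 10, 11] d) &&
    Bool.rec true (inPts [0, 1, 3] d) (fixProd (nat_lit 3) [4, 5, 6, 7, 8, 9, 10, 11] d) &&
    Bool.rec true
      (Bool.rec true (inPts [0, 88677] d || inEnts L d) (Nat.beq (fW (wF (nat_lit 3)) d) d))
      (Nat.beq (fG (nat_lit 0) d) d)

/-- The commutation of a transposition with its translate along the element of order 13. -/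
noncomputable def patAt (w : List ℕ) (v i : ℕ) : Bool :=
  force (iterN fy (Nat.succ i) v) fun a => Nat.beq (fW w a) a

/-- The transposition has the exchanged pattern. -/
noncomputable def swapPat (w : List ℕ) (v : ℕ) : Bool :=
  (List.range 6).all (fun i => beqB (patAt w v i) (tgt.getD i false)) &&
    !(Nat.beq (fG (nat_lit 1) v) v) && Nat.beq (fW w (pF (nat_lit 4))) (pF (nat_lit 4))

/-- The check at a listed point. -/
noncomputable def okEnt (e : ℕ × ℕ) : Bool :=
  force e.2 fun u => (fun w : List ℕ => w.all (fun x => Nat.blt x (nat_lit 12)) &&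
    Nat.beq (runT table (nat_lit 12) w.reverse (nat_lit 0)) e.1 && !(swapPat w e.1)) (wordOf u)

/-- The facts at a point. -/
def PtOK (d : ℕ) : Prop :=
  (fy d = d → d ∈ fPts) ∧ (lowest d = true → fU d ≠ d) ∧
    ((∀ x ∈ [2, 3, 4, 5, 6, 7, 8, 10, 11], fG 0 (fG x d) = d) → d = 0 ∨ d = 88677) ∧
    ((∀ x ∈ [4, 5, 6, 7, 8, 9, 10, 11], fG 3 (fG x d) = d) → d = 0 ∨ d = 1 ∨ d = 3) ∧
    (fG 0 d = d → fW (wF 3) d = d → d = 0 ∨ d = 88677 ∨
      ∃ w : List ℕ, (∀ x ∈ w, x < 12) ∧ runT table 12 w.reverse 0 = d ∧ swapPat w d = false)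

theorem inPts_iff {l : List ℕ} {d : ℕ} : inPts l d = true ↔ d ∈ l := by
  induction l with
  | nil => simp [inPts]
  | cons p l ih =>
    show Bool.rec (inPts l d) true (Nat.beq d p) = true ↔ _
    cases hb : Nat.beq d p
    · simp [ih, Nat.ne_of_beq_eq_false hb]
    · simp [Nat.eq_of_beq_eq_true hb]

theorem inEnts_iff {l : List (ℕ × ℕ)} {d : ℕ} : inEnts l d = true ↔ ∃ u, (d, u) ∈ l := by
  induction l with
  | nil => simp [inEnts]
  | cons p l ih =>
    show Bool.rec (inEnts l d) true (Nat.beq d p.1) = true ↔ _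
    cases hb : Nat.beq d p.1
    · simp only [ih, List.mem_cons]
      exact ⟨fun ⟨u, hu⟩ => ⟨u, Or.inr hu⟩, fun ⟨u, hu⟩ =>
        ⟨u, hu.resolve_left fun e => Nat.ne_of_beq_eq_false hb (congrArg Prod.fst e)⟩⟩
    · exact iff_of_true rfl ⟨p.2, List.mem_cons.mpr (Or.inl (by rw [Nat.eq_of_beq_eq_true hb]))⟩

theorem fixProd_of {a : ℕ} : ∀ {xs : List ℕ} {d : ℕ}, (∀ x ∈ xs, fG a (fG x d) = d) → fixProd a xs d = true := by
  intro xs
  induction xs with
  | nil => intro d _; rfl
  | cons x xs ih =>
    intro d h
    show Bool.rec false (fixProd a xs d) (Nat.beq (force (fG x d) (fG a)) d) = true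
    rw [force_eq, h x (List.mem_cons_self ..), show Nat.beq d d = true from Nat.beq_refl d]
    exact ih fun y hy => h y (List.mem_cons_of_mem _ hy)

theorem okPt_step {L : List (ℕ × ℕ)} {lo m : ℕ} (hp : okRange (okPt L) lo m = true) (he : L.all okEnt = true)
    (h0 : ∀ d < lo, PtOK d) : ∀ d < lo + m, PtOK d := by
  intro d hd
  by_cases hd' : d < lo
  · exact h0 d hd'
  have h := allN_spec (f := fun i => force (Nat.add lo i) (okPt L)) hp (d - lo) (by omega)
  rw [force_eq, show Nat.add lo (d - lo) = d by show lo + (d - lo) = d; omega] at h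
  simp only [okPt, Bool.and_eq_true] at h
  obtain ⟨⟨⟨⟨h1, h2⟩, h3⟩, h4⟩, h5⟩ := h
  refine ⟨fun e => ?_, fun el e => ?_, fun e => ?_, fun e => ?_, fun e e' => ?_⟩
  · rw [e, show Nat.beq d d = true from Nat.beq_refl d] at h1
    exact inPts_iff.mp h1
  · rw [el, e, show Nat.beq d d = true from Nat.beq_refl d] at h2
    simp at h2
  · rw [fixProd_of e] at h3
    simpa using inPts_iff.mp h3
  · rw [fixProd_of e] at h4
    simpa using inPts_iff.mp h4
  · rw [show fG (nat_lit 0) d = d from e, show Nat.beq d d = true from Nat.beq_refl d] at h5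
    simp only at h5
    rw [show fW (wF (nat_lit 3)) d = d from e', show Nat.beq d d = true from Nat.beq_refl d] at h5
    simp only [Bool.or_eq_true] at h5
    rcases h5 with h5 | h5
    · rcases (by simpa using inPts_iff.mp h5 : d = 0 ∨ d = 88677) with h | h
      · exact Or.inl h
      · exact Or.inr (Or.inl h)
    · obtain ⟨u, hu⟩ := inEnts_iff.mp h5
      have := List.all_eq_true.mp he _ hu
      simp only [okEnt, force_eq, Bool.and_eq_true, List.all_eq_true, blt_iff, Bool.not_eq_true'] at this
      exact Or.inr (Or.inr ⟨wordOf u, this.1.1, Nat.eq_of_beq_eq_true this.1.2, this.2⟩)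

end CfsgLib.CosetEnum.Fi24Table.Out
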