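/-
Transpositions, points and the projection onto Fi23, for the automorphisms of the derived group of Fi24.
-/
import Cfsg.Agent.Lib.CosetEnum.Fi24Table.GenFix
import Cfsg.Agent.Lib.CosetEnum.Fi24Table.Simple
import Cfsg.Agent.Lib.CosetEnum.Fi24Table.Out.Fun
import Cfsg.Agent.Lib.CosetEnum.Fi23Aut.Main

set_option autoImplicit false
set_option maxRecDepth 1000000

open Cfsg

namespace CfsgLib.CosetEnum.Fi24Table.Out

open CfsgLib.CosetEnum

local notation "P" => presFi24.Grp
local notation "σ" => presFi24.σ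

/-- The action on points. -/
noncomputable abbrev π (g : P) : Equiv.Perm (Fin cert.T.n) := cert.hom hltRels g

theorem stab : cert.StabIsCent hltRels (σ 0) :=
  cert.stabIsCent_of_centralizer hltRels hidFi24 hhw' centralizer_eq

theorem ext24 {a b : P} (h : ∀ d, π a d = π b d) : a = b := by
  refine (inv_mul_eq_one.mp (one_of_fix_gens (g := b⁻¹ * a) fun d _ => ?_)).symm
  rw [map_mul, Equiv.Perm.mul_apply, show cert.hom hltRels a d = cert.hom hltRels b d from h d, map_inv]
  exact Equiv.symm_apply_apply _ _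

/-- The transpositions commuting with `t`, other than `t`. -/
def Nb (t : P) : Set P := {d | d ∈ Dset ∧ d ≠ t ∧ Commute t d}

/-- A transposition is at a point. -/
def At (d : P) (q : ℕ) : Prop := ∃ h : q < cert.T.n, cert.IsPt hltRels (σ 0) d ⟨q, h⟩

theorem At.mem {d : P} {q : ℕ} (h : At d q) : d ∈ Dset := cert.isPt_mem hltRels h.2

theorem At.eq {d e : P} {q : ℕ} (h : At d q) (h' : At e q) : d = e := cert.isPt_unique hltRels stab h.2 h'.2

theorem At.lt {d : P} {q : ℕ} (h : At d q) : q < 306936 := h.1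

theorem exists_at {d : P} (hd : d ∈ Dset) : ∃ q, At d q := by
  obtain ⟨q, hq⟩ := cert.isPt_of_mem hltRels hd
  exact ⟨q, q.2, hq⟩

theorem At.conj {d : P} {q : ℕ} (h : At d q) (g : P) : At (g * d * g⁻¹) (π g ⟨q, h.1⟩ : ℕ) :=
  ⟨(π g ⟨q, h.1⟩).2, cert.isPt_conj hltRels h.2 g⟩

theorem At.comm {d e : P} {f : ℕ → ℕ} {q : ℕ} (hd : cert.Realises hltRels d f) (he : At e q) :
    f q = q ↔ Commute d e := by
  refine Iff.trans ?_ (cert.isPt_fix hltRels stab he.2 d)
  constructor
  · exact fun h => Fin.ext ((hd _).trans h)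
  · exact fun h => (hd ⟨q, he.1⟩).symm.trans (congrArg Fin.val h)

theorem At.inj {d : P} {q q' : ℕ} (h : At d q) (h' : At d q') : q = q' := by
  obtain ⟨u, hu, hu'⟩ := h.2
  obtain ⟨v, hv, hv'⟩ := h'.2
  have hc : (v⁻¹ * u) * σ 0 = σ 0 * (v⁻¹ * u) := by
    calc v⁻¹ * u * σ 0 = v⁻¹ * (u * σ 0 * u⁻¹) * u := by group
      _ = v⁻¹ * (v * σ 0 * v⁻¹) * u := by rw [hu, hv]
      _ = σ 0 * (v⁻¹ * u) := by group
  have h0 := congrArg (cert.hom hltRels v) ((stab (v⁻¹ * u)).mpr hc)
  rw [← Equiv.Perm.mul_apply, ← map_mul, mul_inv_cancel_left, hu', hv'] at h0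
  exact congrArg Fin.val h0

theorem real_G {x : ℕ} (hx : x < 12) : cert.Realises hltRels (σ x) (fG x) := fun d =>
  cert.hom_act hltRels hidFi24 (show x < presFi24.k from hx) d

/-- The transposition given by a word. -/
noncomputable def dW (w : List ℕ) : P := W w * σ 0 * (W w)⁻¹

theorem real_W {w : List ℕ} (hw : ∀ x ∈ w, x < 12) : cert.Realises hltRels (dW w) (fW w) := fun d =>
  cert.realises_conj hltRels hidFi24 (real_G (x := 0) (by norm_num)) w hw d

theorem at_W {w : List ℕ} (hw : ∀ x ∈ w, x < 12) {q : ℕ} (hq : q < 306936)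
    (hr : runT table 12 w.reverse 0 = q) : At (dW w) q :=
  ⟨hq, cert.isPt_word hltRels hidFi24 w hw hq hr⟩

theorem at_zero : At (σ 0) 0 := ⟨cert.hn, cert.isPt_base hltRels⟩

theorem at_gen {y : ℕ} (hy : y < 12) : At (σ y) (genPts24.getD y 0) := by
  obtain ⟨h1, h2, h3, h4⟩ := genPath_ok y hy
  have h := at_W h3 (genPts24_lt y hy) h4
  rwa [dW, gw_conj _ 0 h1, h2] at h

/-- The six transpositions commuting with the element of order 13. -/
noncomputable def dF (i : ℕ) : P := dW (wF i)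

theorem wF_ok : ∀ i < 6, (∀ x ∈ wF i, x < 12) ∧ pF i < 306936 ∧ runT table 12 (wF i).reverse 0 = pF i := by
  decide +kernel

theorem at_F {i : ℕ} (hi : i < 6) : At (dF i) (pF i) := at_W (wF_ok i hi).1 (wF_ok i hi).2.1 (wF_ok i hi).2.2

theorem real_F {i : ℕ} (hi : i < 6) : cert.Realises hltRels (dF i) (fW (wF i)) := real_W (wF_ok i hi).1

theorem dF_mem {i : ℕ} (hi : i < 6) : dF i ∈ Dset := (at_F hi).mem

theorem dF_inj {i j : ℕ} (hi : i < 6) (hj : j < 6) (h : dF i = dF j) : i = j :=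
  (show ∀ i < 6, ∀ j < 6, pF i = pF j → i = j by decide +kernel) i hi j hj ((at_F hi).inj (h ▸ at_F hj))

theorem dF_zero : dF 0 = σ 0 := by
  have h := at_F (i := 0) (by norm_num)
  rw [show pF 0 = 0 by decide +kernel] at h
  exact h.eq at_zero

theorem dF_one : dF 1 = σ 1 := by
  have h := at_F (i := 1) (by norm_num)
  rw [show pF 1 = genPts24.getD 1 0 by decide +kernel] at h
  exact h.eq (at_gen (by norm_num))

theorem dF_two : dF 2 = σ 0 * σ 1 * σ 0 := by
  have h := (at_gen (y := 1) (by norm_num)).conj (σ 0)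
  rw [inv_σ, real_G (x := 0) (by norm_num), show fG 0 (genPts24.getD 1 0) = pF 2 by decide +kernel] at h
  exact (at_F (i := 2) (by norm_num)).eq h

theorem comm_table : ∀ i < 6, ∀ j < 6, (fW (wF i) (pF j) = pF j ↔ i = j ∨ ¬ (i < 3 ↔ j < 3)) := by
  decide +kernel

/-- Two of the six commute when they are equal or in different triples. -/
theorem comm_F {i j : ℕ} (hi : i < 6) (hj : j < 6) : Commute (dF i) (dF j) ↔ i = j ∨ ¬ (i < 3 ↔ j < 3) := by
  rw [← At.comm (real_F hi) (at_F hj)]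
  exact comm_table i hi j hj

/-- The element of order 13. -/
noncomputable def ye : P := W xl.reverse

theorem real_y : cert.Realises hltRels ye fy := fun d => by
  rw [ye, cert.hom_word_run' hltRels hidFi24 xl.reverse (by decide) d, List.reverse_reverse]
  rfl

theorem y_comm {i : ℕ} (hi : i < 6) : Commute ye (dF i) :=
  (At.comm real_y (at_F hi)).mp ((show ∀ i < 6, fy (pF i) = pF i by decide +kernel) i hi)

theorem y_mem : ye ∈ cert.sub := mem_sub_iff.mpr ((stab ye).mpr (dF_zero ▸ (y_comm (i := 0) (by norm_num)).eq))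

theorem sgn_D {d : P} (hd : d ∈ Dset) : sgn d = -1 := by
  obtain ⟨g, rfl⟩ := isConj_iff.mp hd
  rw [map_mul, map_mul, map_inv, sgn_σ0, mul_comm (sgn g), mul_assoc, mul_inv_cancel, mul_one]

theorem sgn_word : ∀ w : List ℕ, (∀ x ∈ w, x < 12) → sgn (W w) = (-1) ^ w.length := by
  intro w
  induction w with
  | nil => intro _; exact map_one sgn
  | cons x w ih =>
    intro h
    show sgn (σ x * W w) = _
    rw [map_mul, sgn_σ (h x (List.mem_cons_self ..)), ih fun y hy => h y (List.mem_cons_of_mem _ hy),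
      List.length_cons, pow_succ']

theorem sgn_y : sgn ye = 1 := by
  rw [ye, sgn_word _ (by decide +kernel), show xl.reverse.length = 2 * 8 by decide +kernel, pow_mul, Int.units_sq,
    one_pow]

theorem mem_der {g : P} : g ∈ commutator P ↔ sgn g = 1 := by
  refine ⟨fun h => MonoidHom.mem_ker.mp (commutator_le_sgn_ker h), fun h => ?_⟩
  by_contra hg
  have hout : σ 0 ∉ commutator P := fun h' => absurd (sgn_σ0.symm.trans
    (MonoidHom.mem_ker.mp (commutator_le_sgn_ker h'))) (by decide)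
  have h' := commutator_le_sgn_ker ((Subgroup.mul_mem_iff_of_index_two index_commutator).mpr
    (show g ∈ commutator P ↔ σ 0 ∈ commutator P from iff_of_false hg hout))
  rw [MonoidHom.mem_ker, map_mul, h, one_mul, sgn_σ0] at h'
  exact absurd h' (by decide)

/-! ### The projection onto Fi23 -/

theorem proj_zero : proj (gS 0) = 1 :=
  MonoidHom.mem_ker.mp (proj_ker.symm ▸ Subgroup.subset_closure (Or.inl rfl))

theorem proj_word (w : List ℕ) (hw : ∀ x ∈ w, x < 10) : ∃ g : cert.sub,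
    (g : P) = W (w.map (· + 2)) ∧ proj g = (w.map presFi23.σ).prod := by
  obtain ⟨g, hg, e⟩ := τq_word w hw
  refine ⟨g, hg, ψ_bij.injective ?_⟩
  show ψ ((MulEquiv.ofBijective ψ ψ_bij).symm (QuotientGroup.mk g)) = _
  rw [show ψ ((MulEquiv.ofBijective ψ ψ_bij).symm (QuotientGroup.mk g)) = QuotientGroup.mk g from
    (MulEquiv.ofBijective ψ ψ_bij).apply_symm_apply _, ← e, map_list_prod, List.map_map]
  refine congrArg List.prod (List.map_congr_left fun x hx => ?_)
  show τq x = ψ (presFi23.σ x)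
  rw [Pres.σ, if_pos (show x < presFi23.k from hw x hx)]
  refine Eq.trans ?_ (PresentedGroup.toGroup.of _).symm
  show τq x = τq (presFi23.idx (presFi23.gen x))
  rw [(show ∀ i < 10, presFi23.idx (presFi23.gen i) = i by decide) x (hw x hx)]

theorem proj_gS {x : ℕ} (hx : x < 10) : proj (gS (x + 2)) = presFi23.σ x := by
  obtain ⟨g, hg, e⟩ := proj_word [x] (by simpa using hx)
  rw [List.map_singleton, List.prod_singleton] at e
  rw [← e, show gS (x + 2) = g from Subtype.ext (by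
    rw [gS_val ((show ∀ x < 10, x + 2 ∈ [0, 2, 3, 4, 5, 6, 7, 8, 9, 10, 11] by decide) x hx), hg]; simp [W])]

theorem proj_eq_one {g : cert.sub} (h : proj g = 1) : g = 1 ∨ g = gS 0 := by
  rw [← MonoidHom.mem_ker, proj_ker] at h
  have hN : N0 ≤ Subgroup.zpowers (gS 0) := by
    refine (Subgroup.closure_le _).mpr ?_
    rintro x (rfl | rfl)
    · exact Subgroup.mem_zpowers _
    · rw [show (⟨W spiderW, spider_mem⟩ : cert.sub) = 1 from Subtype.ext spider_one]
      exact one_mem _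
  obtain ⟨m, hm⟩ := hN h
  have h2 : gS 0 ^ (2 : ℤ) = 1 := by
    rw [zpow_two]
    exact Subtype.ext (by rw [Subgroup.coe_mul, gS_val (by decide)]; exact presFi24.σ_sq 0)
  rcases Int.even_or_odd' m with ⟨q, rfl | rfl⟩
  · left
    rw [← hm]; simp only; rw [zpow_mul, h2, one_zpow]
  · right
    rw [← hm]; simp only; rw [zpow_add, zpow_mul, h2, one_zpow, one_mul, zpow_one]

/-- The projection separates elements of the same sign. -/
theorem proj_inj {g h : cert.sub} (hp : proj g = proj h) (hs : sgn (g : P) = sgn (h : P)) : g = h := by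
  rcases proj_eq_one (show proj (h⁻¹ * g) = 1 by rw [map_mul, map_inv, hp, inv_mul_cancel]) with e | e
  · exact (inv_mul_eq_one.mp e).symm
  · have := congrArg (fun k : cert.sub => sgn (k : P)) e
    simp only [Subgroup.coe_mul, Subgroup.coe_inv, map_mul, map_inv, hs, inv_mul_cancel,
      gS_val (show (0 : ℕ) ∈ [0, 2, 3, 4, 5, 6, 7, 8, 9, 10, 11] by decide), sgn_σ0] at this
    exact absurd this (by decide)

theorem proj_y : proj ⟨ye, y_mem⟩ = Fi23Aut.xe := by
  obtain ⟨g, hg, e⟩ := proj_word Fi23Aut.xw.reverse (by decide)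
  rw [Fi23Aut.xe, ← e]
  congr 1
  exact Subtype.ext (by rw [hg, show Fi23Aut.xw.reverse.map (· + 2) = xl.reverse by decide +kernel]; rfl)

theorem y_pow : ye ^ 13 = 1 := by
  have h := proj_inj (g := ⟨ye, y_mem⟩ ^ 13) (h := 1) (by rw [map_pow, proj_y, Fi23Aut.x_pow, map_one])
    (by rw [SubgroupClass.coe_pow, map_pow, sgn_y, one_pow, OneMemClass.coe_one, map_one])
  exact congrArg Subtype.val h

theorem y_ne : ye ≠ 1 := fun h => Fi23Aut.x_ne (by
  rw [← proj_y, show (⟨ye, y_mem⟩ : cert.sub) = 1 from Subtype.ext h, map_one])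

theorem y_order : orderOf ye = 13 := by
  haveI : Fact (Nat.Prime 13) := ⟨by norm_num⟩
  exact orderOf_eq_prime y_pow y_ne

theorem two_commute : Commute (σ 0) (σ 2) := comm (x := 0) (y := 2) (by decide +kernel)

theorem two_ne : σ 2 ≠ σ 0 := fun h => rootT_ne (Or.inr rfl) (rootT_eight.trans h)

theorem sub_comm {h : P} (hh : h ∈ cert.sub) : h * σ 0 * h⁻¹ = σ 0 := by
  rw [(l_central hh).eq, mul_inv_cancel_right]

/-- The neighbours of the first generator are conjugate in its centraliser. -/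
theorem near_form {d : P} (hd : d ∈ Nb (σ 0)) : ∃ h ∈ cert.sub, d = h * σ 2 * h⁻¹ := by
  obtain ⟨g, hg⟩ := isConj_iff.mp hd.1
  obtain ⟨r, hr, h, hh, e, -⟩ := conj_form g
  rw [hg] at e
  refine ⟨h, hh, ?_⟩
  rcases hr with rfl | rfl | rfl
  · exact absurd (by rw [e, rootT, show root 0 = 1 from rfl, one_mul, inv_one, mul_one, sub_comm hh]) hd.2.1
  · exfalso
    have h01 : σ 0 * σ 1 * σ 0 = σ 1 * σ 0 * σ 1 := braid01
    have hc : Commute (σ 0) (rootT 1) := by
      have := hd.2.2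
      rw [e, ← sub_comm hh] at this
      exact (Commute.conj_iff h).mp this
    rw [rootT_one] at hc
    have h1 := (comm_F (i := 0) (j := 2) (by norm_num) (by norm_num))
    rw [dF_zero, dF_two] at h1
    simp [h1] at hc
  · rw [e, rootT_eight]

theorem D_conj {d : P} (h : P) (hd : d ∈ Dset) : h * d * h⁻¹ ∈ Dset := by
  obtain ⟨g, rfl⟩ := isConj_iff.mp hd
  exact isConj_iff.mpr ⟨h * g, by group⟩

theorem nb_conj {h d : P} (hh : h ∈ cert.sub) (hd : d ∈ Nb (σ 0)) : h * d * h⁻¹ ∈ Nb (σ 0) := by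
  refine ⟨D_conj h hd.1, fun e => hd.2.1 ?_, ?_⟩
  · calc d = h⁻¹ * (h * d * h⁻¹) * h := by group
      _ = h⁻¹ * (h * σ 0 * h⁻¹) * h := by rw [e, sub_comm hh]
      _ = σ 0 := by group
  · have := (Commute.conj_iff h).mpr hd.2.2
    rwa [sub_comm hh] at this

theorem nb_sub {d : P} (hd : d ∈ Nb (σ 0)) : d ∈ cert.sub := mem_sub_iff.mpr ((stab d).mpr hd.2.2.symm.eq)

theorem proj_near {d : P} (hd : d ∈ Nb (σ 0)) :
    ∃ k : presFi23.Grp, proj ⟨d, nb_sub hd⟩ = k * presFi23.σ 0 * k⁻¹ := by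
  obtain ⟨h, hh, rfl⟩ := near_form hd
  refine ⟨proj ⟨h, hh⟩, ?_⟩
  rw [← proj_gS (x := 0) (by norm_num), ← map_inv, ← map_mul, ← map_mul]
  exact congrArg proj (Subtype.ext (by simp [gS_val (show (2 : ℕ) ∈ [0, 2, 3, 4, 5, 6, 7, 8, 9, 10, 11] by decide)]))

theorem exists_lift (k : presFi23.Grp) :
    ∃ d, ∃ hd : d ∈ Nb (σ 0), proj ⟨d, nb_sub hd⟩ = k * presFi23.σ 0 * k⁻¹ := by
  obtain ⟨h, rfl⟩ := proj_surj k
  have hd : (h : P) * σ 2 * (h : P)⁻¹ ∈ Nb (σ 0) :=
    nb_conj h.2 ⟨σ_mem_D 2 (by norm_num), two_ne, two_commute⟩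
  refine ⟨_, hd, ?_⟩
  rw [← proj_gS (x := 0) (by norm_num), ← map_inv, ← map_mul, ← map_mul]
  exact congrArg proj (Subtype.ext (by simp [gS_val (show (2 : ℕ) ∈ [0, 2, 3, 4, 5, 6, 7, 8, 9, 10, 11] by decide)]))

theorem nb_unique {d e : P} (hd : d ∈ Nb (σ 0)) (he : e ∈ Nb (σ 0))
    (h : proj ⟨d, nb_sub hd⟩ = proj ⟨e, nb_sub he⟩) : d = e :=
  congrArg Subtype.val (proj_inj h (by rw [sgn_D hd.1, sgn_D he.1]))

end CfsgLib.CosetEnum.Fi24Table.Out
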