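/-
The common neighbours of the two transpositions that are to be exchanged, with words.
-/
import Cfsg.Agent.Lib.CosetEnum.Basic

set_option autoImplicit false
set_option Elab.async false
set_option maxRecDepth 1000000

namespace CfsgLib.CosetEnum.Fi24Table.Out

/-- The points in range 126. -/
def cand126 : List (ℕ × ℕ) :=
  []

/-- The points in range 127. -/
def cand127 : List (ℕ × ℕ) :=
  []

/-- The points in range 128. -/
def cand128 : List (ℕ × ℕ) :=
  []

/-- The points in range 129. -/
def cand129 : List (ℕ × ℕ) :=
  []

/-- The points in range 130. -/
def cand130 : List (ℕ × ℕ) :=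
  []

/-- The points in range 131. -/
def cand131 : List (ℕ × ℕ) :=
  [(105084, 0x1021345678a54365476ba54326547687a5b023), (105095, 0x1021345678a5436576ba54326547687a5ba023), (105099, 0x1021345678a54365476ba543654765a567b023), (105103, 0x1021345678a54365476ba54365476a5678b023), (105116, 0x1021345678a5436576ba5432654768a54ba023), (105123, 0x1021345678a5436547ba543654768a5678b023), (105227, 0x1021345678a5436576ba543265476a546ba023), (105270, 0x1021345678a54365476ba54326547658a5b023), (105280, 0x1021345678a54365476ba5432654765a5ba023), (105283, 0x1021345678a54365476ba5432654765a56b023), (105286, 0x1021345678a54365476ba5432654765a54b023), (105299, 0x1021345678a5436576ba5432654765a54ba023), (105351, 0x1021345678a54365476ba54326543768a5b023), (105361, 0x1021345678a54365476ba5432654376a5ba023), (105416, 0x1021345678a54365476ba5432654768a5ba023), (105423, 0x1021345678a54365476ba543265476a56ba023), (105428, 0x1021345678a54365476ba543265476a54ba023), (105445, 0x1021345678a5436576ba543265476a54ba5023), (105449, 0x1021345678a5436547ba543654768a567ba023), (105461, 0x1021345678a5436547ba5432654768a567b023), (105497, 0x1021345678a54365476ba54326576a54ba5023), (105506,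 0x1021345678a5436547ba54365478a56ba54023), (105510, 0x1021345678a5436547ba54365478a567ba5023), (105518, 0x1021345678a5436547ba543265478a567ba023), (105561, 0x1021345678a54365476ba54326547a56ba5023)]

end CfsgLib.CosetEnum.Fi24Table.Out
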