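/-
The common neighbours of the two transpositions that are to be exchanged, with words.
-/
import Cfsg.Agent.Lib.CosetEnum.Basic

set_option autoImplicit false
set_option Elab.async false
set_option maxRecDepth 1000000

namespace CfsgLib.CosetEnum.Fi24Table.Out

/-- The points in range 156. -/
def cand156 : List (ℕ × ℕ) :=
  [(125170, 0x1021345678a54365476ba54326547687a5ba024), (125178, 0x1021345678a54365476ba543654765a567ba024), (125183, 0x1021345678a54365476ba54365476a5678ba024), (125206, 0x1021345678a5436547ba543654768a5678ba024), (125307, 0x1021345678a5436576ba543265476a546ba5024), (125349, 0x1021345678a54365476ba54326547658a5ba024), (125356, 0x1021345678a54365476ba5432654765a56ba024), (125361, 0x1021345678a54365476ba5432654765a54ba024), (125381, 0x1021345678a5436576ba5432654765a54ba5024), (125434, 0x1021345678a54365476ba54326543768a5ba024), (125500, 0x1021345678a54365476ba543265476a56ba5024), (125505, 0x1021345678a54365476ba543265476a54ba5024), (125519, 0x1021345678a5436547ba543654768a56ba54024), (125523, 0x1021345678a5436547ba543654768a567ba5024), (125531, 0x1021345678a5436547ba5432654768a567ba024), (125577, 0x1021345678a5436547ba54365478a567ba54024),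 (125581, 0x1021345678a5436547ba54365478a567ba56024), (125589, 0x1021345678a54365476ba5436547a56ba543024)]

/-- The points in range 157. -/
def cand157 : List (ℕ × ℕ) :=
  [(125654, 0x1021345678a54365476ba543654765a543ba024), (125666, 0x1021345678a5436547ba5432654376a54ba5024), (125763, 0x1021345678a5436547ba543654765a5678ba024), (125768, 0x1021345678a5436547ba54365476a54367ba024), (125780, 0x1021345678a5436547ba543654765a567ba5024), (125792, 0x1021345678a543657ba543654765a5467ba5024), (125795, 0x1021345678a5436547ba54365476a54678ba024), (125817, 0x1021345678a5436547ba543265476a546ba5024), (125821, 0x1021345678a543657ba543654765a5436ba5024), (125827, 0x1021345678a5436547ba5436547687a56ba5024), (125918, 0x1021345678a54365476ba54365476a567ba5024), (125923, 0x1021345678a5436576ba54365476a5467ba5024), (125936, 0x1021345678a5436547ba543654765a56ba54024), (125942, 0x1021345678a5436576ba54365476a5436ba5024), (126002, 0x1021345678a54365476ba54365476a54ba56024), (126007, 0x1021345678a54365476ba54365476a56ba54024), (126017, 0x1021345678a5436547ba54365476a567ba54024), (126022, 0x1021345678a5436547ba54365476a5467ba5024), (126029, 0x1021345678a543657ba54365476a5436ba54024),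 (126033, 0x1021345678a543657ba54365476a54367ba5024), (126052, 0x1021345678a5436547ba5432654768a56ba5024), (126062, 0x1021345678a5436576aba54365476a543ba5024), (126187, 0x1021345678a5436547ba5432654765a56ba5024), (126224, 0x1021345678a5436576ba5436547687a56ba5024), (126355, 0x1021345678a5436547ba543265476a56ba54024), (126385, 0x1021345678a54365476ba543654765a56ba5024), (126389, 0x1021345678a54365476ba543654765a54ba5024), (126398, 0x1021345678a5436547ba54365476a546ba54024)]

/-- The points in range 158. -/
def cand158 : List (ℕ × ℕ) :=
  [(126401, 0x1021345678a5436576ba543654765a543ba5024), (126485, 0x1021345678a54365476ba54365476a543ba5024), (126497, 0x1021345678a5436547ba54365476a56ba543024), (126542, 0x1021345678a5436547ba54365476a5436ba5024), (126657, 0x12345678a543216576ba543654765a54ba56024), (126658, 0x12345678a543216576ba54365476a54ba567024), (126659, 0x12345678a543216576ba54365476a546ba56024), (126660, 0x12345678a543216576ba54365476a546ba54024), (126661, 0x12345678a543216576ba543654765a56ba54024)]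

/-- The points in range 159. -/
def cand159 : List (ℕ × ℕ) :=
  []

/-- The points in range 160. -/
def cand160 : List (ℕ × ℕ) :=
  []

/-- The points in range 161. -/
def cand161 : List (ℕ × ℕ) :=
  []

end CfsgLib.CosetEnum.Fi24Table.Out
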