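/-
The common neighbours of the two transpositions that are to be exchanged, with words.
-/
import Cfsg.Agent.Lib.CosetEnum.Basic

set_option autoImplicit false
set_option Elab.async false
set_option maxRecDepth 1000000

namespace CfsgLib.CosetEnum.Fi24Table.Out

/-- The points in range 168. -/
def cand168 : List (ℕ × ℕ) :=
  []

/-- The points in range 169. -/
def cand169 : List (ℕ × ℕ) :=
  []

/-- The points in range 170. -/
def cand170 : List (ℕ × ℕ) :=
  []

/-- The points in range 171. -/
def cand171 : List (ℕ × ℕ) :=
  []

/-- The points in range 172. -/
def cand172 : List (ℕ × ℕ) :=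
  []

/-- The points in range 173. -/
def cand173 : List (ℕ × ℕ) :=
  []

end CfsgLib.CosetEnum.Fi24Table.Out
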