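/-
The common neighbours of the two transpositions that are to be exchanged, with words.
-/
import Cfsg.Agent.Lib.CosetEnum.Basic

set_option autoImplicit false
set_option Elab.async false
set_option maxRecDepth 1000000

namespace CfsgLib.CosetEnum.Fi24Table.Out

/-- The points in range 180. -/
def cand180 : List (ℕ × ℕ) :=
  []

/-- The points in range 181. -/
def cand181 : List (ℕ × ℕ) :=
  []

/-- The points in range 182. -/
def cand182 : List (ℕ × ℕ) :=
  []

/-- The points in range 183. -/
def cand183 : List (ℕ × ℕ) :=
  [(146732, 0x1021345678a54365476ba543654765a567ba5025), (146838, 0x1021345678a5436547ba5432654765a56ba54025), (146887, 0x1021345678a54365476ba5432654765a56ba5025), (146892, 0x1021345678a54365476ba5432654765a54ba5025), (146911, 0x1021345678a5436547ba543265476a546ba54025), (147028, 0x1021345678a5436547ba543654768a567ba54025), (147032, 0x1021345678a5436547ba543654768a567ba56025), (147040, 0x1021345678a54365476ba54365476a56ba543025), (147144, 0x1021345678a54365476ba543654765a543ba5025)]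

/-- The points in range 184. -/
def cand184 : List (ℕ × ℕ) :=
  [(147226, 0x1021345678a54365476ba543654765a54ba56025), (147231, 0x1021345678a54365476ba543654765a56ba54025), (147240, 0x1021345678a5436547ba543654765a567ba54025), (147249, 0x1021345678a543657ba543654765a5436ba54025), (147252, 0x1021345678a5436547ba54365476a54678ba5025), (147372, 0x1021345678a5436547ba543654765a56ba543025), (147378, 0x1021345678a5436547ba54365476a5467ba56025)]

/-- The points in range 185. -/
def cand185 : List (ℕ × ℕ) :=
  []

end CfsgLib.CosetEnum.Fi24Table.Out
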