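/-
The common neighbours of the two transpositions that are to be exchanged, with words.
-/
import Cfsg.Agent.Lib.CosetEnum.Basic

set_option autoImplicit false
set_option Elab.async false
set_option maxRecDepth 1000000

namespace CfsgLib.CosetEnum.Fi24Table.Out

/-- The points in range 222. -/
def cand222 : List (ℕ × ℕ) :=
  []

/-- The points in range 223. -/
def cand223 : List (ℕ × ℕ) :=
  []

/-- The points in range 224. -/
def cand224 : List (ℕ × ℕ) :=
  []

/-- The points in range 225. -/
def cand225 : List (ℕ × ℕ) :=
  []

/-- The points in range 226. -/
def cand226 : List (ℕ × ℕ) :=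
  []

/-- The points in range 227. -/
def cand227 : List (ℕ × ℕ) :=
  []

end CfsgLib.CosetEnum.Fi24Table.Out
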