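/-
The common neighbours of the two transpositions that are to be exchanged, with words.
-/
import Cfsg.Agent.Lib.CosetEnum.Basic

set_option autoImplicit false
set_option Elab.async false
set_option maxRecDepth 1000000

namespace CfsgLib.CosetEnum.Fi24Table.Out

/-- The points in range 36. -/
def cand36 : List (ℕ × ℕ) :=
  [(28828, 0x1021345678a54365ba543654765ab01d), (28839, 0x1021345678a543654ba543654765a01d), (28842, 0x1021345678a54365ba543654765a501d), (28860, 0x12345678a5432165ba543654765ab01d)]

/-- The points in range 37. -/
def cand37 : List (ℕ × ℕ) :=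
  []

/-- The points in range 38. -/
def cand38 : List (ℕ × ℕ) :=
  []

/-- The points in range 39. -/
def cand39 : List (ℕ × ℕ) :=
  []

/-- The points in range 40. -/
def cand40 : List (ℕ × ℕ) :=
  []

/-- The points in range 41. -/
def cand41 : List (ℕ × ℕ) :=
  []

end CfsgLib.CosetEnum.Fi24Table.Out
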