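/-
The scans for the automorphisms of the derived group of Fi24.
-/
import Cfsg.Agent.Lib.CosetEnum.Fi24Table.Out.Fun
import Cfsg.Agent.Lib.CosetEnum.Fi24Table.Out.Cand0

set_option autoImplicit false
set_option Elab.async false
set_option maxRecDepth 1000000

namespace CfsgLib.CosetEnum.Fi24Table.Out

open CfsgLib.CosetEnum

theorem pts0_chk : okRange (okPt cand0) 0 800 = true := by decide +kernel

theorem ent0_chk : cand0.all okEnt = true := by decide +kernel

theorem pts1_chk : okRange (okPt cand1) 800 800 = true := by decide +kernel

theorem ent1_chk : cand1.all okEnt = true := by decide +kernel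

theorem pts2_chk : okRange (okPt cand2) 1600 800 = true := by decide +kernel

theorem ent2_chk : cand2.all okEnt = true := by decide +kernel

theorem pts3_chk : okRange (okPt cand3) 2400 800 = true := by decide +kernel

theorem ent3_chk : cand3.all okEnt = true := by decide +kernel

theorem pts4_chk : okRange (okPt cand4) 3200 800 = true := by decide +kernel

theorem ent4_chk : cand4.all okEnt = true := by decide +kernel

theorem pts5_chk : okRange (okPt cand5) 4000 800 = true := by decide +kernel

theorem ent5_chk : cand5.all okEnt = true := by decide +kernel

end CfsgLib.CosetEnum.Fi24Table.Out
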