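/-
The scans for the automorphisms of the derived group of Fi24.
-/
import Cfsg.Agent.Lib.CosetEnum.Fi24Table.Out.Fun
import Cfsg.Agent.Lib.CosetEnum.Fi24Table.Out.Cand1

set_option autoImplicit false
set_option Elab.async false
set_option maxRecDepth 1000000

namespace CfsgLib.CosetEnum.Fi24Table.Out

open CfsgLib.CosetEnum

theorem pts6_chk : okRange (okPt cand6) 4800 800 = true := by decide +kernel

theorem ent6_chk : cand6.all okEnt = true := by decide +kernel

theorem pts7_chk : okRange (okPt cand7) 5600 800 = true := by decide +kernel

theorem ent7_chk : cand7.all okEnt = true := by decide +kernel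

theorem pts8_chk : okRange (okPt cand8) 6400 800 = true := by decide +kernel

theorem ent8_chk : cand8.all okEnt = true := by decide +kernel

theorem pts9_chk : okRange (okPt cand9) 7200 800 = true := by decide +kernel

theorem ent9_chk : cand9.all okEnt = true := by decide +kernel

theorem pts10_chk : okRange (okPt cand10) 8000 800 = true := by decide +kernel

theorem ent10_chk : cand10.all okEnt = true := by decide +kernel

theorem pts11_chk : okRange (okPt cand11) 8800 800 = true := by decide +kernel

theorem ent11_chk : cand11.all okEnt = true := by decide +kernel

end CfsgLib.CosetEnum.Fi24Table.Out
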