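/-
The scans for the automorphisms of the derived group of Fi24.
-/
import Cfsg.Agent.Lib.CosetEnum.Fi24Table.Out.Fun
import Cfsg.Agent.Lib.CosetEnum.Fi24Table.Out.Cand10

set_option autoImplicit false
set_option Elab.async false
set_option maxRecDepth 1000000

namespace CfsgLib.CosetEnum.Fi24Table.Out

open CfsgLib.CosetEnum

theorem pts60_chk : okRange (okPt cand60) 48000 800 = true := by decide +kernel

theorem ent60_chk : cand60.all okEnt = true := by decide +kernel

theorem pts61_chk : okRange (okPt cand61) 48800 800 = true := by decide +kernel

theorem ent61_chk : cand61.all okEnt = true := by decide +kernel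

theorem pts62_chk : okRange (okPt cand62) 49600 800 = true := by decide +kernel

theorem ent62_chk : cand62.all okEnt = true := by decide +kernel

theorem pts63_chk : okRange (okPt cand63) 50400 800 = true := by decide +kernel

theorem ent63_chk : cand63.all okEnt = true := by decide +kernel

theorem pts64_chk : okRange (okPt cand64) 51200 800 = true := by decide +kernel

theorem ent64_chk : cand64.all okEnt = true := by decide +kernel

theorem pts65_chk : okRange (okPt cand65) 52000 800 = true := by decide +kernel

theorem ent65_chk : cand65.all okEnt = true := by decide +kernel

end CfsgLib.CosetEnum.Fi24Table.Out
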