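/-
The scans for the automorphisms of the derived group of Fi24.
-/
import Cfsg.Agent.Lib.CosetEnum.Fi24Table.Out.Fun
import Cfsg.Agent.Lib.CosetEnum.Fi24Table.Out.Cand11

set_option autoImplicit false
set_option Elab.async false
set_option maxRecDepth 1000000

namespace CfsgLib.CosetEnum.Fi24Table.Out

open CfsgLib.CosetEnum

theorem pts66_chk : okRange (okPt cand66) 52800 800 = true := by decide +kernel

theorem ent66_chk : cand66.all okEnt = true := by decide +kernel

theorem pts67_chk : okRange (okPt cand67) 53600 800 = true := by decide +kernel

theorem ent67_chk : cand67.all okEnt = true := by decide +kernel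

theorem pts68_chk : okRange (okPt cand68) 54400 800 = true := by decide +kernel

theorem ent68_chk : cand68.all okEnt = true := by decide +kernel

theorem pts69_chk : okRange (okPt cand69) 55200 800 = true := by decide +kernel

theorem ent69_chk : cand69.all okEnt = true := by decide +kernel

theorem pts70_chk : okRange (okPt cand70) 56000 800 = true := by decide +kernel

theorem ent70_chk : cand70.all okEnt = true := by decide +kernel

theorem pts71_chk : okRange (okPt cand71) 56800 800 = true := by decide +kernel

theorem ent71_chk : cand71.all okEnt = true := by decide +kernel

end CfsgLib.CosetEnum.Fi24Table.Out
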