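/-
The scans for the automorphisms of the derived group of Fi24.
-/
import Cfsg.Agent.Lib.CosetEnum.Fi24Table.Out.Fun
import Cfsg.Agent.Lib.CosetEnum.Fi24Table.Out.Cand12

set_option autoImplicit false
set_option Elab.async false
set_option maxRecDepth 1000000

namespace CfsgLib.CosetEnum.Fi24Table.Out

open CfsgLib.CosetEnum

theorem pts72_chk : okRange (okPt cand72) 57600 800 = true := by decide +kernel

theorem ent72_chk : cand72.all okEnt = true := by decide +kernel

theorem pts73_chk : okRange (okPt cand73) 58400 800 = true := by decide +kernel

theorem ent73_chk : cand73.all okEnt = true := by decide +kernel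

theorem pts74_chk : okRange (okPt cand74) 59200 800 = true := by decide +kernel

theorem ent74_chk : cand74.all okEnt = true := by decide +kernel

theorem pts75_chk : okRange (okPt cand75) 60000 800 = true := by decide +kernel

theorem ent75_chk : cand75.all okEnt = true := by decide +kernel

theorem pts76_chk : okRange (okPt cand76) 60800 800 = true := by decide +kernel

theorem ent76_chk : cand76.all okEnt = true := by decide +kernel

theorem pts77_chk : okRange (okPt cand77) 61600 800 = true := by decide +kernel

theorem ent77_chk : cand77.all okEnt = true := by decide +kernel

end CfsgLib.CosetEnum.Fi24Table.Out
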