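/-
The scans for the automorphisms of the derived group of Fi24.
-/
import Cfsg.Agent.Lib.CosetEnum.Fi24Table.Out.Fun
import Cfsg.Agent.Lib.CosetEnum.Fi24Table.Out.Cand13

set_option autoImplicit false
set_option Elab.async false
set_option maxRecDepth 1000000

namespace CfsgLib.CosetEnum.Fi24Table.Out

open CfsgLib.CosetEnum

theorem pts78_chk : okRange (okPt cand78) 62400 800 = true := by decide +kernel

theorem ent78_chk : cand78.all okEnt = true := by decide +kernel

theorem pts79_chk : okRange (okPt cand79) 63200 800 = true := by decide +kernel

theorem ent79_chk : cand79.all okEnt = true := by decide +kernel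

theorem pts80_chk : okRange (okPt cand80) 64000 800 = true := by decide +kernel

theorem ent80_chk : cand80.all okEnt = true := by decide +kernel

theorem pts81_chk : okRange (okPt cand81) 64800 800 = true := by decide +kernel

theorem ent81_chk : cand81.all okEnt = true := by decide +kernel

theorem pts82_chk : okRange (okPt cand82) 65600 800 = true := by decide +kernel

theorem ent82_chk : cand82.all okEnt = true := by decide +kernel

theorem pts83_chk : okRange (okPt cand83) 66400 800 = true := by decide +kernel

theorem ent83_chk : cand83.all okEnt = true := by decide +kernel

end CfsgLib.CosetEnum.Fi24Table.Out
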