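/-
The scans for the automorphisms of the derived group of Fi24.
-/
import Cfsg.Agent.Lib.CosetEnum.Fi24Table.Out.Fun
import Cfsg.Agent.Lib.CosetEnum.Fi24Table.Out.Cand14

set_option autoImplicit false
set_option Elab.async false
set_option maxRecDepth 1000000

namespace CfsgLib.CosetEnum.Fi24Table.Out

open CfsgLib.CosetEnum

theorem pts84_chk : okRange (okPt cand84) 67200 800 = true := by decide +kernel

theorem ent84_chk : cand84.all okEnt = true := by decide +kernel

theorem pts85_chk : okRange (okPt cand85) 68000 800 = true := by decide +kernel

theorem ent85_chk : cand85.all okEnt = true := by decide +kernel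

theorem pts86_chk : okRange (okPt cand86) 68800 800 = true := by decide +kernel

theorem ent86_chk : cand86.all okEnt = true := by decide +kernel

theorem pts87_chk : okRange (okPt cand87) 69600 800 = true := by decide +kernel

theorem ent87_chk : cand87.all okEnt = true := by decide +kernel

theorem pts88_chk : okRange (okPt cand88) 70400 800 = true := by decide +kernel

theorem ent88_chk : cand88.all okEnt = true := by decide +kernel

theorem pts89_chk : okRange (okPt cand89) 71200 800 = true := by decide +kernel

theorem ent89_chk : cand89.all okEnt = true := by decide +kernel

end CfsgLib.CosetEnum.Fi24Table.Out
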