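/-
The scans for the automorphisms of the derived group of Fi24.
-/
import Cfsg.Agent.Lib.CosetEnum.Fi24Table.Out.Fun
import Cfsg.Agent.Lib.CosetEnum.Fi24Table.Out.Cand15

set_option autoImplicit false
set_option Elab.async false
set_option maxRecDepth 1000000

namespace CfsgLib.CosetEnum.Fi24Table.Out

open CfsgLib.CosetEnum

theorem pts90_chk : okRange (okPt cand90) 72000 800 = true := by decide +kernel

theorem ent90_chk : cand90.all okEnt = true := by decide +kernel

theorem pts91_chk : okRange (okPt cand91) 72800 800 = true := by decide +kernel

theorem ent91_chk : cand91.all okEnt = true := by decide +kernel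

theorem pts92_chk : okRange (okPt cand92) 73600 800 = true := by decide +kernel

theorem ent92_chk : cand92.all okEnt = true := by decide +kernel

theorem pts93_chk : okRange (okPt cand93) 74400 800 = true := by decide +kernel

theorem ent93_chk : cand93.all okEnt = true := by decide +kernel

theorem pts94_chk : okRange (okPt cand94) 75200 800 = true := by decide +kernel

theorem ent94_chk : cand94.all okEnt = true := by decide +kernel

theorem pts95_chk : okRange (okPt cand95) 76000 800 = true := by decide +kernel

theorem ent95_chk : cand95.all okEnt = true := by decide +kernel

end CfsgLib.CosetEnum.Fi24Table.Out
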