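/-
The scans for the automorphisms of the derived group of Fi24.
-/
import Cfsg.Agent.Lib.CosetEnum.Fi24Table.Out.Fun
import Cfsg.Agent.Lib.CosetEnum.Fi24Table.Out.Cand16

set_option autoImplicit false
set_option Elab.async false
set_option maxRecDepth 1000000

namespace CfsgLib.CosetEnum.Fi24Table.Out

open CfsgLib.CosetEnum

theorem pts96_chk : okRange (okPt cand96) 76800 800 = true := by decide +kernel

theorem ent96_chk : cand96.all okEnt = true := by decide +kernel

theorem pts97_chk : okRange (okPt cand97) 77600 800 = true := by decide +kernel

theorem ent97_chk : cand97.all okEnt = true := by decide +kernel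

theorem pts98_chk : okRange (okPt cand98) 78400 800 = true := by decide +kernel

theorem ent98_chk : cand98.all okEnt = true := by decide +kernel

theorem pts99_chk : okRange (okPt cand99) 79200 800 = true := by decide +kernel

theorem ent99_chk : cand99.all okEnt = true := by decide +kernel

theorem pts100_chk : okRange (okPt cand100) 80000 800 = true := by decide +kernel

theorem ent100_chk : cand100.all okEnt = true := by decide +kernel

theorem pts101_chk : okRange (okPt cand101) 80800 800 = true := by decide +kernel

theorem ent101_chk : cand101.all okEnt = true := by decide +kernel

end CfsgLib.CosetEnum.Fi24Table.Out
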