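/-
The scans for the automorphisms of the derived group of Fi24.
-/
import Cfsg.Agent.Lib.CosetEnum.Fi24Table.Out.Fun
import Cfsg.Agent.Lib.CosetEnum.Fi24Table.Out.Cand17

set_option autoImplicit false
set_option Elab.async false
set_option maxRecDepth 1000000

namespace CfsgLib.CosetEnum.Fi24Table.Out

open CfsgLib.CosetEnum

theorem pts102_chk : okRange (okPt cand102) 81600 800 = true := by decide +kernel

theorem ent102_chk : cand102.all okEnt = true := by decide +kernel

theorem pts103_chk : okRange (okPt cand103) 82400 800 = true := by decide +kernel

theorem ent103_chk : cand103.all okEnt = true := by decide +kernel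

theorem pts104_chk : okRange (okPt cand104) 83200 800 = true := by decide +kernel

theorem ent104_chk : cand104.all okEnt = true := by decide +kernel

theorem pts105_chk : okRange (okPt cand105) 84000 800 = true := by decide +kernel

theorem ent105_chk : cand105.all okEnt = true := by decide +kernel

theorem pts106_chk : okRange (okPt cand106) 84800 800 = true := by decide +kernel

theorem ent106_chk : cand106.all okEnt = true := by decide +kernel

theorem pts107_chk : okRange (okPt cand107) 85600 800 = true := by decide +kernel

theorem ent107_chk : cand107.all okEnt = true := by decide +kernel

end CfsgLib.CosetEnum.Fi24Table.Out
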