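/-
The scans for the automorphisms of the derived group of Fi24.
-/
import Cfsg.Agent.Lib.CosetEnum.Fi24Table.Out.Fun
import Cfsg.Agent.Lib.CosetEnum.Fi24Table.Out.Cand18

set_option autoImplicit false
set_option Elab.async false
set_option maxRecDepth 1000000

namespace CfsgLib.CosetEnum.Fi24Table.Out

open CfsgLib.CosetEnum

theorem pts108_chk : okRange (okPt cand108) 86400 800 = true := by decide +kernel

theorem ent108_chk : cand108.all okEnt = true := by decide +kernel

theorem pts109_chk : okRange (okPt cand109) 87200 800 = true := by decide +kernel

theorem ent109_chk : cand109.all okEnt = true := by decide +kernel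

theorem pts110_chk : okRange (okPt cand110) 88000 800 = true := by decide +kernel

theorem ent110_chk : cand110.all okEnt = true := by decide +kernel

theorem pts111_chk : okRange (okPt cand111) 88800 800 = true := by decide +kernel

theorem ent111_chk : cand111.all okEnt = true := by decide +kernel

theorem pts112_chk : okRange (okPt cand112) 89600 800 = true := by decide +kernel

theorem ent112_chk : cand112.all okEnt = true := by decide +kernel

theorem pts113_chk : okRange (okPt cand113) 90400 800 = true := by decide +kernel

theorem ent113_chk : cand113.all okEnt = true := by decide +kernel

end CfsgLib.CosetEnum.Fi24Table.Out
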