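/-
The scans for the automorphisms of the derived group of Fi24.
-/
import Cfsg.Agent.Lib.CosetEnum.Fi24Table.Out.Fun
import Cfsg.Agent.Lib.CosetEnum.Fi24Table.Out.Cand19

set_option autoImplicit false
set_option Elab.async false
set_option maxRecDepth 1000000

namespace CfsgLib.CosetEnum.Fi24Table.Out

open CfsgLib.CosetEnum

theorem pts114_chk : okRange (okPt cand114) 91200 800 = true := by decide +kernel

theorem ent114_chk : cand114.all okEnt = true := by decide +kernel

theorem pts115_chk : okRange (okPt cand115) 92000 800 = true := by decide +kernel

theorem ent115_chk : cand115.all okEnt = true := by decide +kernel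

theorem pts116_chk : okRange (okPt cand116) 92800 800 = true := by decide +kernel

theorem ent116_chk : cand116.all okEnt = true := by decide +kernel

theorem pts117_chk : okRange (okPt cand117) 93600 800 = true := by decide +kernel

theorem ent117_chk : cand117.all okEnt = true := by decide +kernel

theorem pts118_chk : okRange (okPt cand118) 94400 800 = true := by decide +kernel

theorem ent118_chk : cand118.all okEnt = true := by decide +kernel

theorem pts119_chk : okRange (okPt cand119) 95200 800 = true := by decide +kernel

theorem ent119_chk : cand119.all okEnt = true := by decide +kernel

end CfsgLib.CosetEnum.Fi24Table.Out
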