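/-
The scans for the automorphisms of the derived group of Fi24.
-/
import Cfsg.Agent.Lib.CosetEnum.Fi24Table.Out.Fun
import Cfsg.Agent.Lib.CosetEnum.Fi24Table.Out.Cand2

set_option autoImplicit false
set_option Elab.async false
set_option maxRecDepth 1000000

namespace CfsgLib.CosetEnum.Fi24Table.Out

open CfsgLib.CosetEnum

theorem pts12_chk : okRange (okPt cand12) 9600 800 = true := by decide +kernel

theorem ent12_chk : cand12.all okEnt = true := by decide +kernel

theorem pts13_chk : okRange (okPt cand13) 10400 800 = true := by decide +kernel

theorem ent13_chk : cand13.all okEnt = true := by decide +kernel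

theorem pts14_chk : okRange (okPt cand14) 11200 800 = true := by decide +kernel

theorem ent14_chk : cand14.all okEnt = true := by decide +kernel

theorem pts15_chk : okRange (okPt cand15) 12000 800 = true := by decide +kernel

theorem ent15_chk : cand15.all okEnt = true := by decide +kernel

theorem pts16_chk : okRange (okPt cand16) 12800 800 = true := by decide +kernel

theorem ent16_chk : cand16.all okEnt = true := by decide +kernel

theorem pts17_chk : okRange (okPt cand17) 13600 800 = true := by decide +kernel

theorem ent17_chk : cand17.all okEnt = true := by decide +kernel

end CfsgLib.CosetEnum.Fi24Table.Out
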