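/-
The scans for the automorphisms of the derived group of Fi24.
-/
import Cfsg.Agent.Lib.CosetEnum.Fi24Table.Out.Fun
import Cfsg.Agent.Lib.CosetEnum.Fi24Table.Out.Cand20

set_option autoImplicit false
set_option Elab.async false
set_option maxRecDepth 1000000

namespace CfsgLib.CosetEnum.Fi24Table.Out

open CfsgLib.CosetEnum

theorem pts120_chk : okRange (okPt cand120) 96000 800 = true := by decide +kernel

theorem ent120_chk : cand120.all okEnt = true := by decide +kernel

theorem pts121_chk : okRange (okPt cand121) 96800 800 = true := by decide +kernel

theorem ent121_chk : cand121.all okEnt = true := by decide +kernel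

theorem pts122_chk : okRange (okPt cand122) 97600 800 = true := by decide +kernel

theorem ent122_chk : cand122.all okEnt = true := by decide +kernel

theorem pts123_chk : okRange (okPt cand123) 98400 800 = true := by decide +kernel

theorem ent123_chk : cand123.all okEnt = true := by decide +kernel

theorem pts124_chk : okRange (okPt cand124) 99200 800 = true := by decide +kernel

theorem ent124_chk : cand124.all okEnt = true := by decide +kernel

theorem pts125_chk : okRange (okPt cand125) 100000 800 = true := by decide +kernel

theorem ent125_chk : cand125.all okEnt = true := by decide +kernel

end CfsgLib.CosetEnum.Fi24Table.Out
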