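/-
The scans for the automorphisms of the derived group of Fi24.
-/
import Cfsg.Agent.Lib.CosetEnum.Fi24Table.Out.Fun
import Cfsg.Agent.Lib.CosetEnum.Fi24Table.Out.Cand21

set_option autoImplicit false
set_option Elab.async false
set_option maxRecDepth 1000000

namespace CfsgLib.CosetEnum.Fi24Table.Out

open CfsgLib.CosetEnum

theorem pts126_chk : okRange (okPt cand126) 100800 800 = true := by decide +kernel

theorem ent126_chk : cand126.all okEnt = true := by decide +kernel

theorem pts127_chk : okRange (okPt cand127) 101600 800 = true := by decide +kernel

theorem ent127_chk : cand127.all okEnt = true := by decide +kernel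

theorem pts128_chk : okRange (okPt cand128) 102400 800 = true := by decide +kernel

theorem ent128_chk : cand128.all okEnt = true := by decide +kernel

theorem pts129_chk : okRange (okPt cand129) 103200 800 = true := by decide +kernel

theorem ent129_chk : cand129.all okEnt = true := by decide +kernel

theorem pts130_chk : okRange (okPt cand130) 104000 800 = true := by decide +kernel

theorem ent130_chk : cand130.all okEnt = true := by decide +kernel

theorem pts131_chk : okRange (okPt cand131) 104800 800 = true := by decide +kernel

theorem ent131_chk : cand131.all okEnt = true := by decide +kernel

end CfsgLib.CosetEnum.Fi24Table.Out
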