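/-
The scans for the automorphisms of the derived group of Fi24.
-/
import Cfsg.Agent.Lib.CosetEnum.Fi24Table.Out.Fun
import Cfsg.Agent.Lib.CosetEnum.Fi24Table.Out.Cand22

set_option autoImplicit false
set_option Elab.async false
set_option maxRecDepth 1000000

namespace CfsgLib.CosetEnum.Fi24Table.Out

open CfsgLib.CosetEnum

theorem pts132_chk : okRange (okPt cand132) 105600 800 = true := by decide +kernel

theorem ent132_chk : cand132.all okEnt = true := by decide +kernel

theorem pts133_chk : okRange (okPt cand133) 106400 800 = true := by decide +kernel

theorem ent133_chk : cand133.all okEnt = true := by decide +kernel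

theorem pts134_chk : okRange (okPt cand134) 107200 800 = true := by decide +kernel

theorem ent134_chk : cand134.all okEnt = true := by decide +kernel

theorem pts135_chk : okRange (okPt cand135) 108000 800 = true := by decide +kernel

theorem ent135_chk : cand135.all okEnt = true := by decide +kernel

theorem pts136_chk : okRange (okPt cand136) 108800 800 = true := by decide +kernel

theorem ent136_chk : cand136.all okEnt = true := by decide +kernel

theorem pts137_chk : okRange (okPt cand137) 109600 800 = true := by decide +kernel

theorem ent137_chk : cand137.all okEnt = true := by decide +kernel

end CfsgLib.CosetEnum.Fi24Table.Out
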