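/-
The scans for the automorphisms of the derived group of Fi24.
-/
import Cfsg.Agent.Lib.CosetEnum.Fi24Table.Out.Fun
import Cfsg.Agent.Lib.CosetEnum.Fi24Table.Out.Cand23

set_option autoImplicit false
set_option Elab.async false
set_option maxRecDepth 1000000

namespace CfsgLib.CosetEnum.Fi24Table.Out

open CfsgLib.CosetEnum

theorem pts138_chk : okRange (okPt cand138) 110400 800 = true := by decide +kernel

theorem ent138_chk : cand138.all okEnt = true := by decide +kernel

theorem pts139_chk : okRange (okPt cand139) 111200 800 = true := by decide +kernel

theorem ent139_chk : cand139.all okEnt = true := by decide +kernel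

theorem pts140_chk : okRange (okPt cand140) 112000 800 = true := by decide +kernel

theorem ent140_chk : cand140.all okEnt = true := by decide +kernel

theorem pts141_chk : okRange (okPt cand141) 112800 800 = true := by decide +kernel

theorem ent141_chk : cand141.all okEnt = true := by decide +kernel

theorem pts142_chk : okRange (okPt cand142) 113600 800 = true := by decide +kernel

theorem ent142_chk : cand142.all okEnt = true := by decide +kernel

theorem pts143_chk : okRange (okPt cand143) 114400 800 = true := by decide +kernel

theorem ent143_chk : cand143.all okEnt = true := by decide +kernel

end CfsgLib.CosetEnum.Fi24Table.Out
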