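/-
The scans for the automorphisms of the derived group of Fi24.
-/
import Cfsg.Agent.Lib.CosetEnum.Fi24Table.Out.Fun
import Cfsg.Agent.Lib.CosetEnum.Fi24Table.Out.Cand24

set_option autoImplicit false
set_option Elab.async false
set_option maxRecDepth 1000000

namespace CfsgLib.CosetEnum.Fi24Table.Out

open CfsgLib.CosetEnum

theorem pts144_chk : okRange (okPt cand144) 115200 800 = true := by decide +kernel

theorem ent144_chk : cand144.all okEnt = true := by decide +kernel

theorem pts145_chk : okRange (okPt cand145) 116000 800 = true := by decide +kernel

theorem ent145_chk : cand145.all okEnt = true := by decide +kernel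

theorem pts146_chk : okRange (okPt cand146) 116800 800 = true := by decide +kernel

theorem ent146_chk : cand146.all okEnt = true := by decide +kernel

theorem pts147_chk : okRange (okPt cand147) 117600 800 = true := by decide +kernel

theorem ent147_chk : cand147.all okEnt = true := by decide +kernel

theorem pts148_chk : okRange (okPt cand148) 118400 800 = true := by decide +kernel

theorem ent148_chk : cand148.all okEnt = true := by decide +kernel

theorem pts149_chk : okRange (okPt cand149) 119200 800 = true := by decide +kernel

theorem ent149_chk : cand149.all okEnt = true := by decide +kernel

end CfsgLib.CosetEnum.Fi24Table.Out
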