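/-
The scans for the automorphisms of the derived group of Fi24.
-/
import Cfsg.Agent.Lib.CosetEnum.Fi24Table.Out.Fun
import Cfsg.Agent.Lib.CosetEnum.Fi24Table.Out.Cand25

set_option autoImplicit false
set_option Elab.async false
set_option maxRecDepth 1000000

namespace CfsgLib.CosetEnum.Fi24Table.Out

open CfsgLib.CosetEnum

theorem pts150_chk : okRange (okPt cand150) 120000 800 = true := by decide +kernel

theorem ent150_chk : cand150.all okEnt = true := by decide +kernel

theorem pts151_chk : okRange (okPt cand151) 120800 800 = true := by decide +kernel

theorem ent151_chk : cand151.all okEnt = true := by decide +kernel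

theorem pts152_chk : okRange (okPt cand152) 121600 800 = true := by decide +kernel

theorem ent152_chk : cand152.all okEnt = true := by decide +kernel

theorem pts153_chk : okRange (okPt cand153) 122400 800 = true := by decide +kernel

theorem ent153_chk : cand153.all okEnt = true := by decide +kernel

theorem pts154_chk : okRange (okPt cand154) 123200 800 = true := by decide +kernel

theorem ent154_chk : cand154.all okEnt = true := by decide +kernel

theorem pts155_chk : okRange (okPt cand155) 124000 800 = true := by decide +kernel

theorem ent155_chk : cand155.all okEnt = true := by decide +kernel

end CfsgLib.CosetEnum.Fi24Table.Out
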