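/-
The scans for the automorphisms of the derived group of Fi24.
-/
import Cfsg.Agent.Lib.CosetEnum.Fi24Table.Out.Fun
import Cfsg.Agent.Lib.CosetEnum.Fi24Table.Out.Cand26

set_option autoImplicit false
set_option Elab.async false
set_option maxRecDepth 1000000

namespace CfsgLib.CosetEnum.Fi24Table.Out

open CfsgLib.CosetEnum

theorem pts156_chk : okRange (okPt cand156) 124800 800 = true := by decide +kernel

theorem ent156_chk : cand156.all okEnt = true := by decide +kernel

theorem pts157_chk : okRange (okPt cand157) 125600 800 = true := by decide +kernel

theorem ent157_chk : cand157.all okEnt = true := by decide +kernel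

theorem pts158_chk : okRange (okPt cand158) 126400 800 = true := by decide +kernel

theorem ent158_chk : cand158.all okEnt = true := by decide +kernel

theorem pts159_chk : okRange (okPt cand159) 127200 800 = true := by decide +kernel

theorem ent159_chk : cand159.all okEnt = true := by decide +kernel

theorem pts160_chk : okRange (okPt cand160) 128000 800 = true := by decide +kernel

theorem ent160_chk : cand160.all okEnt = true := by decide +kernel

theorem pts161_chk : okRange (okPt cand161) 128800 800 = true := by decide +kernel

theorem ent161_chk : cand161.all okEnt = true := by decide +kernel

end CfsgLib.CosetEnum.Fi24Table.Out
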