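/-
The scans for the automorphisms of the derived group of Fi24.
-/
import Cfsg.Agent.Lib.CosetEnum.Fi24Table.Out.Fun
import Cfsg.Agent.Lib.CosetEnum.Fi24Table.Out.Cand27

set_option autoImplicit false
set_option Elab.async false
set_option maxRecDepth 1000000

namespace CfsgLib.CosetEnum.Fi24Table.Out

open CfsgLib.CosetEnum

theorem pts162_chk : okRange (okPt cand162) 129600 800 = true := by decide +kernel

theorem ent162_chk : cand162.all okEnt = true := by decide +kernel

theorem pts163_chk : okRange (okPt cand163) 130400 800 = true := by decide +kernel

theorem ent163_chk : cand163.all okEnt = true := by decide +kernel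

theorem pts164_chk : okRange (okPt cand164) 131200 800 = true := by decide +kernel

theorem ent164_chk : cand164.all okEnt = true := by decide +kernel

theorem pts165_chk : okRange (okPt cand165) 132000 800 = true := by decide +kernel

theorem ent165_chk : cand165.all okEnt = true := by decide +kernel

theorem pts166_chk : okRange (okPt cand166) 132800 800 = true := by decide +kernel

theorem ent166_chk : cand166.all okEnt = true := by decide +kernel

theorem pts167_chk : okRange (okPt cand167) 133600 800 = true := by decide +kernel

theorem ent167_chk : cand167.all okEnt = true := by decide +kernel

end CfsgLib.CosetEnum.Fi24Table.Out
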