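/-
The scans for the automorphisms of the derived group of Fi24.
-/
import Cfsg.Agent.Lib.CosetEnum.Fi24Table.Out.Fun
import Cfsg.Agent.Lib.CosetEnum.Fi24Table.Out.Cand28

set_option autoImplicit false
set_option Elab.async false
set_option maxRecDepth 1000000

namespace CfsgLib.CosetEnum.Fi24Table.Out

open CfsgLib.CosetEnum

theorem pts168_chk : okRange (okPt cand168) 134400 800 = true := by decide +kernel

theorem ent168_chk : cand168.all okEnt = true := by decide +kernel

theorem pts169_chk : okRange (okPt cand169) 135200 800 = true := by decide +kernel

theorem ent169_chk : cand169.all okEnt = true := by decide +kernel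

theorem pts170_chk : okRange (okPt cand170) 136000 800 = true := by decide +kernel

theorem ent170_chk : cand170.all okEnt = true := by decide +kernel

theorem pts171_chk : okRange (okPt cand171) 136800 800 = true := by decide +kernel

theorem ent171_chk : cand171.all okEnt = true := by decide +kernel

theorem pts172_chk : okRange (okPt cand172) 137600 800 = true := by decide +kernel

theorem ent172_chk : cand172.all okEnt = true := by decide +kernel

theorem pts173_chk : okRange (okPt cand173) 138400 800 = true := by decide +kernel

theorem ent173_chk : cand173.all okEnt = true := by decide +kernel

end CfsgLib.CosetEnum.Fi24Table.Out
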