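/-
The scans for the automorphisms of the derived group of Fi24.
-/
import Cfsg.Agent.Lib.CosetEnum.Fi24Table.Out.Fun
import Cfsg.Agent.Lib.CosetEnum.Fi24Table.Out.Cand29

set_option autoImplicit false
set_option Elab.async false
set_option maxRecDepth 1000000

namespace CfsgLib.CosetEnum.Fi24Table.Out

open CfsgLib.CosetEnum

theorem pts174_chk : okRange (okPt cand174) 139200 800 = true := by decide +kernel

theorem ent174_chk : cand174.all okEnt = true := by decide +kernel

theorem pts175_chk : okRange (okPt cand175) 140000 800 = true := by decide +kernel

theorem ent175_chk : cand175.all okEnt = true := by decide +kernel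

theorem pts176_chk : okRange (okPt cand176) 140800 800 = true := by decide +kernel

theorem ent176_chk : cand176.all okEnt = true := by decide +kernel

theorem pts177_chk : okRange (okPt cand177) 141600 800 = true := by decide +kernel

theorem ent177_chk : cand177.all okEnt = true := by decide +kernel

theorem pts178_chk : okRange (okPt cand178) 142400 800 = true := by decide +kernel

theorem ent178_chk : cand178.all okEnt = true := by decide +kernel

theorem pts179_chk : okRange (okPt cand179) 143200 800 = true := by decide +kernel

theorem ent179_chk : cand179.all okEnt = true := by decide +kernel

end CfsgLib.CosetEnum.Fi24Table.Out
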