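/-
The scans for the automorphisms of the derived group of Fi24.
-/
import Cfsg.Agent.Lib.CosetEnum.Fi24Table.Out.Fun
import Cfsg.Agent.Lib.CosetEnum.Fi24Table.Out.Cand3

set_option autoImplicit false
set_option Elab.async false
set_option maxRecDepth 1000000

namespace CfsgLib.CosetEnum.Fi24Table.Out

open CfsgLib.CosetEnum

theorem pts18_chk : okRange (okPt cand18) 14400 800 = true := by decide +kernel

theorem ent18_chk : cand18.all okEnt = true := by decide +kernel

theorem pts19_chk : okRange (okPt cand19) 15200 800 = true := by decide +kernel

theorem ent19_chk : cand19.all okEnt = true := by decide +kernel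

theorem pts20_chk : okRange (okPt cand20) 16000 800 = true := by decide +kernel

theorem ent20_chk : cand20.all okEnt = true := by decide +kernel

theorem pts21_chk : okRange (okPt cand21) 16800 800 = true := by decide +kernel

theorem ent21_chk : cand21.all okEnt = true := by decide +kernel

theorem pts22_chk : okRange (okPt cand22) 17600 800 = true := by decide +kernel

theorem ent22_chk : cand22.all okEnt = true := by decide +kernel

theorem pts23_chk : okRange (okPt cand23) 18400 800 = true := by decide +kernel

theorem ent23_chk : cand23.all okEnt = true := by decide +kernel

end CfsgLib.CosetEnum.Fi24Table.Out
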