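/-
The scans for the automorphisms of the derived group of Fi24.
-/
import Cfsg.Agent.Lib.CosetEnum.Fi24Table.Out.Fun
import Cfsg.Agent.Lib.CosetEnum.Fi24Table.Out.Cand30

set_option autoImplicit false
set_option Elab.async false
set_option maxRecDepth 1000000

namespace CfsgLib.CosetEnum.Fi24Table.Out

open CfsgLib.CosetEnum

theorem pts180_chk : okRange (okPt cand180) 144000 800 = true := by decide +kernel

theorem ent180_chk : cand180.all okEnt = true := by decide +kernel

theorem pts181_chk : okRange (okPt cand181) 144800 800 = true := by decide +kernel

theorem ent181_chk : cand181.all okEnt = true := by decide +kernel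

theorem pts182_chk : okRange (okPt cand182) 145600 800 = true := by decide +kernel

theorem ent182_chk : cand182.all okEnt = true := by decide +kernel

theorem pts183_chk : okRange (okPt cand183) 146400 800 = true := by decide +kernel

theorem ent183_chk : cand183.all okEnt = true := by decide +kernel

theorem pts184_chk : okRange (okPt cand184) 147200 800 = true := by decide +kernel

theorem ent184_chk : cand184.all okEnt = true := by decide +kernel

theorem pts185_chk : okRange (okPt cand185) 148000 800 = true := by decide +kernel

theorem ent185_chk : cand185.all okEnt = true := by decide +kernel

end CfsgLib.CosetEnum.Fi24Table.Out
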