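/-
The scans for the automorphisms of the derived group of Fi24.
-/
import Cfsg.Agent.Lib.CosetEnum.Fi24Table.Out.Fun
import Cfsg.Agent.Lib.CosetEnum.Fi24Table.Out.Cand31

set_option autoImplicit false
set_option Elab.async false
set_option maxRecDepth 1000000

namespace CfsgLib.CosetEnum.Fi24Table.Out

open CfsgLib.CosetEnum

theorem pts186_chk : okRange (okPt cand186) 148800 800 = true := by decide +kernel

theorem ent186_chk : cand186.all okEnt = true := by decide +kernel

theorem pts187_chk : okRange (okPt cand187) 149600 800 = true := by decide +kernel

theorem ent187_chk : cand187.all okEnt = true := by decide +kernel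

theorem pts188_chk : okRange (okPt cand188) 150400 800 = true := by decide +kernel

theorem ent188_chk : cand188.all okEnt = true := by decide +kernel

theorem pts189_chk : okRange (okPt cand189) 151200 800 = true := by decide +kernel

theorem ent189_chk : cand189.all okEnt = true := by decide +kernel

theorem pts190_chk : okRange (okPt cand190) 152000 800 = true := by decide +kernel

theorem ent190_chk : cand190.all okEnt = true := by decide +kernel

theorem pts191_chk : okRange (okPt cand191) 152800 800 = true := by decide +kernel

theorem ent191_chk : cand191.all okEnt = true := by decide +kernel

end CfsgLib.CosetEnum.Fi24Table.Out
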