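/-
The scans for the automorphisms of the derived group of Fi24.
-/
import Cfsg.Agent.Lib.CosetEnum.Fi24Table.Out.Fun
import Cfsg.Agent.Lib.CosetEnum.Fi24Table.Out.Cand32

set_option autoImplicit false
set_option Elab.async false
set_option maxRecDepth 1000000

namespace CfsgLib.CosetEnum.Fi24Table.Out

open CfsgLib.CosetEnum

theorem pts192_chk : okRange (okPt cand192) 153600 800 = true := by decide +kernel

theorem ent192_chk : cand192.all okEnt = true := by decide +kernel

theorem pts193_chk : okRange (okPt cand193) 154400 800 = true := by decide +kernel

theorem ent193_chk : cand193.all okEnt = true := by decide +kernel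

theorem pts194_chk : okRange (okPt cand194) 155200 800 = true := by decide +kernel

theorem ent194_chk : cand194.all okEnt = true := by decide +kernel

theorem pts195_chk : okRange (okPt cand195) 156000 800 = true := by decide +kernel

theorem ent195_chk : cand195.all okEnt = true := by decide +kernel

theorem pts196_chk : okRange (okPt cand196) 156800 800 = true := by decide +kernel

theorem ent196_chk : cand196.all okEnt = true := by decide +kernel

theorem pts197_chk : okRange (okPt cand197) 157600 800 = true := by decide +kernel

theorem ent197_chk : cand197.all okEnt = true := by decide +kernel

end CfsgLib.CosetEnum.Fi24Table.Out
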