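/-
The scans for the automorphisms of the derived group of Fi24.
-/
import Cfsg.Agent.Lib.CosetEnum.Fi24Table.Out.Fun
import Cfsg.Agent.Lib.CosetEnum.Fi24Table.Out.Cand33

set_option autoImplicit false
set_option Elab.async false
set_option maxRecDepth 1000000

namespace CfsgLib.CosetEnum.Fi24Table.Out

open CfsgLib.CosetEnum

theorem pts198_chk : okRange (okPt cand198) 158400 800 = true := by decide +kernel

theorem ent198_chk : cand198.all okEnt = true := by decide +kernel

theorem pts199_chk : okRange (okPt cand199) 159200 800 = true := by decide +kernel

theorem ent199_chk : cand199.all okEnt = true := by decide +kernel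

theorem pts200_chk : okRange (okPt cand200) 160000 800 = true := by decide +kernel

theorem ent200_chk : cand200.all okEnt = true := by decide +kernel

theorem pts201_chk : okRange (okPt cand201) 160800 800 = true := by decide +kernel

theorem ent201_chk : cand201.all okEnt = true := by decide +kernel

theorem pts202_chk : okRange (okPt cand202) 161600 800 = true := by decide +kernel

theorem ent202_chk : cand202.all okEnt = true := by decide +kernel

theorem pts203_chk : okRange (okPt cand203) 162400 800 = true := by decide +kernel

theorem ent203_chk : cand203.all okEnt = true := by decide +kernel

end CfsgLib.CosetEnum.Fi24Table.Out
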