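/-
The scans for the automorphisms of the derived group of Fi24.
-/
import Cfsg.Agent.Lib.CosetEnum.Fi24Table.Out.Fun
import Cfsg.Agent.Lib.CosetEnum.Fi24Table.Out.Cand34

set_option autoImplicit false
set_option Elab.async false
set_option maxRecDepth 1000000

namespace CfsgLib.CosetEnum.Fi24Table.Out

open CfsgLib.CosetEnum

theorem pts204_chk : okRange (okPt cand204) 163200 800 = true := by decide +kernel

theorem ent204_chk : cand204.all okEnt = true := by decide +kernel

theorem pts205_chk : okRange (okPt cand205) 164000 800 = true := by decide +kernel

theorem ent205_chk : cand205.all okEnt = true := by decide +kernel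

theorem pts206_chk : okRange (okPt cand206) 164800 800 = true := by decide +kernel

theorem ent206_chk : cand206.all okEnt = true := by decide +kernel

theorem pts207_chk : okRange (okPt cand207) 165600 800 = true := by decide +kernel

theorem ent207_chk : cand207.all okEnt = true := by decide +kernel

theorem pts208_chk : okRange (okPt cand208) 166400 800 = true := by decide +kernel

theorem ent208_chk : cand208.all okEnt = true := by decide +kernel

theorem pts209_chk : okRange (okPt cand209) 167200 800 = true := by decide +kernel

theorem ent209_chk : cand209.all okEnt = true := by decide +kernel

end CfsgLib.CosetEnum.Fi24Table.Out
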