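/-
The scans for the automorphisms of the derived group of Fi24.
-/
import Cfsg.Agent.Lib.CosetEnum.Fi24Table.Out.Fun
import Cfsg.Agent.Lib.CosetEnum.Fi24Table.Out.Cand35

set_option autoImplicit false
set_option Elab.async false
set_option maxRecDepth 1000000

namespace CfsgLib.CosetEnum.Fi24Table.Out

open CfsgLib.CosetEnum

theorem pts210_chk : okRange (okPt cand210) 168000 800 = true := by decide +kernel

theorem ent210_chk : cand210.all okEnt = true := by decide +kernel

theorem pts211_chk : okRange (okPt cand211) 168800 800 = true := by decide +kernel

theorem ent211_chk : cand211.all okEnt = true := by decide +kernel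

theorem pts212_chk : okRange (okPt cand212) 169600 800 = true := by decide +kernel

theorem ent212_chk : cand212.all okEnt = true := by decide +kernel

theorem pts213_chk : okRange (okPt cand213) 170400 800 = true := by decide +kernel

theorem ent213_chk : cand213.all okEnt = true := by decide +kernel

theorem pts214_chk : okRange (okPt cand214) 171200 800 = true := by decide +kernel

theorem ent214_chk : cand214.all okEnt = true := by decide +kernel

theorem pts215_chk : okRange (okPt cand215) 172000 800 = true := by decide +kernel

theorem ent215_chk : cand215.all okEnt = true := by decide +kernel

end CfsgLib.CosetEnum.Fi24Table.Out
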