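/-
The scans for the automorphisms of the derived group of Fi24.
-/
import Cfsg.Agent.Lib.CosetEnum.Fi24Table.Out.Fun
import Cfsg.Agent.Lib.CosetEnum.Fi24Table.Out.Cand36

set_option autoImplicit false
set_option Elab.async false
set_option maxRecDepth 1000000

namespace CfsgLib.CosetEnum.Fi24Table.Out

open CfsgLib.CosetEnum

theorem pts216_chk : okRange (okPt cand216) 172800 800 = true := by decide +kernel

theorem ent216_chk : cand216.all okEnt = true := by decide +kernel

theorem pts217_chk : okRange (okPt cand217) 173600 800 = true := by decide +kernel

theorem ent217_chk : cand217.all okEnt = true := by decide +kernel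

theorem pts218_chk : okRange (okPt cand218) 174400 800 = true := by decide +kernel

theorem ent218_chk : cand218.all okEnt = true := by decide +kernel

theorem pts219_chk : okRange (okPt cand219) 175200 800 = true := by decide +kernel

theorem ent219_chk : cand219.all okEnt = true := by decide +kernel

theorem pts220_chk : okRange (okPt cand220) 176000 800 = true := by decide +kernel

theorem ent220_chk : cand220.all okEnt = true := by decide +kernel

theorem pts221_chk : okRange (okPt cand221) 176800 800 = true := by decide +kernel

theorem ent221_chk : cand221.all okEnt = true := by decide +kernel

end CfsgLib.CosetEnum.Fi24Table.Out
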