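/-
The scans for the automorphisms of the derived group of Fi24.
-/
import Cfsg.Agent.Lib.CosetEnum.Fi24Table.Out.Fun
import Cfsg.Agent.Lib.CosetEnum.Fi24Table.Out.Cand37

set_option autoImplicit false
set_option Elab.async false
set_option maxRecDepth 1000000

namespace CfsgLib.CosetEnum.Fi24Table.Out

open CfsgLib.CosetEnum

theorem pts222_chk : okRange (okPt cand222) 177600 800 = true := by decide +kernel

theorem ent222_chk : cand222.all okEnt = true := by decide +kernel

theorem pts223_chk : okRange (okPt cand223) 178400 800 = true := by decide +kernel

theorem ent223_chk : cand223.all okEnt = true := by decide +kernel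

theorem pts224_chk : okRange (okPt cand224) 179200 800 = true := by decide +kernel

theorem ent224_chk : cand224.all okEnt = true := by decide +kernel

theorem pts225_chk : okRange (okPt cand225) 180000 800 = true := by decide +kernel

theorem ent225_chk : cand225.all okEnt = true := by decide +kernel

theorem pts226_chk : okRange (okPt cand226) 180800 800 = true := by decide +kernel

theorem ent226_chk : cand226.all okEnt = true := by decide +kernel

theorem pts227_chk : okRange (okPt cand227) 181600 800 = true := by decide +kernel

theorem ent227_chk : cand227.all okEnt = true := by decide +kernel

end CfsgLib.CosetEnum.Fi24Table.Out
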