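/-
The scans for the automorphisms of the derived group of Fi24.
-/
import Cfsg.Agent.Lib.CosetEnum.Fi24Table.Out.Fun
import Cfsg.Agent.Lib.CosetEnum.Fi24Table.Out.Cand38

set_option autoImplicit false
set_option Elab.async false
set_option maxRecDepth 1000000

namespace CfsgLib.CosetEnum.Fi24Table.Out

open CfsgLib.CosetEnum

theorem pts228_chk : okRange (okPt cand228) 182400 800 = true := by decide +kernel

theorem ent228_chk : cand228.all okEnt = true := by decide +kernel

theorem pts229_chk : okRange (okPt cand229) 183200 800 = true := by decide +kernel

theorem ent229_chk : cand229.all okEnt = true := by decide +kernel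

theorem pts230_chk : okRange (okPt cand230) 184000 800 = true := by decide +kernel

theorem ent230_chk : cand230.all okEnt = true := by decide +kernel

theorem pts231_chk : okRange (okPt cand231) 184800 800 = true := by decide +kernel

theorem ent231_chk : cand231.all okEnt = true := by decide +kernel

theorem pts232_chk : okRange (okPt cand232) 185600 800 = true := by decide +kernel

theorem ent232_chk : cand232.all okEnt = true := by decide +kernel

theorem pts233_chk : okRange (okPt cand233) 186400 800 = true := by decide +kernel

theorem ent233_chk : cand233.all okEnt = true := by decide +kernel

end CfsgLib.CosetEnum.Fi24Table.Out
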