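/-
The scans for the automorphisms of the derived group of Fi24.
-/
import Cfsg.Agent.Lib.CosetEnum.Fi24Table.Out.Fun
import Cfsg.Agent.Lib.CosetEnum.Fi24Table.Out.Cand39

set_option autoImplicit false
set_option Elab.async false
set_option maxRecDepth 1000000

namespace CfsgLib.CosetEnum.Fi24Table.Out

open CfsgLib.CosetEnum

theorem pts234_chk : okRange (okPt cand234) 187200 800 = true := by decide +kernel

theorem ent234_chk : cand234.all okEnt = true := by decide +kernel

theorem pts235_chk : okRange (okPt cand235) 188000 800 = true := by decide +kernel

theorem ent235_chk : cand235.all okEnt = true := by decide +kernel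

theorem pts236_chk : okRange (okPt cand236) 188800 800 = true := by decide +kernel

theorem ent236_chk : cand236.all okEnt = true := by decide +kernel

theorem pts237_chk : okRange (okPt cand237) 189600 800 = true := by decide +kernel

theorem ent237_chk : cand237.all okEnt = true := by decide +kernel

theorem pts238_chk : okRange (okPt cand238) 190400 800 = true := by decide +kernel

theorem ent238_chk : cand238.all okEnt = true := by decide +kernel

theorem pts239_chk : okRange (okPt cand239) 191200 800 = true := by decide +kernel

theorem ent239_chk : cand239.all okEnt = true := by decide +kernel

end CfsgLib.CosetEnum.Fi24Table.Out
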