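/-
The scans for the automorphisms of the derived group of Fi24.
-/
import Cfsg.Agent.Lib.CosetEnum.Fi24Table.Out.Fun
import Cfsg.Agent.Lib.CosetEnum.Fi24Table.Out.Cand4

set_option autoImplicit false
set_option Elab.async false
set_option maxRecDepth 1000000

namespace CfsgLib.CosetEnum.Fi24Table.Out

open CfsgLib.CosetEnum

theorem pts24_chk : okRange (okPt cand24) 19200 800 = true := by decide +kernel

theorem ent24_chk : cand24.all okEnt = true := by decide +kernel

theorem pts25_chk : okRange (okPt cand25) 20000 800 = true := by decide +kernel

theorem ent25_chk : cand25.all okEnt = true := by decide +kernel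

theorem pts26_chk : okRange (okPt cand26) 20800 800 = true := by decide +kernel

theorem ent26_chk : cand26.all okEnt = true := by decide +kernel

theorem pts27_chk : okRange (okPt cand27) 21600 800 = true := by decide +kernel

theorem ent27_chk : cand27.all okEnt = true := by decide +kernel

theorem pts28_chk : okRange (okPt cand28) 22400 800 = true := by decide +kernel

theorem ent28_chk : cand28.all okEnt = true := by decide +kernel

theorem pts29_chk : okRange (okPt cand29) 23200 800 = true := by decide +kernel

theorem ent29_chk : cand29.all okEnt = true := by decide +kernel

end CfsgLib.CosetEnum.Fi24Table.Out
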