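/-
The scans for the automorphisms of the derived group of Fi24.
-/
import Cfsg.Agent.Lib.CosetEnum.Fi24Table.Out.Fun
import Cfsg.Agent.Lib.CosetEnum.Fi24Table.Out.Cand40

set_option autoImplicit false
set_option Elab.async false
set_option maxRecDepth 1000000

namespace CfsgLib.CosetEnum.Fi24Table.Out

open CfsgLib.CosetEnum

theorem pts240_chk : okRange (okPt cand240) 192000 800 = true := by decide +kernel

theorem ent240_chk : cand240.all okEnt = true := by decide +kernel

theorem pts241_chk : okRange (okPt cand241) 192800 800 = true := by decide +kernel

theorem ent241_chk : cand241.all okEnt = true := by decide +kernel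

theorem pts242_chk : okRange (okPt cand242) 193600 800 = true := by decide +kernel

theorem ent242_chk : cand242.all okEnt = true := by decide +kernel

theorem pts243_chk : okRange (okPt cand243) 194400 800 = true := by decide +kernel

theorem ent243_chk : cand243.all okEnt = true := by decide +kernel

theorem pts244_chk : okRange (okPt cand244) 195200 800 = true := by decide +kernel

theorem ent244_chk : cand244.all okEnt = true := by decide +kernel

theorem pts245_chk : okRange (okPt cand245) 196000 800 = true := by decide +kernel

theorem ent245_chk : cand245.all okEnt = true := by decide +kernel

end CfsgLib.CosetEnum.Fi24Table.Out
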