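/-
The scans for the automorphisms of the derived group of Fi24.
-/
import Cfsg.Agent.Lib.CosetEnum.Fi24Table.Out.Fun
import Cfsg.Agent.Lib.CosetEnum.Fi24Table.Out.Cand41

set_option autoImplicit false
set_option Elab.async false
set_option maxRecDepth 1000000

namespace CfsgLib.CosetEnum.Fi24Table.Out

open CfsgLib.CosetEnum

theorem pts246_chk : okRange (okPt cand246) 196800 800 = true := by decide +kernel

theorem ent246_chk : cand246.all okEnt = true := by decide +kernel

theorem pts247_chk : okRange (okPt cand247) 197600 800 = true := by decide +kernel

theorem ent247_chk : cand247.all okEnt = true := by decide +kernel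

theorem pts248_chk : okRange (okPt cand248) 198400 800 = true := by decide +kernel

theorem ent248_chk : cand248.all okEnt = true := by decide +kernel

theorem pts249_chk : okRange (okPt cand249) 199200 800 = true := by decide +kernel

theorem ent249_chk : cand249.all okEnt = true := by decide +kernel

theorem pts250_chk : okRange (okPt cand250) 200000 800 = true := by decide +kernel

theorem ent250_chk : cand250.all okEnt = true := by decide +kernel

theorem pts251_chk : okRange (okPt cand251) 200800 800 = true := by decide +kernel

theorem ent251_chk : cand251.all okEnt = true := by decide +kernel

end CfsgLib.CosetEnum.Fi24Table.Out
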