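/-
The scans for the automorphisms of the derived group of Fi24.
-/
import Cfsg.Agent.Lib.CosetEnum.Fi24Table.Out.Fun
import Cfsg.Agent.Lib.CosetEnum.Fi24Table.Out.Cand42

set_option autoImplicit false
set_option Elab.async false
set_option maxRecDepth 1000000

namespace CfsgLib.CosetEnum.Fi24Table.Out

open CfsgLib.CosetEnum

theorem pts252_chk : okRange (okPt cand252) 201600 800 = true := by decide +kernel

theorem ent252_chk : cand252.all okEnt = true := by decide +kernel

theorem pts253_chk : okRange (okPt cand253) 202400 800 = true := by decide +kernel

theorem ent253_chk : cand253.all okEnt = true := by decide +kernel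

theorem pts254_chk : okRange (okPt cand254) 203200 800 = true := by decide +kernel

theorem ent254_chk : cand254.all okEnt = true := by decide +kernel

theorem pts255_chk : okRange (okPt cand255) 204000 800 = true := by decide +kernel

theorem ent255_chk : cand255.all okEnt = true := by decide +kernel

theorem pts256_chk : okRange (okPt cand256) 204800 800 = true := by decide +kernel

theorem ent256_chk : cand256.all okEnt = true := by decide +kernel

theorem pts257_chk : okRange (okPt cand257) 205600 800 = true := by decide +kernel

theorem ent257_chk : cand257.all okEnt = true := by decide +kernel

end CfsgLib.CosetEnum.Fi24Table.Out
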