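/-
The scans for the automorphisms of the derived group of Fi24.
-/
import Cfsg.Agent.Lib.CosetEnum.Fi24Table.Out.Fun
import Cfsg.Agent.Lib.CosetEnum.Fi24Table.Out.Cand43

set_option autoImplicit false
set_option Elab.async false
set_option maxRecDepth 1000000

namespace CfsgLib.CosetEnum.Fi24Table.Out

open CfsgLib.CosetEnum

theorem pts258_chk : okRange (okPt cand258) 206400 800 = true := by decide +kernel

theorem ent258_chk : cand258.all okEnt = true := by decide +kernel

theorem pts259_chk : okRange (okPt cand259) 207200 800 = true := by decide +kernel

theorem ent259_chk : cand259.all okEnt = true := by decide +kernel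

theorem pts260_chk : okRange (okPt cand260) 208000 800 = true := by decide +kernel

theorem ent260_chk : cand260.all okEnt = true := by decide +kernel

theorem pts261_chk : okRange (okPt cand261) 208800 800 = true := by decide +kernel

theorem ent261_chk : cand261.all okEnt = true := by decide +kernel

theorem pts262_chk : okRange (okPt cand262) 209600 800 = true := by decide +kernel

theorem ent262_chk : cand262.all okEnt = true := by decide +kernel

theorem pts263_chk : okRange (okPt cand263) 210400 800 = true := by decide +kernel

theorem ent263_chk : cand263.all okEnt = true := by decide +kernel

end CfsgLib.CosetEnum.Fi24Table.Out
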