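/-
The scans for the automorphisms of the derived group of Fi24.
-/
import Cfsg.Agent.Lib.CosetEnum.Fi24Table.Out.Fun
import Cfsg.Agent.Lib.CosetEnum.Fi24Table.Out.Cand44

set_option autoImplicit false
set_option Elab.async false
set_option maxRecDepth 1000000

namespace CfsgLib.CosetEnum.Fi24Table.Out

open CfsgLib.CosetEnum

theorem pts264_chk : okRange (okPt cand264) 211200 800 = true := by decide +kernel

theorem ent264_chk : cand264.all okEnt = true := by decide +kernel

theorem pts265_chk : okRange (okPt cand265) 212000 800 = true := by decide +kernel

theorem ent265_chk : cand265.all okEnt = true := by decide +kernel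

theorem pts266_chk : okRange (okPt cand266) 212800 800 = true := by decide +kernel

theorem ent266_chk : cand266.all okEnt = true := by decide +kernel

theorem pts267_chk : okRange (okPt cand267) 213600 800 = true := by decide +kernel

theorem ent267_chk : cand267.all okEnt = true := by decide +kernel

theorem pts268_chk : okRange (okPt cand268) 214400 800 = true := by decide +kernel

theorem ent268_chk : cand268.all okEnt = true := by decide +kernel

theorem pts269_chk : okRange (okPt cand269) 215200 800 = true := by decide +kernel

theorem ent269_chk : cand269.all okEnt = true := by decide +kernel

end CfsgLib.CosetEnum.Fi24Table.Out
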