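/-
The scans for the automorphisms of the derived group of Fi24.
-/
import Cfsg.Agent.Lib.CosetEnum.Fi24Table.Out.Fun
import Cfsg.Agent.Lib.CosetEnum.Fi24Table.Out.Cand45

set_option autoImplicit false
set_option Elab.async false
set_option maxRecDepth 1000000

namespace CfsgLib.CosetEnum.Fi24Table.Out

open CfsgLib.CosetEnum

theorem pts270_chk : okRange (okPt cand270) 216000 800 = true := by decide +kernel

theorem ent270_chk : cand270.all okEnt = true := by decide +kernel

theorem pts271_chk : okRange (okPt cand271) 216800 800 = true := by decide +kernel

theorem ent271_chk : cand271.all okEnt = true := by decide +kernel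

theorem pts272_chk : okRange (okPt cand272) 217600 800 = true := by decide +kernel

theorem ent272_chk : cand272.all okEnt = true := by decide +kernel

theorem pts273_chk : okRange (okPt cand273) 218400 800 = true := by decide +kernel

theorem ent273_chk : cand273.all okEnt = true := by decide +kernel

theorem pts274_chk : okRange (okPt cand274) 219200 800 = true := by decide +kernel

theorem ent274_chk : cand274.all okEnt = true := by decide +kernel

theorem pts275_chk : okRange (okPt cand275) 220000 800 = true := by decide +kernel

theorem ent275_chk : cand275.all okEnt = true := by decide +kernel

end CfsgLib.CosetEnum.Fi24Table.Out
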