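/-
The scans for the automorphisms of the derived group of Fi24.
-/
import Cfsg.Agent.Lib.CosetEnum.Fi24Table.Out.Fun
import Cfsg.Agent.Lib.CosetEnum.Fi24Table.Out.Cand46

set_option autoImplicit false
set_option Elab.async false
set_option maxRecDepth 1000000

namespace CfsgLib.CosetEnum.Fi24Table.Out

open CfsgLib.CosetEnum

theorem pts276_chk : okRange (okPt cand276) 220800 800 = true := by decide +kernel

theorem ent276_chk : cand276.all okEnt = true := by decide +kernel

theorem pts277_chk : okRange (okPt cand277) 221600 800 = true := by decide +kernel

theorem ent277_chk : cand277.all okEnt = true := by decide +kernel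

theorem pts278_chk : okRange (okPt cand278) 222400 800 = true := by decide +kernel

theorem ent278_chk : cand278.all okEnt = true := by decide +kernel

theorem pts279_chk : okRange (okPt cand279) 223200 800 = true := by decide +kernel

theorem ent279_chk : cand279.all okEnt = true := by decide +kernel

theorem pts280_chk : okRange (okPt cand280) 224000 800 = true := by decide +kernel

theorem ent280_chk : cand280.all okEnt = true := by decide +kernel

theorem pts281_chk : okRange (okPt cand281) 224800 800 = true := by decide +kernel

theorem ent281_chk : cand281.all okEnt = true := by decide +kernel

end CfsgLib.CosetEnum.Fi24Table.Out
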