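/-
The scans for the automorphisms of the derived group of Fi24.
-/
import Cfsg.Agent.Lib.CosetEnum.Fi24Table.Out.Fun
import Cfsg.Agent.Lib.CosetEnum.Fi24Table.Out.Cand47

set_option autoImplicit false
set_option Elab.async false
set_option maxRecDepth 1000000

namespace CfsgLib.CosetEnum.Fi24Table.Out

open CfsgLib.CosetEnum

theorem pts282_chk : okRange (okPt cand282) 225600 800 = true := by decide +kernel

theorem ent282_chk : cand282.all okEnt = true := by decide +kernel

theorem pts283_chk : okRange (okPt cand283) 226400 800 = true := by decide +kernel

theorem ent283_chk : cand283.all okEnt = true := by decide +kernel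

theorem pts284_chk : okRange (okPt cand284) 227200 800 = true := by decide +kernel

theorem ent284_chk : cand284.all okEnt = true := by decide +kernel

theorem pts285_chk : okRange (okPt cand285) 228000 800 = true := by decide +kernel

theorem ent285_chk : cand285.all okEnt = true := by decide +kernel

theorem pts286_chk : okRange (okPt cand286) 228800 800 = true := by decide +kernel

theorem ent286_chk : cand286.all okEnt = true := by decide +kernel

theorem pts287_chk : okRange (okPt cand287) 229600 800 = true := by decide +kernel

theorem ent287_chk : cand287.all okEnt = true := by decide +kernel

end CfsgLib.CosetEnum.Fi24Table.Out
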