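/-
The scans for the automorphisms of the derived group of Fi24.
-/
import Cfsg.Agent.Lib.CosetEnum.Fi24Table.Out.Fun
import Cfsg.Agent.Lib.CosetEnum.Fi24Table.Out.Cand48

set_option autoImplicit false
set_option Elab.async false
set_option maxRecDepth 1000000

namespace CfsgLib.CosetEnum.Fi24Table.Out

open CfsgLib.CosetEnum

theorem pts288_chk : okRange (okPt cand288) 230400 800 = true := by decide +kernel

theorem ent288_chk : cand288.all okEnt = true := by decide +kernel

theorem pts289_chk : okRange (okPt cand289) 231200 800 = true := by decide +kernel

theorem ent289_chk : cand289.all okEnt = true := by decide +kernel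

theorem pts290_chk : okRange (okPt cand290) 232000 800 = true := by decide +kernel

theorem ent290_chk : cand290.all okEnt = true := by decide +kernel

theorem pts291_chk : okRange (okPt cand291) 232800 800 = true := by decide +kernel

theorem ent291_chk : cand291.all okEnt = true := by decide +kernel

theorem pts292_chk : okRange (okPt cand292) 233600 800 = true := by decide +kernel

theorem ent292_chk : cand292.all okEnt = true := by decide +kernel

theorem pts293_chk : okRange (okPt cand293) 234400 800 = true := by decide +kernel

theorem ent293_chk : cand293.all okEnt = true := by decide +kernel

end CfsgLib.CosetEnum.Fi24Table.Out
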