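/-
The scans for the automorphisms of the derived group of Fi24.
-/
import Cfsg.Agent.Lib.CosetEnum.Fi24Table.Out.Fun
import Cfsg.Agent.Lib.CosetEnum.Fi24Table.Out.Cand49

set_option autoImplicit false
set_option Elab.async false
set_option maxRecDepth 1000000

namespace CfsgLib.CosetEnum.Fi24Table.Out

open CfsgLib.CosetEnum

theorem pts294_chk : okRange (okPt cand294) 235200 800 = true := by decide +kernel

theorem ent294_chk : cand294.all okEnt = true := by decide +kernel

theorem pts295_chk : okRange (okPt cand295) 236000 800 = true := by decide +kernel

theorem ent295_chk : cand295.all okEnt = true := by decide +kernel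

theorem pts296_chk : okRange (okPt cand296) 236800 800 = true := by decide +kernel

theorem ent296_chk : cand296.all okEnt = true := by decide +kernel

theorem pts297_chk : okRange (okPt cand297) 237600 800 = true := by decide +kernel

theorem ent297_chk : cand297.all okEnt = true := by decide +kernel

theorem pts298_chk : okRange (okPt cand298) 238400 800 = true := by decide +kernel

theorem ent298_chk : cand298.all okEnt = true := by decide +kernel

theorem pts299_chk : okRange (okPt cand299) 239200 800 = true := by decide +kernel

theorem ent299_chk : cand299.all okEnt = true := by decide +kernel

end CfsgLib.CosetEnum.Fi24Table.Out
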