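/-
The scans for the automorphisms of the derived group of Fi24.
-/
import Cfsg.Agent.Lib.CosetEnum.Fi24Table.Out.Fun
import Cfsg.Agent.Lib.CosetEnum.Fi24Table.Out.Cand5

set_option autoImplicit false
set_option Elab.async false
set_option maxRecDepth 1000000

namespace CfsgLib.CosetEnum.Fi24Table.Out

open CfsgLib.CosetEnum

theorem pts30_chk : okRange (okPt cand30) 24000 800 = true := by decide +kernel

theorem ent30_chk : cand30.all okEnt = true := by decide +kernel

theorem pts31_chk : okRange (okPt cand31) 24800 800 = true := by decide +kernel

theorem ent31_chk : cand31.all okEnt = true := by decide +kernel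

theorem pts32_chk : okRange (okPt cand32) 25600 800 = true := by decide +kernel

theorem ent32_chk : cand32.all okEnt = true := by decide +kernel

theorem pts33_chk : okRange (okPt cand33) 26400 800 = true := by decide +kernel

theorem ent33_chk : cand33.all okEnt = true := by decide +kernel

theorem pts34_chk : okRange (okPt cand34) 27200 800 = true := by decide +kernel

theorem ent34_chk : cand34.all okEnt = true := by decide +kernel

theorem pts35_chk : okRange (okPt cand35) 28000 800 = true := by decide +kernel

theorem ent35_chk : cand35.all okEnt = true := by decide +kernel

end CfsgLib.CosetEnum.Fi24Table.Out
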