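/-
The scans for the automorphisms of the derived group of Fi24.
-/
import Cfsg.Agent.Lib.CosetEnum.Fi24Table.Out.Fun
import Cfsg.Agent.Lib.CosetEnum.Fi24Table.Out.Cand50

set_option autoImplicit false
set_option Elab.async false
set_option maxRecDepth 1000000

namespace CfsgLib.CosetEnum.Fi24Table.Out

open CfsgLib.CosetEnum

theorem pts300_chk : okRange (okPt cand300) 240000 800 = true := by decide +kernel

theorem ent300_chk : cand300.all okEnt = true := by decide +kernel

theorem pts301_chk : okRange (okPt cand301) 240800 800 = true := by decide +kernel

theorem ent301_chk : cand301.all okEnt = true := by decide +kernel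

theorem pts302_chk : okRange (okPt cand302) 241600 800 = true := by decide +kernel

theorem ent302_chk : cand302.all okEnt = true := by decide +kernel

theorem pts303_chk : okRange (okPt cand303) 242400 800 = true := by decide +kernel

theorem ent303_chk : cand303.all okEnt = true := by decide +kernel

theorem pts304_chk : okRange (okPt cand304) 243200 800 = true := by decide +kernel

theorem ent304_chk : cand304.all okEnt = true := by decide +kernel

theorem pts305_chk : okRange (okPt cand305) 244000 800 = true := by decide +kernel

theorem ent305_chk : cand305.all okEnt = true := by decide +kernel

end CfsgLib.CosetEnum.Fi24Table.Out
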