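/-
The scans for the automorphisms of the derived group of Fi24.
-/
import Cfsg.Agent.Lib.CosetEnum.Fi24Table.Out.Fun
import Cfsg.Agent.Lib.CosetEnum.Fi24Table.Out.Cand51

set_option autoImplicit false
set_option Elab.async false
set_option maxRecDepth 1000000

namespace CfsgLib.CosetEnum.Fi24Table.Out

open CfsgLib.CosetEnum

theorem pts306_chk : okRange (okPt cand306) 244800 800 = true := by decide +kernel

theorem ent306_chk : cand306.all okEnt = true := by decide +kernel

theorem pts307_chk : okRange (okPt cand307) 245600 800 = true := by decide +kernel

theorem ent307_chk : cand307.all okEnt = true := by decide +kernel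

theorem pts308_chk : okRange (okPt cand308) 246400 800 = true := by decide +kernel

theorem ent308_chk : cand308.all okEnt = true := by decide +kernel

theorem pts309_chk : okRange (okPt cand309) 247200 800 = true := by decide +kernel

theorem ent309_chk : cand309.all okEnt = true := by decide +kernel

theorem pts310_chk : okRange (okPt cand310) 248000 800 = true := by decide +kernel

theorem ent310_chk : cand310.all okEnt = true := by decide +kernel

theorem pts311_chk : okRange (okPt cand311) 248800 800 = true := by decide +kernel

theorem ent311_chk : cand311.all okEnt = true := by decide +kernel

end CfsgLib.CosetEnum.Fi24Table.Out
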