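/-
The scans for the automorphisms of the derived group of Fi24.
-/
import Cfsg.Agent.Lib.CosetEnum.Fi24Table.Out.Fun
import Cfsg.Agent.Lib.CosetEnum.Fi24Table.Out.Cand52

set_option autoImplicit false
set_option Elab.async false
set_option maxRecDepth 1000000

namespace CfsgLib.CosetEnum.Fi24Table.Out

open CfsgLib.CosetEnum

theorem pts312_chk : okRange (okPt cand312) 249600 800 = true := by decide +kernel

theorem ent312_chk : cand312.all okEnt = true := by decide +kernel

theorem pts313_chk : okRange (okPt cand313) 250400 800 = true := by decide +kernel

theorem ent313_chk : cand313.all okEnt = true := by decide +kernel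

theorem pts314_chk : okRange (okPt cand314) 251200 800 = true := by decide +kernel

theorem ent314_chk : cand314.all okEnt = true := by decide +kernel

theorem pts315_chk : okRange (okPt cand315) 252000 800 = true := by decide +kernel

theorem ent315_chk : cand315.all okEnt = true := by decide +kernel

theorem pts316_chk : okRange (okPt cand316) 252800 800 = true := by decide +kernel

theorem ent316_chk : cand316.all okEnt = true := by decide +kernel

theorem pts317_chk : okRange (okPt cand317) 253600 800 = true := by decide +kernel

theorem ent317_chk : cand317.all okEnt = true := by decide +kernel

end CfsgLib.CosetEnum.Fi24Table.Out
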