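/-
The scans for the automorphisms of the derived group of Fi24.
-/
import Cfsg.Agent.Lib.CosetEnum.Fi24Table.Out.Fun
import Cfsg.Agent.Lib.CosetEnum.Fi24Table.Out.Cand53

set_option autoImplicit false
set_option Elab.async false
set_option maxRecDepth 1000000

namespace CfsgLib.CosetEnum.Fi24Table.Out

open CfsgLib.CosetEnum

theorem pts318_chk : okRange (okPt cand318) 254400 800 = true := by decide +kernel

theorem ent318_chk : cand318.all okEnt = true := by decide +kernel

theorem pts319_chk : okRange (okPt cand319) 255200 800 = true := by decide +kernel

theorem ent319_chk : cand319.all okEnt = true := by decide +kernel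

theorem pts320_chk : okRange (okPt cand320) 256000 800 = true := by decide +kernel

theorem ent320_chk : cand320.all okEnt = true := by decide +kernel

theorem pts321_chk : okRange (okPt cand321) 256800 800 = true := by decide +kernel

theorem ent321_chk : cand321.all okEnt = true := by decide +kernel

theorem pts322_chk : okRange (okPt cand322) 257600 800 = true := by decide +kernel

theorem ent322_chk : cand322.all okEnt = true := by decide +kernel

theorem pts323_chk : okRange (okPt cand323) 258400 800 = true := by decide +kernel

theorem ent323_chk : cand323.all okEnt = true := by decide +kernel

end CfsgLib.CosetEnum.Fi24Table.Out
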