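/-
The scans for the automorphisms of the derived group of Fi24.
-/
import Cfsg.Agent.Lib.CosetEnum.Fi24Table.Out.Fun
import Cfsg.Agent.Lib.CosetEnum.Fi24Table.Out.Cand54

set_option autoImplicit false
set_option Elab.async false
set_option maxRecDepth 1000000

namespace CfsgLib.CosetEnum.Fi24Table.Out

open CfsgLib.CosetEnum

theorem pts324_chk : okRange (okPt cand324) 259200 800 = true := by decide +kernel

theorem ent324_chk : cand324.all okEnt = true := by decide +kernel

theorem pts325_chk : okRange (okPt cand325) 260000 800 = true := by decide +kernel

theorem ent325_chk : cand325.all okEnt = true := by decide +kernel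

theorem pts326_chk : okRange (okPt cand326) 260800 800 = true := by decide +kernel

theorem ent326_chk : cand326.all okEnt = true := by decide +kernel

theorem pts327_chk : okRange (okPt cand327) 261600 800 = true := by decide +kernel

theorem ent327_chk : cand327.all okEnt = true := by decide +kernel

theorem pts328_chk : okRange (okPt cand328) 262400 800 = true := by decide +kernel

theorem ent328_chk : cand328.all okEnt = true := by decide +kernel

theorem pts329_chk : okRange (okPt cand329) 263200 800 = true := by decide +kernel

theorem ent329_chk : cand329.all okEnt = true := by decide +kernel

end CfsgLib.CosetEnum.Fi24Table.Out
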