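/-
The scans for the automorphisms of the derived group of Fi24.
-/
import Cfsg.Agent.Lib.CosetEnum.Fi24Table.Out.Fun
import Cfsg.Agent.Lib.CosetEnum.Fi24Table.Out.Cand55

set_option autoImplicit false
set_option Elab.async false
set_option maxRecDepth 1000000

namespace CfsgLib.CosetEnum.Fi24Table.Out

open CfsgLib.CosetEnum

theorem pts330_chk : okRange (okPt cand330) 264000 800 = true := by decide +kernel

theorem ent330_chk : cand330.all okEnt = true := by decide +kernel

theorem pts331_chk : okRange (okPt cand331) 264800 800 = true := by decide +kernel

theorem ent331_chk : cand331.all okEnt = true := by decide +kernel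

theorem pts332_chk : okRange (okPt cand332) 265600 800 = true := by decide +kernel

theorem ent332_chk : cand332.all okEnt = true := by decide +kernel

theorem pts333_chk : okRange (okPt cand333) 266400 800 = true := by decide +kernel

theorem ent333_chk : cand333.all okEnt = true := by decide +kernel

theorem pts334_chk : okRange (okPt cand334) 267200 800 = true := by decide +kernel

theorem ent334_chk : cand334.all okEnt = true := by decide +kernel

theorem pts335_chk : okRange (okPt cand335) 268000 800 = true := by decide +kernel

theorem ent335_chk : cand335.all okEnt = true := by decide +kernel

end CfsgLib.CosetEnum.Fi24Table.Out
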