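/-
The scans for the automorphisms of the derived group of Fi24.
-/
import Cfsg.Agent.Lib.CosetEnum.Fi24Table.Out.Fun
import Cfsg.Agent.Lib.CosetEnum.Fi24Table.Out.Cand56

set_option autoImplicit false
set_option Elab.async false
set_option maxRecDepth 1000000

namespace CfsgLib.CosetEnum.Fi24Table.Out

open CfsgLib.CosetEnum

theorem pts336_chk : okRange (okPt cand336) 268800 800 = true := by decide +kernel

theorem ent336_chk : cand336.all okEnt = true := by decide +kernel

theorem pts337_chk : okRange (okPt cand337) 269600 800 = true := by decide +kernel

theorem ent337_chk : cand337.all okEnt = true := by decide +kernel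

theorem pts338_chk : okRange (okPt cand338) 270400 800 = true := by decide +kernel

theorem ent338_chk : cand338.all okEnt = true := by decide +kernel

theorem pts339_chk : okRange (okPt cand339) 271200 800 = true := by decide +kernel

theorem ent339_chk : cand339.all okEnt = true := by decide +kernel

theorem pts340_chk : okRange (okPt cand340) 272000 800 = true := by decide +kernel

theorem ent340_chk : cand340.all okEnt = true := by decide +kernel

theorem pts341_chk : okRange (okPt cand341) 272800 800 = true := by decide +kernel

theorem ent341_chk : cand341.all okEnt = true := by decide +kernel

end CfsgLib.CosetEnum.Fi24Table.Out
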