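/-
The scans for the automorphisms of the derived group of Fi24.
-/
import Cfsg.Agent.Lib.CosetEnum.Fi24Table.Out.Fun
import Cfsg.Agent.Lib.CosetEnum.Fi24Table.Out.Cand57

set_option autoImplicit false
set_option Elab.async false
set_option maxRecDepth 1000000

namespace CfsgLib.CosetEnum.Fi24Table.Out

open CfsgLib.CosetEnum

theorem pts342_chk : okRange (okPt cand342) 273600 800 = true := by decide +kernel

theorem ent342_chk : cand342.all okEnt = true := by decide +kernel

theorem pts343_chk : okRange (okPt cand343) 274400 800 = true := by decide +kernel

theorem ent343_chk : cand343.all okEnt = true := by decide +kernel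

theorem pts344_chk : okRange (okPt cand344) 275200 800 = true := by decide +kernel

theorem ent344_chk : cand344.all okEnt = true := by decide +kernel

theorem pts345_chk : okRange (okPt cand345) 276000 800 = true := by decide +kernel

theorem ent345_chk : cand345.all okEnt = true := by decide +kernel

theorem pts346_chk : okRange (okPt cand346) 276800 800 = true := by decide +kernel

theorem ent346_chk : cand346.all okEnt = true := by decide +kernel

theorem pts347_chk : okRange (okPt cand347) 277600 800 = true := by decide +kernel

theorem ent347_chk : cand347.all okEnt = true := by decide +kernel

end CfsgLib.CosetEnum.Fi24Table.Out
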