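/-
The scans for the automorphisms of the derived group of Fi24.
-/
import Cfsg.Agent.Lib.CosetEnum.Fi24Table.Out.Fun
import Cfsg.Agent.Lib.CosetEnum.Fi24Table.Out.Cand58

set_option autoImplicit false
set_option Elab.async false
set_option maxRecDepth 1000000

namespace CfsgLib.CosetEnum.Fi24Table.Out

open CfsgLib.CosetEnum

theorem pts348_chk : okRange (okPt cand348) 278400 800 = true := by decide +kernel

theorem ent348_chk : cand348.all okEnt = true := by decide +kernel

theorem pts349_chk : okRange (okPt cand349) 279200 800 = true := by decide +kernel

theorem ent349_chk : cand349.all okEnt = true := by decide +kernel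

theorem pts350_chk : okRange (okPt cand350) 280000 800 = true := by decide +kernel

theorem ent350_chk : cand350.all okEnt = true := by decide +kernel

theorem pts351_chk : okRange (okPt cand351) 280800 800 = true := by decide +kernel

theorem ent351_chk : cand351.all okEnt = true := by decide +kernel

theorem pts352_chk : okRange (okPt cand352) 281600 800 = true := by decide +kernel

theorem ent352_chk : cand352.all okEnt = true := by decide +kernel

theorem pts353_chk : okRange (okPt cand353) 282400 800 = true := by decide +kernel

theorem ent353_chk : cand353.all okEnt = true := by decide +kernel

end CfsgLib.CosetEnum.Fi24Table.Out
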