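/-
The scans for the automorphisms of the derived group of Fi24.
-/
import Cfsg.Agent.Lib.CosetEnum.Fi24Table.Out.Fun
import Cfsg.Agent.Lib.CosetEnum.Fi24Table.Out.Cand59

set_option autoImplicit false
set_option Elab.async false
set_option maxRecDepth 1000000

namespace CfsgLib.CosetEnum.Fi24Table.Out

open CfsgLib.CosetEnum

theorem pts354_chk : okRange (okPt cand354) 283200 800 = true := by decide +kernel

theorem ent354_chk : cand354.all okEnt = true := by decide +kernel

theorem pts355_chk : okRange (okPt cand355) 284000 800 = true := by decide +kernel

theorem ent355_chk : cand355.all okEnt = true := by decide +kernel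

theorem pts356_chk : okRange (okPt cand356) 284800 800 = true := by decide +kernel

theorem ent356_chk : cand356.all okEnt = true := by decide +kernel

theorem pts357_chk : okRange (okPt cand357) 285600 800 = true := by decide +kernel

theorem ent357_chk : cand357.all okEnt = true := by decide +kernel

theorem pts358_chk : okRange (okPt cand358) 286400 800 = true := by decide +kernel

theorem ent358_chk : cand358.all okEnt = true := by decide +kernel

theorem pts359_chk : okRange (okPt cand359) 287200 800 = true := by decide +kernel

theorem ent359_chk : cand359.all okEnt = true := by decide +kernel

end CfsgLib.CosetEnum.Fi24Table.Out
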