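/-
The scans for the automorphisms of the derived group of Fi24.
-/
import Cfsg.Agent.Lib.CosetEnum.Fi24Table.Out.Fun
import Cfsg.Agent.Lib.CosetEnum.Fi24Table.Out.Cand6

set_option autoImplicit false
set_option Elab.async false
set_option maxRecDepth 1000000

namespace CfsgLib.CosetEnum.Fi24Table.Out

open CfsgLib.CosetEnum

theorem pts36_chk : okRange (okPt cand36) 28800 800 = true := by decide +kernel

theorem ent36_chk : cand36.all okEnt = true := by decide +kernel

theorem pts37_chk : okRange (okPt cand37) 29600 800 = true := by decide +kernel

theorem ent37_chk : cand37.all okEnt = true := by decide +kernel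

theorem pts38_chk : okRange (okPt cand38) 30400 800 = true := by decide +kernel

theorem ent38_chk : cand38.all okEnt = true := by decide +kernel

theorem pts39_chk : okRange (okPt cand39) 31200 800 = true := by decide +kernel

theorem ent39_chk : cand39.all okEnt = true := by decide +kernel

theorem pts40_chk : okRange (okPt cand40) 32000 800 = true := by decide +kernel

theorem ent40_chk : cand40.all okEnt = true := by decide +kernel

theorem pts41_chk : okRange (okPt cand41) 32800 800 = true := by decide +kernel

theorem ent41_chk : cand41.all okEnt = true := by decide +kernel

end CfsgLib.CosetEnum.Fi24Table.Out
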