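/-
The scans for the automorphisms of the derived group of Fi24.
-/
import Cfsg.Agent.Lib.CosetEnum.Fi24Table.Out.Fun
import Cfsg.Agent.Lib.CosetEnum.Fi24Table.Out.Cand60

set_option autoImplicit false
set_option Elab.async false
set_option maxRecDepth 1000000

namespace CfsgLib.CosetEnum.Fi24Table.Out

open CfsgLib.CosetEnum

theorem pts360_chk : okRange (okPt cand360) 288000 800 = true := by decide +kernel

theorem ent360_chk : cand360.all okEnt = true := by decide +kernel

theorem pts361_chk : okRange (okPt cand361) 288800 800 = true := by decide +kernel

theorem ent361_chk : cand361.all okEnt = true := by decide +kernel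

theorem pts362_chk : okRange (okPt cand362) 289600 800 = true := by decide +kernel

theorem ent362_chk : cand362.all okEnt = true := by decide +kernel

theorem pts363_chk : okRange (okPt cand363) 290400 800 = true := by decide +kernel

theorem ent363_chk : cand363.all okEnt = true := by decide +kernel

theorem pts364_chk : okRange (okPt cand364) 291200 800 = true := by decide +kernel

theorem ent364_chk : cand364.all okEnt = true := by decide +kernel

theorem pts365_chk : okRange (okPt cand365) 292000 800 = true := by decide +kernel

theorem ent365_chk : cand365.all okEnt = true := by decide +kernel

end CfsgLib.CosetEnum.Fi24Table.Out
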