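/-
The scans for the automorphisms of the derived group of Fi24.
-/
import Cfsg.Agent.Lib.CosetEnum.Fi24Table.Out.Fun
import Cfsg.Agent.Lib.CosetEnum.Fi24Table.Out.Cand61

set_option autoImplicit false
set_option Elab.async false
set_option maxRecDepth 1000000

namespace CfsgLib.CosetEnum.Fi24Table.Out

open CfsgLib.CosetEnum

theorem pts366_chk : okRange (okPt cand366) 292800 800 = true := by decide +kernel

theorem ent366_chk : cand366.all okEnt = true := by decide +kernel

theorem pts367_chk : okRange (okPt cand367) 293600 800 = true := by decide +kernel

theorem ent367_chk : cand367.all okEnt = true := by decide +kernel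

theorem pts368_chk : okRange (okPt cand368) 294400 800 = true := by decide +kernel

theorem ent368_chk : cand368.all okEnt = true := by decide +kernel

theorem pts369_chk : okRange (okPt cand369) 295200 800 = true := by decide +kernel

theorem ent369_chk : cand369.all okEnt = true := by decide +kernel

theorem pts370_chk : okRange (okPt cand370) 296000 800 = true := by decide +kernel

theorem ent370_chk : cand370.all okEnt = true := by decide +kernel

theorem pts371_chk : okRange (okPt cand371) 296800 800 = true := by decide +kernel

theorem ent371_chk : cand371.all okEnt = true := by decide +kernel

end CfsgLib.CosetEnum.Fi24Table.Out
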