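/-
The scans for the automorphisms of the derived group of Fi24.
-/
import Cfsg.Agent.Lib.CosetEnum.Fi24Table.Out.Fun
import Cfsg.Agent.Lib.CosetEnum.Fi24Table.Out.Cand62

set_option autoImplicit false
set_option Elab.async false
set_option maxRecDepth 1000000

namespace CfsgLib.CosetEnum.Fi24Table.Out

open CfsgLib.CosetEnum

theorem pts372_chk : okRange (okPt cand372) 297600 800 = true := by decide +kernel

theorem ent372_chk : cand372.all okEnt = true := by decide +kernel

theorem pts373_chk : okRange (okPt cand373) 298400 800 = true := by decide +kernel

theorem ent373_chk : cand373.all okEnt = true := by decide +kernel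

theorem pts374_chk : okRange (okPt cand374) 299200 800 = true := by decide +kernel

theorem ent374_chk : cand374.all okEnt = true := by decide +kernel

theorem pts375_chk : okRange (okPt cand375) 300000 800 = true := by decide +kernel

theorem ent375_chk : cand375.all okEnt = true := by decide +kernel

theorem pts376_chk : okRange (okPt cand376) 300800 800 = true := by decide +kernel

theorem ent376_chk : cand376.all okEnt = true := by decide +kernel

theorem pts377_chk : okRange (okPt cand377) 301600 800 = true := by decide +kernel

theorem ent377_chk : cand377.all okEnt = true := by decide +kernel

end CfsgLib.CosetEnum.Fi24Table.Out
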