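/-
The scans for the automorphisms of the derived group of Fi24.
-/
import Cfsg.Agent.Lib.CosetEnum.Fi24Table.Out.Fun
import Cfsg.Agent.Lib.CosetEnum.Fi24Table.Out.Cand63

set_option autoImplicit false
set_option Elab.async false
set_option maxRecDepth 1000000

namespace CfsgLib.CosetEnum.Fi24Table.Out

open CfsgLib.CosetEnum

theorem pts378_chk : okRange (okPt cand378) 302400 800 = true := by decide +kernel

theorem ent378_chk : cand378.all okEnt = true := by decide +kernel

theorem pts379_chk : okRange (okPt cand379) 303200 800 = true := by decide +kernel

theorem ent379_chk : cand379.all okEnt = true := by decide +kernel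

theorem pts380_chk : okRange (okPt cand380) 304000 800 = true := by decide +kernel

theorem ent380_chk : cand380.all okEnt = true := by decide +kernel

theorem pts381_chk : okRange (okPt cand381) 304800 800 = true := by decide +kernel

theorem ent381_chk : cand381.all okEnt = true := by decide +kernel

theorem pts382_chk : okRange (okPt cand382) 305600 800 = true := by decide +kernel

theorem ent382_chk : cand382.all okEnt = true := by decide +kernel

theorem pts383_chk : okRange (okPt cand383) 306400 536 = true := by decide +kernel

theorem ent383_chk : cand383.all okEnt = true := by decide +kernel

end CfsgLib.CosetEnum.Fi24Table.Out
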