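/-
The scans for the automorphisms of the derived group of Fi24.
-/
import Cfsg.Agent.Lib.CosetEnum.Fi24Table.Out.Fun
import Cfsg.Agent.Lib.CosetEnum.Fi24Table.Out.Cand7

set_option autoImplicit false
set_option Elab.async false
set_option maxRecDepth 1000000

namespace CfsgLib.CosetEnum.Fi24Table.Out

open CfsgLib.CosetEnum

theorem pts42_chk : okRange (okPt cand42) 33600 800 = true := by decide +kernel

theorem ent42_chk : cand42.all okEnt = true := by decide +kernel

theorem pts43_chk : okRange (okPt cand43) 34400 800 = true := by decide +kernel

theorem ent43_chk : cand43.all okEnt = true := by decide +kernel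

theorem pts44_chk : okRange (okPt cand44) 35200 800 = true := by decide +kernel

theorem ent44_chk : cand44.all okEnt = true := by decide +kernel

theorem pts45_chk : okRange (okPt cand45) 36000 800 = true := by decide +kernel

theorem ent45_chk : cand45.all okEnt = true := by decide +kernel

theorem pts46_chk : okRange (okPt cand46) 36800 800 = true := by decide +kernel

theorem ent46_chk : cand46.all okEnt = true := by decide +kernel

theorem pts47_chk : okRange (okPt cand47) 37600 800 = true := by decide +kernel

theorem ent47_chk : cand47.all okEnt = true := by decide +kernel

end CfsgLib.CosetEnum.Fi24Table.Out
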