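/-
The scans for the automorphisms of the derived group of Fi24.
-/
import Cfsg.Agent.Lib.CosetEnum.Fi24Table.Out.Fun
import Cfsg.Agent.Lib.CosetEnum.Fi24Table.Out.Cand8

set_option autoImplicit false
set_option Elab.async false
set_option maxRecDepth 1000000

namespace CfsgLib.CosetEnum.Fi24Table.Out

open CfsgLib.CosetEnum

theorem pts48_chk : okRange (okPt cand48) 38400 800 = true := by decide +kernel

theorem ent48_chk : cand48.all okEnt = true := by decide +kernel

theorem pts49_chk : okRange (okPt cand49) 39200 800 = true := by decide +kernel

theorem ent49_chk : cand49.all okEnt = true := by decide +kernel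

theorem pts50_chk : okRange (okPt cand50) 40000 800 = true := by decide +kernel

theorem ent50_chk : cand50.all okEnt = true := by decide +kernel

theorem pts51_chk : okRange (okPt cand51) 40800 800 = true := by decide +kernel

theorem ent51_chk : cand51.all okEnt = true := by decide +kernel

theorem pts52_chk : okRange (okPt cand52) 41600 800 = true := by decide +kernel

theorem ent52_chk : cand52.all okEnt = true := by decide +kernel

theorem pts53_chk : okRange (okPt cand53) 42400 800 = true := by decide +kernel

theorem ent53_chk : cand53.all okEnt = true := by decide +kernel

end CfsgLib.CosetEnum.Fi24Table.Out
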