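/-
The scans for the automorphisms of the derived group of Fi24.
-/
import Cfsg.Agent.Lib.CosetEnum.Fi24Table.Out.Fun
import Cfsg.Agent.Lib.CosetEnum.Fi24Table.Out.Cand9

set_option autoImplicit false
set_option Elab.async false
set_option maxRecDepth 1000000

namespace CfsgLib.CosetEnum.Fi24Table.Out

open CfsgLib.CosetEnum

theorem pts54_chk : okRange (okPt cand54) 43200 800 = true := by decide +kernel

theorem ent54_chk : cand54.all okEnt = true := by decide +kernel

theorem pts55_chk : okRange (okPt cand55) 44000 800 = true := by decide +kernel

theorem ent55_chk : cand55.all okEnt = true := by decide +kernel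

theorem pts56_chk : okRange (okPt cand56) 44800 800 = true := by decide +kernel

theorem ent56_chk : cand56.all okEnt = true := by decide +kernel

theorem pts57_chk : okRange (okPt cand57) 45600 800 = true := by decide +kernel

theorem ent57_chk : cand57.all okEnt = true := by decide +kernel

theorem pts58_chk : okRange (okPt cand58) 46400 800 = true := by decide +kernel

theorem ent58_chk : cand58.all okEnt = true := by decide +kernel

theorem pts59_chk : okRange (okPt cand59) 47200 800 = true := by decide +kernel

theorem ent59_chk : cand59.all okEnt = true := by decide +kernel

end CfsgLib.CosetEnum.Fi24Table.Out
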