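/-
The scans for the automorphisms of the derived group of Fi24.
-/
import Cfsg.Agent.Lib.CosetEnum.Fi24Table.Out.Check0
import Cfsg.Agent.Lib.CosetEnum.Fi24Table.Out.Check1
import Cfsg.Agent.Lib.CosetEnum.Fi24Table.Out.Check2
import Cfsg.Agent.Lib.CosetEnum.Fi24Table.Out.Check3
import Cfsg.Agent.Lib.CosetEnum.Fi24Table.Out.Check4
import Cfsg.Agent.Lib.CosetEnum.Fi24Table.Out.Check5
import Cfsg.Agent.Lib.CosetEnum.Fi24Table.Out.Check6
import Cfsg.Agent.Lib.CosetEnum.Fi24Table.Out.Check7
import Cfsg.Agent.Lib.CosetEnum.Fi24Table.Out.Check8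
import Cfsg.Agent.Lib.CosetEnum.Fi24Table.Out.Check9
import Cfsg.Agent.Lib.CosetEnum.Fi24Table.Out.Check10
import Cfsg.Agent.Lib.CosetEnum.Fi24Table.Out.Check11
import Cfsg.Agent.Lib.CosetEnum.Fi24Table.Out.Check12
import Cfsg.Agent.Lib.CosetEnum.Fi24Table.Out.Check13
import Cfsg.Agent.Lib.CosetEnum.Fi24Table.Out.Check14
import Cfsg.Agent.Lib.CosetEnum.Fi24Table.Out.Check15
import Cfsg.Agent.Lib.CosetEnum.Fi24Table.Out.Check16
import Cfsg.Agent.Lib.CosetEnum.Fi24Table.Out.Check17
import Cfsg.Agent.Lib.CosetEnum.Fi24Table.Out.Check18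
import Cfsg.Agent.Lib.CosetEnum.Fi24Table.Out.Check19
import Cfsg.Agent.Lib.CosetEnum.Fi24Table.Out.Check20
import Cfsg.Agent.Lib.CosetEnum.Fi24Table.Out.Check21
import Cfsg.Agent.Lib.CosetEnum.Fi24Table.Out.Check22
import Cfsg.Agent.Lib.CosetEnum.Fi24Table.Out.Check23
import Cfsg.Agent.Lib.CosetEnum.Fi24Table.Out.Check24
import Cfsg.Agent.Lib.CosetEnum.Fi24Table.Out.Check25
import Cfsg.Agent.Lib.CosetEnum.Fi24Table.Out.Check26
import Cfsg.Agent.Lib.CosetEnum.Fi24Table.Out.Check27
import Cfsg.Agent.Lib.CosetEnum.Fi24Table.Out.Check28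
import Cfsg.Agent.Lib.CosetEnum.Fi24Table.Out.Check29
import Cfsg.Agent.Lib.CosetEnum.Fi24Table.Out.Check30
import Cfsg.Agent.Lib.CosetEnum.Fi24Table.Out.Check31
import Cfsg.Agent.Lib.CosetEnum.Fi24Table.Out.Check32
import Cfsg.Agent.Lib.CosetEnum.Fi24Table.Out.Check33
import Cfsg.Agent.Lib.CosetEnum.Fi24Table.Out.Check34
import Cfsg.Agent.Lib.CosetEnum.Fi24Table.Out.Check35
import Cfsg.Agent.Lib.CosetEnum.Fi24Table.Out.Check36
import Cfsg.Agent.Lib.CosetEnum.Fi24Table.Out.Check37
import Cfsg.Agent.Lib.CosetEnum.Fi24Table.Out.Check38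
import Cfsg.Agent.Lib.CosetEnum.Fi24Table.Out.Check39
import Cfsg.Agent.Lib.CosetEnum.Fi24Table.Out.Check40
import Cfsg.Agent.Lib.CosetEnum.Fi24Table.Out.Check41
import Cfsg.Agent.Lib.CosetEnum.Fi24Table.Out.Check42
import Cfsg.Agent.Lib.CosetEnum.Fi24Table.Out.Check43
import Cfsg.Agent.Lib.CosetEnum.Fi24Table.Out.Check44
import Cfsg.Agent.Lib.CosetEnum.Fi24Table.Out.Check45
import Cfsg.Agent.Lib.CosetEnum.Fi24Table.Out.Check46
import Cfsg.Agent.Lib.CosetEnum.Fi24Table.Out.Check47
import Cfsg.Agent.Lib.CosetEnum.Fi24Table.Out.Check48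
import Cfsg.Agent.Lib.CosetEnum.Fi24Table.Out.Check49
import Cfsg.Agent.Lib.CosetEnum.Fi24Table.Out.Check50
import Cfsg.Agent.Lib.CosetEnum.Fi24Table.Out.Check51
import Cfsg.Agent.Lib.CosetEnum.Fi24Table.Out.Check52
import Cfsg.Agent.Lib.CosetEnum.Fi24Table.Out.Check53
import Cfsg.Agent.Lib.CosetEnum.Fi24Table.Out.Check54
import Cfsg.Agent.Lib.CosetEnum.Fi24Table.Out.Check55
import Cfsg.Agent.Lib.CosetEnum.Fi24Table.Out.Check56
import Cfsg.Agent.Lib.CosetEnum.Fi24Table.Out.Check57
import Cfsg.Agent.Lib.CosetEnum.Fi24Table.Out.Check58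
import Cfsg.Agent.Lib.CosetEnum.Fi24Table.Out.Check59
import Cfsg.Agent.Lib.CosetEnum.Fi24Table.Out.Check60
import Cfsg.Agent.Lib.CosetEnum.Fi24Table.Out.Check61
import Cfsg.Agent.Lib.CosetEnum.Fi24Table.Out.Check62
import Cfsg.Agent.Lib.CosetEnum.Fi24Table.Out.Check63

set_option autoImplicit false
set_option Elab.async false
set_option maxRecDepth 1000000

namespace CfsgLib.CosetEnum.Fi24Table.Out

open CfsgLib.CosetEnum

theorem pt_ok : ∀ d < 306936, PtOK d := by
  have h0 : ∀ d < 0, PtOK d := fun d hd => absurd hd (Nat.not_lt_zero d)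
  have h1 : ∀ d < 800, PtOK d := okPt_step pts0_chk ent0_chk h0
  have h2 : ∀ d < 1600, PtOK d := okPt_step pts1_chk ent1_chk h1
  have h3 : ∀ d < 2400, PtOK d := okPt_step pts2_chk ent2_chk h2
  have h4 : ∀ d < 3200, PtOK d := okPt_step pts3_chk ent3_chk h3
  have h5 : ∀ d < 4000, PtOK d := okPt_step pts4_chk ent4_chk h4
  have h6 : ∀ d < 4800, PtOK d := okPt_step pts5_chk ent5_chk h5
  have h7 : ∀ d < 5600, PtOK d := okPt_step pts6_chk ent6_chk h6
  have h8 : ∀ d < 6400, PtOK d := okPt_step pts7_chk ent7_chk h7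
  have h9 : ∀ d < 7200, PtOK d := okPt_step pts8_chk ent8_chk h8
  have h10 : ∀ d < 8000, PtOK d := okPt_step pts9_chk ent9_chk h9
  have h11 : ∀ d < 8800, PtOK d := okPt_step pts10_chk ent10_chk h10
  have h12 : ∀ d < 9600, PtOK d := okPt_step pts11_chk ent11_chk h11
  have h13 : ∀ d < 10400, PtOK d := okPt_step pts12_chk ent12_chk h12
  have h14 : ∀ d < 11200, PtOK d := okPt_step pts13_chk ent13_chk h13
  have h15 : ∀ d < 12000, PtOK d := okPt_step pts14_chk ent14_chk h14
  have h16 : ∀ d < 12800, PtOK d := okPt_step pts15_chk ent15_chk h15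
  have h17 : ∀ d < 13600, PtOK d := okPt_step pts16_chk ent16_chk h16
  have h18 : ∀ d < 14400, PtOK d := okPt_step pts17_chk ent17_chk h17
  have h19 : ∀ d < 15200, PtOK d := okPt_step pts18_chk ent18_chk h18
  have h20 : ∀ d < 16000, PtOK d := okPt_step pts19_chk ent19_chk h19
  have h21 : ∀ d < 16800, PtOK d := okPt_step pts20_chk ent20_chk h20
  have h22 : ∀ d < 17600, PtOK d := okPt_step pts21_chk ent21_chk h21
  have h23 : ∀ d < 18400, PtOK d := okPt_step pts22_chk ent22_chk h22
  have h24 : ∀ d < 19200, PtOK d := okPt_step pts23_chk ent23_chk h23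
  have h25 : ∀ d < 20000, PtOK d := okPt_step pts24_chk ent24_chk h24
  have h26 : ∀ d < 20800, PtOK d := okPt_step pts25_chk ent25_chk h25
  have h27 : ∀ d < 21600, PtOK d := okPt_step pts26_chk ent26_chk h26
  have h28 : ∀ d < 22400, PtOK d := okPt_step pts27_chk ent27_chk h27
  have h29 : ∀ d < 23200, PtOK d := okPt_step pts28_chk ent28_chk h28
  have h30 : ∀ d < 24000, PtOK d := okPt_step pts29_chk ent29_chk h29
  have h31 : ∀ d < 24800, PtOK d := okPt_step pts30_chk ent30_chk h30
  have h32 : ∀ d < 25600, PtOK d := okPt_step pts31_chk ent31_chk h31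
  have h33 : ∀ d < 26400, PtOK d := okPt_step pts32_chk ent32_chk h32
  have h34 : ∀ d < 27200, PtOK d := okPt_step pts33_chk ent33_chk h33
  have h35 : ∀ d < 28000, PtOK d := okPt_step pts34_chk ent34_chk h34
  have h36 : ∀ d < 28800, PtOK d := okPt_step pts35_chk ent35_chk h35
  have h37 : ∀ d < 29600, PtOK d := okPt_step pts36_chk ent36_chk h36
  have h38 : ∀ d < 30400, PtOK d := okPt_step pts37_chk ent37_chk h37
  have h39 : ∀ d < 31200, PtOK d := okPt_step pts38_chk ent38_chk h38
  have h40 : ∀ d < 32000, PtOK d := okPt_step pts39_chk ent39_chk h39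
  have h41 : ∀ d < 32800, PtOK d := okPt_step pts40_chk ent40_chk h40
  have h42 : ∀ d < 33600, PtOK d := okPt_step pts41_chk ent41_chk h41
  have h43 : ∀ d < 34400, PtOK d := okPt_step pts42_chk ent42_chk h42
  have h44 : ∀ d < 35200, PtOK d := okPt_step pts43_chk ent43_chk h43
  have h45 : ∀ d < 36000, PtOK d := okPt_step pts44_chk ent44_chk h44
  have h46 : ∀ d < 36800, PtOK d := okPt_step pts45_chk ent45_chk h45
  have h47 : ∀ d < 37600, PtOK d := okPt_step pts46_chk ent46_chk h46
  have h48 : ∀ d < 38400, PtOK d := okPt_step pts47_chk ent47_chk h47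
  have h49 : ∀ d < 39200, PtOK d := okPt_step pts48_chk ent48_chk h48
  have h50 : ∀ d < 40000, PtOK d := okPt_step pts49_chk ent49_chk h49
  have h51 : ∀ d < 40800, PtOK d := okPt_step pts50_chk ent50_chk h50
  have h52 : ∀ d < 41600, PtOK d := okPt_step pts51_chk ent51_chk h51
  have h53 : ∀ d < 42400, PtOK d := okPt_step pts52_chk ent52_chk h52
  have h54 : ∀ d < 43200, PtOK d := okPt_step pts53_chk ent53_chk h53
  have h55 : ∀ d < 44000, PtOK d := okPt_step pts54_chk ent54_chk h54
  have h56 : ∀ d < 44800, PtOK d := okPt_step pts55_chk ent55_chk h55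
  have h57 : ∀ d < 45600, PtOK d := okPt_step pts56_chk ent56_chk h56
  have h58 : ∀ d < 46400, PtOK d := okPt_step pts57_chk ent57_chk h57
  have h59 : ∀ d < 47200, PtOK d := okPt_step pts58_chk ent58_chk h58
  have h60 : ∀ d < 48000, PtOK d := okPt_step pts59_chk ent59_chk h59
  have h61 : ∀ d < 48800, PtOK d := okPt_step pts60_chk ent60_chk h60
  have h62 : ∀ d < 49600, PtOK d := okPt_step pts61_chk ent61_chk h61
  have h63 : ∀ d < 50400, PtOK d := okPt_step pts62_chk ent62_chk h62
  have h64 : ∀ d < 51200, PtOK d := okPt_step pts63_chk ent63_chk h63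
  have h65 : ∀ d < 52000, PtOK d := okPt_step pts64_chk ent64_chk h64
  have h66 : ∀ d < 52800, PtOK d := okPt_step pts65_chk ent65_chk h65
  have h67 : ∀ d < 53600, PtOK d := okPt_step pts66_chk ent66_chk h66
  have h68 : ∀ d < 54400, PtOK d := okPt_step pts67_chk ent67_chk h67
  have h69 : ∀ d < 55200, PtOK d := okPt_step pts68_chk ent68_chk h68
  have h70 : ∀ d < 56000, PtOK d := okPt_step pts69_chk ent69_chk h69
  have h71 : ∀ d < 56800, PtOK d := okPt_step pts70_chk ent70_chk h70
  have h72 : ∀ d < 57600, PtOK d := okPt_step pts71_chk ent71_chk h71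
  have h73 : ∀ d < 58400, PtOK d := okPt_step pts72_chk ent72_chk h72
  have h74 : ∀ d < 59200, PtOK d := okPt_step pts73_chk ent73_chk h73
  have h75 : ∀ d < 60000, PtOK d := okPt_step pts74_chk ent74_chk h74
  have h76 : ∀ d < 60800, PtOK d := okPt_step pts75_chk ent75_chk h75
  have h77 : ∀ d < 61600, PtOK d := okPt_step pts76_chk ent76_chk h76
  have h78 : ∀ d < 62400, PtOK d := okPt_step pts77_chk ent77_chk h77
  have h79 : ∀ d < 63200, PtOK d := okPt_step pts78_chk ent78_chk h78
  have h80 : ∀ d < 64000, PtOK d := okPt_step pts79_chk ent79_chk h79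
  have h81 : ∀ d < 64800, PtOK d := okPt_step pts80_chk ent80_chk h80
  have h82 : ∀ d < 65600, PtOK d := okPt_step pts81_chk ent81_chk h81
  have h83 : ∀ d < 66400, PtOK d := okPt_step pts82_chk ent82_chk h82
  have h84 : ∀ d < 67200, PtOK d := okPt_step pts83_chk ent83_chk h83
  have h85 : ∀ d < 68000, PtOK d := okPt_step pts84_chk ent84_chk h84
  have h86 : ∀ d < 68800, PtOK d := okPt_step pts85_chk ent85_chk h85
  have h87 : ∀ d < 69600, PtOK d := okPt_step pts86_chk ent86_chk h86
  have h88 : ∀ d < 70400, PtOK d := okPt_step pts87_chk ent87_chk h87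
  have h89 : ∀ d < 71200, PtOK d := okPt_step pts88_chk ent88_chk h88
  have h90 : ∀ d < 72000, PtOK d := okPt_step pts89_chk ent89_chk h89
  have h91 : ∀ d < 72800, PtOK d := okPt_step pts90_chk ent90_chk h90
  have h92 : ∀ d < 73600, PtOK d := okPt_step pts91_chk ent91_chk h91
  have h93 : ∀ d < 74400, PtOK d := okPt_step pts92_chk ent92_chk h92
  have h94 : ∀ d < 75200, PtOK d := okPt_step pts93_chk ent93_chk h93
  have h95 : ∀ d < 76000, PtOK d := okPt_step pts94_chk ent94_chk h94
  have h96 : ∀ d < 76800, PtOK d := okPt_step pts95_chk ent95_chk h95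
  have h97 : ∀ d < 77600, PtOK d := okPt_step pts96_chk ent96_chk h96
  have h98 : ∀ d < 78400, PtOK d := okPt_step pts97_chk ent97_chk h97
  have h99 : ∀ d < 79200, PtOK d := okPt_step pts98_chk ent98_chk h98
  have h100 : ∀ d < 80000, PtOK d := okPt_step pts99_chk ent99_chk h99
  have h101 : ∀ d < 80800, PtOK d := okPt_step pts100_chk ent100_chk h100
  have h102 : ∀ d < 81600, PtOK d := okPt_step pts101_chk ent101_chk h101
  have h103 : ∀ d < 82400, PtOK d := okPt_step pts102_chk ent102_chk h102
  have h104 : ∀ d < 83200, PtOK d := okPt_step pts103_chk ent103_chk h103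
  have h105 : ∀ d < 84000, PtOK d := okPt_step pts104_chk ent104_chk h104
  have h106 : ∀ d < 84800, PtOK d := okPt_step pts105_chk ent105_chk h105
  have h107 : ∀ d < 85600, PtOK d := okPt_step pts106_chk ent106_chk h106
  have h108 : ∀ d < 86400, PtOK d := okPt_step pts107_chk ent107_chk h107
  have h109 : ∀ d < 87200, PtOK d := okPt_step pts108_chk ent108_chk h108
  have h110 : ∀ d < 88000, PtOK d := okPt_step pts109_chk ent109_chk h109
  have h111 : ∀ d < 88800, PtOK d := okPt_step pts110_chk ent110_chk h110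
  have h112 : ∀ d < 89600, PtOK d := okPt_step pts111_chk ent111_chk h111
  have h113 : ∀ d < 90400, PtOK d := okPt_step pts112_chk ent112_chk h112
  have h114 : ∀ d < 91200, PtOK d := okPt_step pts113_chk ent113_chk h113
  have h115 : ∀ d < 92000, PtOK d := okPt_step pts114_chk ent114_chk h114
  have h116 : ∀ d < 92800, PtOK d := okPt_step pts115_chk ent115_chk h115
  have h117 : ∀ d < 93600, PtOK d := okPt_step pts116_chk ent116_chk h116
  have h118 : ∀ d < 94400, PtOK d := okPt_step pts117_chk ent117_chk h117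
  have h119 : ∀ d < 95200, PtOK d := okPt_step pts118_chk ent118_chk h118
  have h120 : ∀ d < 96000, PtOK d := okPt_step pts119_chk ent119_chk h119
  have h121 : ∀ d < 96800, PtOK d := okPt_step pts120_chk ent120_chk h120
  have h122 : ∀ d < 97600, PtOK d := okPt_step pts121_chk ent121_chk h121
  have h123 : ∀ d < 98400, PtOK d := okPt_step pts122_chk ent122_chk h122
  have h124 : ∀ d < 99200, PtOK d := okPt_step pts123_chk ent123_chk h123
  have h125 : ∀ d < 100000, PtOK d := okPt_step pts124_chk ent124_chk h124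
  have h126 : ∀ d < 100800, PtOK d := okPt_step pts125_chk ent125_chk h125
  have h127 : ∀ d < 101600, PtOK d := okPt_step pts126_chk ent126_chk h126
  have h128 : ∀ d < 102400, PtOK d := okPt_step pts127_chk ent127_chk h127
  have h129 : ∀ d < 103200, PtOK d := okPt_step pts128_chk ent128_chk h128
  have h130 : ∀ d < 104000, PtOK d := okPt_step pts129_chk ent129_chk h129
  have h131 : ∀ d < 104800, PtOK d := okPt_step pts130_chk ent130_chk h130
  have h132 : ∀ d < 105600, PtOK d := okPt_step pts131_chk ent131_chk h131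
  have h133 : ∀ d < 106400, PtOK d := okPt_step pts132_chk ent132_chk h132
  have h134 : ∀ d < 107200, PtOK d := okPt_step pts133_chk ent133_chk h133
  have h135 : ∀ d < 108000, PtOK d := okPt_step pts134_chk ent134_chk h134
  have h136 : ∀ d < 108800, PtOK d := okPt_step pts135_chk ent135_chk h135
  have h137 : ∀ d < 109600, PtOK d := okPt_step pts136_chk ent136_chk h136
  have h138 : ∀ d < 110400, PtOK d := okPt_step pts137_chk ent137_chk h137
  have h139 : ∀ d < 111200, PtOK d := okPt_step pts138_chk ent138_chk h138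
  have h140 : ∀ d < 112000, PtOK d := okPt_step pts139_chk ent139_chk h139
  have h141 : ∀ d < 112800, PtOK d := okPt_step pts140_chk ent140_chk h140
  have h142 : ∀ d < 113600, PtOK d := okPt_step pts141_chk ent141_chk h141
  have h143 : ∀ d < 114400, PtOK d := okPt_step pts142_chk ent142_chk h142
  have h144 : ∀ d < 115200, PtOK d := okPt_step pts143_chk ent143_chk h143
  have h145 : ∀ d < 116000, PtOK d := okPt_step pts144_chk ent144_chk h144
  have h146 : ∀ d < 116800, PtOK d := okPt_step pts145_chk ent145_chk h145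
  have h147 : ∀ d < 117600, PtOK d := okPt_step pts146_chk ent146_chk h146
  have h148 : ∀ d < 118400, PtOK d := okPt_step pts147_chk ent147_chk h147
  have h149 : ∀ d < 119200, PtOK d := okPt_step pts148_chk ent148_chk h148
  have h150 : ∀ d < 120000, PtOK d := okPt_step pts149_chk ent149_chk h149
  have h151 : ∀ d < 120800, PtOK d := okPt_step pts150_chk ent150_chk h150
  have h152 : ∀ d < 121600, PtOK d := okPt_step pts151_chk ent151_chk h151
  have h153 : ∀ d < 122400, PtOK d := okPt_step pts152_chk ent152_chk h152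
  have h154 : ∀ d < 123200, PtOK d := okPt_step pts153_chk ent153_chk h153
  have h155 : ∀ d < 124000, PtOK d := okPt_step pts154_chk ent154_chk h154
  have h156 : ∀ d < 124800, PtOK d := okPt_step pts155_chk ent155_chk h155
  have h157 : ∀ d < 125600, PtOK d := okPt_step pts156_chk ent156_chk h156
  have h158 : ∀ d < 126400, PtOK d := okPt_step pts157_chk ent157_chk h157
  have h159 : ∀ d < 127200, PtOK d := okPt_step pts158_chk ent158_chk h158
  have h160 : ∀ d < 128000, PtOK d := okPt_step pts159_chk ent159_chk h159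
  have h161 : ∀ d < 128800, PtOK d := okPt_step pts160_chk ent160_chk h160
  have h162 : ∀ d < 129600, PtOK d := okPt_step pts161_chk ent161_chk h161
  have h163 : ∀ d < 130400, PtOK d := okPt_step pts162_chk ent162_chk h162
  have h164 : ∀ d < 131200, PtOK d := okPt_step pts163_chk ent163_chk h163
  have h165 : ∀ d < 132000, PtOK d := okPt_step pts164_chk ent164_chk h164
  have h166 : ∀ d < 132800, PtOK d := okPt_step pts165_chk ent165_chk h165
  have h167 : ∀ d < 133600, PtOK d := okPt_step pts166_chk ent166_chk h166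
  have h168 : ∀ d < 134400, PtOK d := okPt_step pts167_chk ent167_chk h167
  have h169 : ∀ d < 135200, PtOK d := okPt_step pts168_chk ent168_chk h168
  have h170 : ∀ d < 136000, PtOK d := okPt_step pts169_chk ent169_chk h169
  have h171 : ∀ d < 136800, PtOK d := okPt_step pts170_chk ent170_chk h170
  have h172 : ∀ d < 137600, PtOK d := okPt_step pts171_chk ent171_chk h171
  have h173 : ∀ d < 138400, PtOK d := okPt_step pts172_chk ent172_chk h172
  have h174 : ∀ d < 139200, PtOK d := okPt_step pts173_chk ent173_chk h173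
  have h175 : ∀ d < 140000, PtOK d := okPt_step pts174_chk ent174_chk h174
  have h176 : ∀ d < 140800, PtOK d := okPt_step pts175_chk ent175_chk h175
  have h177 : ∀ d < 141600, PtOK d := okPt_step pts176_chk ent176_chk h176
  have h178 : ∀ d < 142400, PtOK d := okPt_step pts177_chk ent177_chk h177
  have h179 : ∀ d < 143200, PtOK d := okPt_step pts178_chk ent178_chk h178
  have h180 : ∀ d < 144000, PtOK d := okPt_step pts179_chk ent179_chk h179
  have h181 : ∀ d < 144800, PtOK d := okPt_step pts180_chk ent180_chk h180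
  have h182 : ∀ d < 145600, PtOK d := okPt_step pts181_chk ent181_chk h181
  have h183 : ∀ d < 146400, PtOK d := okPt_step pts182_chk ent182_chk h182
  have h184 : ∀ d < 147200, PtOK d := okPt_step pts183_chk ent183_chk h183
  have h185 : ∀ d < 148000, PtOK d := okPt_step pts184_chk ent184_chk h184
  have h186 : ∀ d < 148800, PtOK d := okPt_step pts185_chk ent185_chk h185
  have h187 : ∀ d < 149600, PtOK d := okPt_step pts186_chk ent186_chk h186
  have h188 : ∀ d < 150400, PtOK d := okPt_step pts187_chk ent187_chk h187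
  have h189 : ∀ d < 151200, PtOK d := okPt_step pts188_chk ent188_chk h188
  have h190 : ∀ d < 152000, PtOK d := okPt_step pts189_chk ent189_chk h189
  have h191 : ∀ d < 152800, PtOK d := okPt_step pts190_chk ent190_chk h190
  have h192 : ∀ d < 153600, PtOK d := okPt_step pts191_chk ent191_chk h191
  have h193 : ∀ d < 154400, PtOK d := okPt_step pts192_chk ent192_chk h192
  have h194 : ∀ d < 155200, PtOK d := okPt_step pts193_chk ent193_chk h193
  have h195 : ∀ d < 156000, PtOK d := okPt_step pts194_chk ent194_chk h194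
  have h196 : ∀ d < 156800, PtOK d := okPt_step pts195_chk ent195_chk h195
  have h197 : ∀ d < 157600, PtOK d := okPt_step pts196_chk ent196_chk h196
  have h198 : ∀ d < 158400, PtOK d := okPt_step pts197_chk ent197_chk h197
  have h199 : ∀ d < 159200, PtOK d := okPt_step pts198_chk ent198_chk h198
  have h200 : ∀ d < 160000, PtOK d := okPt_step pts199_chk ent199_chk h199
  have h201 : ∀ d < 160800, PtOK d := okPt_step pts200_chk ent200_chk h200
  have h202 : ∀ d < 161600, PtOK d := okPt_step pts201_chk ent201_chk h201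
  have h203 : ∀ d < 162400, PtOK d := okPt_step pts202_chk ent202_chk h202
  have h204 : ∀ d < 163200, PtOK d := okPt_step pts203_chk ent203_chk h203
  have h205 : ∀ d < 164000, PtOK d := okPt_step pts204_chk ent204_chk h204
  have h206 : ∀ d < 164800, PtOK d := okPt_step pts205_chk ent205_chk h205
  have h207 : ∀ d < 165600, PtOK d := okPt_step pts206_chk ent206_chk h206
  have h208 : ∀ d < 166400, PtOK d := okPt_step pts207_chk ent207_chk h207
  have h209 : ∀ d < 167200, PtOK d := okPt_step pts208_chk ent208_chk h208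
  have h210 : ∀ d < 168000, PtOK d := okPt_step pts209_chk ent209_chk h209
  have h211 : ∀ d < 168800, PtOK d := okPt_step pts210_chk ent210_chk h210
  have h212 : ∀ d < 169600, PtOK d := okPt_step pts211_chk ent211_chk h211
  have h213 : ∀ d < 170400, PtOK d := okPt_step pts212_chk ent212_chk h212
  have h214 : ∀ d < 171200, PtOK d := okPt_step pts213_chk ent213_chk h213
  have h215 : ∀ d < 172000, PtOK d := okPt_step pts214_chk ent214_chk h214
  have h216 : ∀ d < 172800, PtOK d := okPt_step pts215_chk ent215_chk h215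
  have h217 : ∀ d < 173600, PtOK d := okPt_step pts216_chk ent216_chk h216
  have h218 : ∀ d < 174400, PtOK d := okPt_step pts217_chk ent217_chk h217
  have h219 : ∀ d < 175200, PtOK d := okPt_step pts218_chk ent218_chk h218
  have h220 : ∀ d < 176000, PtOK d := okPt_step pts219_chk ent219_chk h219
  have h221 : ∀ d < 176800, PtOK d := okPt_step pts220_chk ent220_chk h220
  have h222 : ∀ d < 177600, PtOK d := okPt_step pts221_chk ent221_chk h221
  have h223 : ∀ d < 178400, PtOK d := okPt_step pts222_chk ent222_chk h222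
  have h224 : ∀ d < 179200, PtOK d := okPt_step pts223_chk ent223_chk h223
  have h225 : ∀ d < 180000, PtOK d := okPt_step pts224_chk ent224_chk h224
  have h226 : ∀ d < 180800, PtOK d := okPt_step pts225_chk ent225_chk h225
  have h227 : ∀ d < 181600, PtOK d := okPt_step pts226_chk ent226_chk h226
  have h228 : ∀ d < 182400, PtOK d := okPt_step pts227_chk ent227_chk h227
  have h229 : ∀ d < 183200, PtOK d := okPt_step pts228_chk ent228_chk h228
  have h230 : ∀ d < 184000, PtOK d := okPt_step pts229_chk ent229_chk h229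
  have h231 : ∀ d < 184800, PtOK d := okPt_step pts230_chk ent230_chk h230
  have h232 : ∀ d < 185600, PtOK d := okPt_step pts231_chk ent231_chk h231
  have h233 : ∀ d < 186400, PtOK d := okPt_step pts232_chk ent232_chk h232
  have h234 : ∀ d < 187200, PtOK d := okPt_step pts233_chk ent233_chk h233
  have h235 : ∀ d < 188000, PtOK d := okPt_step pts234_chk ent234_chk h234
  have h236 : ∀ d < 188800, PtOK d := okPt_step pts235_chk ent235_chk h235
  have h237 : ∀ d < 189600, PtOK d := okPt_step pts236_chk ent236_chk h236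
  have h238 : ∀ d < 190400, PtOK d := okPt_step pts237_chk ent237_chk h237
  have h239 : ∀ d < 191200, PtOK d := okPt_step pts238_chk ent238_chk h238
  have h240 : ∀ d < 192000, PtOK d := okPt_step pts239_chk ent239_chk h239
  have h241 : ∀ d < 192800, PtOK d := okPt_step pts240_chk ent240_chk h240
  have h242 : ∀ d < 193600, PtOK d := okPt_step pts241_chk ent241_chk h241
  have h243 : ∀ d < 194400, PtOK d := okPt_step pts242_chk ent242_chk h242
  have h244 : ∀ d < 195200, PtOK d := okPt_step pts243_chk ent243_chk h243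
  have h245 : ∀ d < 196000, PtOK d := okPt_step pts244_chk ent244_chk h244
  have h246 : ∀ d < 196800, PtOK d := okPt_step pts245_chk ent245_chk h245
  have h247 : ∀ d < 197600, PtOK d := okPt_step pts246_chk ent246_chk h246
  have h248 : ∀ d < 198400, PtOK d := okPt_step pts247_chk ent247_chk h247
  have h249 : ∀ d < 199200, PtOK d := okPt_step pts248_chk ent248_chk h248
  have h250 : ∀ d < 200000, PtOK d := okPt_step pts249_chk ent249_chk h249
  have h251 : ∀ d < 200800, PtOK d := okPt_step pts250_chk ent250_chk h250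
  have h252 : ∀ d < 201600, PtOK d := okPt_step pts251_chk ent251_chk h251
  have h253 : ∀ d < 202400, PtOK d := okPt_step pts252_chk ent252_chk h252
  have h254 : ∀ d < 203200, PtOK d := okPt_step pts253_chk ent253_chk h253
  have h255 : ∀ d < 204000, PtOK d := okPt_step pts254_chk ent254_chk h254
  have h256 : ∀ d < 204800, PtOK d := okPt_step pts255_chk ent255_chk h255
  have h257 : ∀ d < 205600, PtOK d := okPt_step pts256_chk ent256_chk h256
  have h258 : ∀ d < 206400, PtOK d := okPt_step pts257_chk ent257_chk h257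
  have h259 : ∀ d < 207200, PtOK d := okPt_step pts258_chk ent258_chk h258
  have h260 : ∀ d < 208000, PtOK d := okPt_step pts259_chk ent259_chk h259
  have h261 : ∀ d < 208800, PtOK d := okPt_step pts260_chk ent260_chk h260
  have h262 : ∀ d < 209600, PtOK d := okPt_step pts261_chk ent261_chk h261
  have h263 : ∀ d < 210400, PtOK d := okPt_step pts262_chk ent262_chk h262
  have h264 : ∀ d < 211200, PtOK d := okPt_step pts263_chk ent263_chk h263
  have h265 : ∀ d < 212000, PtOK d := okPt_step pts264_chk ent264_chk h264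
  have h266 : ∀ d < 212800, PtOK d := okPt_step pts265_chk ent265_chk h265
  have h267 : ∀ d < 213600, PtOK d := okPt_step pts266_chk ent266_chk h266
  have h268 : ∀ d < 214400, PtOK d := okPt_step pts267_chk ent267_chk h267
  have h269 : ∀ d < 215200, PtOK d := okPt_step pts268_chk ent268_chk h268
  have h270 : ∀ d < 216000, PtOK d := okPt_step pts269_chk ent269_chk h269
  have h271 : ∀ d < 216800, PtOK d := okPt_step pts270_chk ent270_chk h270
  have h272 : ∀ d < 217600, PtOK d := okPt_step pts271_chk ent271_chk h271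
  have h273 : ∀ d < 218400, PtOK d := okPt_step pts272_chk ent272_chk h272
  have h274 : ∀ d < 219200, PtOK d := okPt_step pts273_chk ent273_chk h273
  have h275 : ∀ d < 220000, PtOK d := okPt_step pts274_chk ent274_chk h274
  have h276 : ∀ d < 220800, PtOK d := okPt_step pts275_chk ent275_chk h275
  have h277 : ∀ d < 221600, PtOK d := okPt_step pts276_chk ent276_chk h276
  have h278 : ∀ d < 222400, PtOK d := okPt_step pts277_chk ent277_chk h277
  have h279 : ∀ d < 223200, PtOK d := okPt_step pts278_chk ent278_chk h278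
  have h280 : ∀ d < 224000, PtOK d := okPt_step pts279_chk ent279_chk h279
  have h281 : ∀ d < 224800, PtOK d := okPt_step pts280_chk ent280_chk h280
  have h282 : ∀ d < 225600, PtOK d := okPt_step pts281_chk ent281_chk h281
  have h283 : ∀ d < 226400, PtOK d := okPt_step pts282_chk ent282_chk h282
  have h284 : ∀ d < 227200, PtOK d := okPt_step pts283_chk ent283_chk h283
  have h285 : ∀ d < 228000, PtOK d := okPt_step pts284_chk ent284_chk h284
  have h286 : ∀ d < 228800, PtOK d := okPt_step pts285_chk ent285_chk h285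
  have h287 : ∀ d < 229600, PtOK d := okPt_step pts286_chk ent286_chk h286
  have h288 : ∀ d < 230400, PtOK d := okPt_step pts287_chk ent287_chk h287
  have h289 : ∀ d < 231200, PtOK d := okPt_step pts288_chk ent288_chk h288
  have h290 : ∀ d < 232000, PtOK d := okPt_step pts289_chk ent289_chk h289
  have h291 : ∀ d < 232800, PtOK d := okPt_step pts290_chk ent290_chk h290
  have h292 : ∀ d < 233600, PtOK d := okPt_step pts291_chk ent291_chk h291
  have h293 : ∀ d < 234400, PtOK d := okPt_step pts292_chk ent292_chk h292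
  have h294 : ∀ d < 235200, PtOK d := okPt_step pts293_chk ent293_chk h293
  have h295 : ∀ d < 236000, PtOK d := okPt_step pts294_chk ent294_chk h294
  have h296 : ∀ d < 236800, PtOK d := okPt_step pts295_chk ent295_chk h295
  have h297 : ∀ d < 237600, PtOK d := okPt_step pts296_chk ent296_chk h296
  have h298 : ∀ d < 238400, PtOK d := okPt_step pts297_chk ent297_chk h297
  have h299 : ∀ d < 239200, PtOK d := okPt_step pts298_chk ent298_chk h298
  have h300 : ∀ d < 240000, PtOK d := okPt_step pts299_chk ent299_chk h299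
  have h301 : ∀ d < 240800, PtOK d := okPt_step pts300_chk ent300_chk h300
  have h302 : ∀ d < 241600, PtOK d := okPt_step pts301_chk ent301_chk h301
  have h303 : ∀ d < 242400, PtOK d := okPt_step pts302_chk ent302_chk h302
  have h304 : ∀ d < 243200, PtOK d := okPt_step pts303_chk ent303_chk h303
  have h305 : ∀ d < 244000, PtOK d := okPt_step pts304_chk ent304_chk h304
  have h306 : ∀ d < 244800, PtOK d := okPt_step pts305_chk ent305_chk h305
  have h307 : ∀ d < 245600, PtOK d := okPt_step pts306_chk ent306_chk h306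
  have h308 : ∀ d < 246400, PtOK d := okPt_step pts307_chk ent307_chk h307
  have h309 : ∀ d < 247200, PtOK d := okPt_step pts308_chk ent308_chk h308
  have h310 : ∀ d < 248000, PtOK d := okPt_step pts309_chk ent309_chk h309
  have h311 : ∀ d < 248800, PtOK d := okPt_step pts310_chk ent310_chk h310
  have h312 : ∀ d < 249600, PtOK d := okPt_step pts311_chk ent311_chk h311
  have h313 : ∀ d < 250400, PtOK d := okPt_step pts312_chk ent312_chk h312
  have h314 : ∀ d < 251200, PtOK d := okPt_step pts313_chk ent313_chk h313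
  have h315 : ∀ d < 252000, PtOK d := okPt_step pts314_chk ent314_chk h314
  have h316 : ∀ d < 252800, PtOK d := okPt_step pts315_chk ent315_chk h315
  have h317 : ∀ d < 253600, PtOK d := okPt_step pts316_chk ent316_chk h316
  have h318 : ∀ d < 254400, PtOK d := okPt_step pts317_chk ent317_chk h317
  have h319 : ∀ d < 255200, PtOK d := okPt_step pts318_chk ent318_chk h318
  have h320 : ∀ d < 256000, PtOK d := okPt_step pts319_chk ent319_chk h319
  have h321 : ∀ d < 256800, PtOK d := okPt_step pts320_chk ent320_chk h320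
  have h322 : ∀ d < 257600, PtOK d := okPt_step pts321_chk ent321_chk h321
  have h323 : ∀ d < 258400, PtOK d := okPt_step pts322_chk ent322_chk h322
  have h324 : ∀ d < 259200, PtOK d := okPt_step pts323_chk ent323_chk h323
  have h325 : ∀ d < 260000, PtOK d := okPt_step pts324_chk ent324_chk h324
  have h326 : ∀ d < 260800, PtOK d := okPt_step pts325_chk ent325_chk h325
  have h327 : ∀ d < 261600, PtOK d := okPt_step pts326_chk ent326_chk h326
  have h328 : ∀ d < 262400, PtOK d := okPt_step pts327_chk ent327_chk h327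
  have h329 : ∀ d < 263200, PtOK d := okPt_step pts328_chk ent328_chk h328
  have h330 : ∀ d < 264000, PtOK d := okPt_step pts329_chk ent329_chk h329
  have h331 : ∀ d < 264800, PtOK d := okPt_step pts330_chk ent330_chk h330
  have h332 : ∀ d < 265600, PtOK d := okPt_step pts331_chk ent331_chk h331
  have h333 : ∀ d < 266400, PtOK d := okPt_step pts332_chk ent332_chk h332
  have h334 : ∀ d < 267200, PtOK d := okPt_step pts333_chk ent333_chk h333
  have h335 : ∀ d < 268000, PtOK d := okPt_step pts334_chk ent334_chk h334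
  have h336 : ∀ d < 268800, PtOK d := okPt_step pts335_chk ent335_chk h335
  have h337 : ∀ d < 269600, PtOK d := okPt_step pts336_chk ent336_chk h336
  have h338 : ∀ d < 270400, PtOK d := okPt_step pts337_chk ent337_chk h337
  have h339 : ∀ d < 271200, PtOK d := okPt_step pts338_chk ent338_chk h338
  have h340 : ∀ d < 272000, PtOK d := okPt_step pts339_chk ent339_chk h339
  have h341 : ∀ d < 272800, PtOK d := okPt_step pts340_chk ent340_chk h340
  have h342 : ∀ d < 273600, PtOK d := okPt_step pts341_chk ent341_chk h341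
  have h343 : ∀ d < 274400, PtOK d := okPt_step pts342_chk ent342_chk h342
  have h344 : ∀ d < 275200, PtOK d := okPt_step pts343_chk ent343_chk h343
  have h345 : ∀ d < 276000, PtOK d := okPt_step pts344_chk ent344_chk h344
  have h346 : ∀ d < 276800, PtOK d := okPt_step pts345_chk ent345_chk h345
  have h347 : ∀ d < 277600, PtOK d := okPt_step pts346_chk ent346_chk h346
  have h348 : ∀ d < 278400, PtOK d := okPt_step pts347_chk ent347_chk h347
  have h349 : ∀ d < 279200, PtOK d := okPt_step pts348_chk ent348_chk h348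
  have h350 : ∀ d < 280000, PtOK d := okPt_step pts349_chk ent349_chk h349
  have h351 : ∀ d < 280800, PtOK d := okPt_step pts350_chk ent350_chk h350
  have h352 : ∀ d < 281600, PtOK d := okPt_step pts351_chk ent351_chk h351
  have h353 : ∀ d < 282400, PtOK d := okPt_step pts352_chk ent352_chk h352
  have h354 : ∀ d < 283200, PtOK d := okPt_step pts353_chk ent353_chk h353
  have h355 : ∀ d < 284000, PtOK d := okPt_step pts354_chk ent354_chk h354
  have h356 : ∀ d < 284800, PtOK d := okPt_step pts355_chk ent355_chk h355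
  have h357 : ∀ d < 285600, PtOK d := okPt_step pts356_chk ent356_chk h356
  have h358 : ∀ d < 286400, PtOK d := okPt_step pts357_chk ent357_chk h357
  have h359 : ∀ d < 287200, PtOK d := okPt_step pts358_chk ent358_chk h358
  have h360 : ∀ d < 288000, PtOK d := okPt_step pts359_chk ent359_chk h359
  have h361 : ∀ d < 288800, PtOK d := okPt_step pts360_chk ent360_chk h360
  have h362 : ∀ d < 289600, PtOK d := okPt_step pts361_chk ent361_chk h361
  have h363 : ∀ d < 290400, PtOK d := okPt_step pts362_chk ent362_chk h362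
  have h364 : ∀ d < 291200, PtOK d := okPt_step pts363_chk ent363_chk h363
  have h365 : ∀ d < 292000, PtOK d := okPt_step pts364_chk ent364_chk h364
  have h366 : ∀ d < 292800, PtOK d := okPt_step pts365_chk ent365_chk h365
  have h367 : ∀ d < 293600, PtOK d := okPt_step pts366_chk ent366_chk h366
  have h368 : ∀ d < 294400, PtOK d := okPt_step pts367_chk ent367_chk h367
  have h369 : ∀ d < 295200, PtOK d := okPt_step pts368_chk ent368_chk h368
  have h370 : ∀ d < 296000, PtOK d := okPt_step pts369_chk ent369_chk h369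
  have h371 : ∀ d < 296800, PtOK d := okPt_step pts370_chk ent370_chk h370
  have h372 : ∀ d < 297600, PtOK d := okPt_step pts371_chk ent371_chk h371
  have h373 : ∀ d < 298400, PtOK d := okPt_step pts372_chk ent372_chk h372
  have h374 : ∀ d < 299200, PtOK d := okPt_step pts373_chk ent373_chk h373
  have h375 : ∀ d < 300000, PtOK d := okPt_step pts374_chk ent374_chk h374
  have h376 : ∀ d < 300800, PtOK d := okPt_step pts375_chk ent375_chk h375
  have h377 : ∀ d < 301600, PtOK d := okPt_step pts376_chk ent376_chk h376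
  have h378 : ∀ d < 302400, PtOK d := okPt_step pts377_chk ent377_chk h377
  have h379 : ∀ d < 303200, PtOK d := okPt_step pts378_chk ent378_chk h378
  have h380 : ∀ d < 304000, PtOK d := okPt_step pts379_chk ent379_chk h379
  have h381 : ∀ d < 304800, PtOK d := okPt_step pts380_chk ent380_chk h380
  have h382 : ∀ d < 305600, PtOK d := okPt_step pts381_chk ent381_chk h381
  have h383 : ∀ d < 306400, PtOK d := okPt_step pts382_chk ent382_chk h382
  have h384 : ∀ d < 306936, PtOK d := okPt_step pts383_chk ent383_chk h383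
  exact h384

end CfsgLib.CosetEnum.Fi24Table.Out
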