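/-
A product of two commuting transpositions of Fi24 determines them.
-/
import Cfsg.Agent.Lib.CosetEnum.Fi24Table.Out.Base
import Cfsg.Agent.Lib.ThreeTrans.Basic
import Cfsg.Agent.Lib.ThreeTrans.M24.Unique.Fi23Part

set_option autoImplicit false
set_option maxRecDepth 1000000

open Cfsg

namespace CfsgLib.CosetEnum.Fi24Table.Out

open CfsgLib.CosetEnum

local notation "P" => presFi24.Grp
local notation "σ" => presFi24.σ
local notation "hom23" => Fi31671.cert.hom Fi31671.hlt

open CfsgThreeTrans.M24.Unique (C23 tz near_cases σ_mem23)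

/-! ### Fi23 -/

theorem counts_ne :
    Nat.beq (countP (fun d => Nat.beq (Fi31671.table.act 10 (Fi23Class.zf d) 0) d) 31671)
      (countP (fun d => Nat.beq (Fi23Class.zf d) d) 31671) = false := by decide +kernel

theorem ncard_fix {g : presFi23.Grp} {f : ℕ → ℕ} (hg : Fi31671.cert.Realises Fi31671.hlt g f) :
    {d | hom23 g d = d}.ncard = countP (fun d => Nat.beq (f d) d) 31671 := by
  classical
  rw [countP_eq, ← Set.ncard_image_of_injective _ Fin.val_injective, ← Set.ncard_coe_finset]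
  congr 1
  ext r
  simp only [Set.mem_image, Set.mem_setOf_eq, Finset.coe_filter, Finset.mem_range]
  constructor
  · rintro ⟨d, hd, rfl⟩
    exact ⟨d.2, by rw [← hg d, hd]; exact Nat.beq_refl _⟩
  · rintro ⟨hr, h⟩
    exact ⟨⟨r, hr⟩, Fin.ext ((hg _).trans (Nat.eq_of_beq_eq_true h)), rfl⟩

theorem ncard_fix_conj (g h : presFi23.Grp) :
    {d | hom23 (h * g * h⁻¹) d = d}.ncard = {d | hom23 g d = d}.ncard := by
  rw [← Set.ncard_image_of_injective {d | hom23 g d = d} (hom23 h).injective]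
  congr 1
  ext d
  simp only [Set.mem_setOf_eq, Set.mem_image, map_mul, map_inv, Equiv.Perm.mul_apply]
  constructor
  · intro hd
    exact ⟨(hom23 h)⁻¹ d, (hom23 h).injective (hd.trans (Equiv.apply_symm_apply _ _).symm),
      Equiv.apply_symm_apply _ _⟩
  · rintro ⟨e, he, rfl⟩
    rw [show (hom23 h)⁻¹ (hom23 h e) = e from Equiv.symm_apply_apply _ _, he]

/-- The product of two commuting members of the class of Fi23 is no member. -/
theorem no_third {a b : presFi23.Grp} (ha : a ∈ C23) (hb : b ∈ C23) (hne : a ≠ b) (hc : Commute a b) :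
    a * b ∉ C23 := by
  intro hab
  obtain ⟨g, rfl⟩ := isConj_iff.mp ha
  have hy : g⁻¹ * b * g ∈ C23 := by
    obtain ⟨u, rfl⟩ := isConj_iff.mp hb
    exact isConj_iff.mpr ⟨g⁻¹ * u, by group⟩
  have hyc : Commute (g⁻¹ * b * g) tz := by
    have := (Commute.conj_iff g⁻¹).mpr hc.symm
    rwa [inv_inv, show g⁻¹ * (g * tz * g⁻¹) * g = tz by group] at this
  obtain ⟨h, hh, e⟩ := near_cases hy (fun e => hne (by rw [← e]; group)) hyc
  have hht : h * tz * h⁻¹ = tz := by
    rw [(CfsgThreeTrans.M24.Unique.mem_sub23.mp hh).eq, mul_inv_cancel_right]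
  have hb' : b = g * (h * presFi23.σ 0 * h⁻¹) * g⁻¹ := by rw [← e]; group
  obtain ⟨v, hv⟩ := isConj_iff.mp hab
  have key : presFi23.σ 0 * tz = h⁻¹ * g⁻¹ * (g * tz * g⁻¹ * b) * g * h := by
    rw [hc.eq, hb']
    calc presFi23.σ 0 * tz = h⁻¹ * (h * presFi23.σ 0 * h⁻¹ * (h * tz * h⁻¹)) * h := by group
      _ = h⁻¹ * (h * presFi23.σ 0 * h⁻¹ * tz) * h := by rw [hht]
      _ = _ := by group
  have hr : Fi31671.cert.Realises Fi31671.hlt (presFi23.σ 0 * tz)
      (fun d => Fi31671.table.act 10 (Fi23Class.zf d) 0) := fun d => by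
    rw [map_mul, Equiv.Perm.mul_apply, Fi31671.cert.hom_act Fi31671.hlt Fi23Aut.hid (show 0 < presFi23.k by decide),
      Fi23Aut.real_t d]
    rfl
  refine Nat.ne_of_beq_eq_false counts_ne ?_
  rw [← ncard_fix hr, ← ncard_fix Fi23Aut.real_t, key, show g * tz * g⁻¹ * b = v * tz * v⁻¹ from hv.symm,
    show h⁻¹ * g⁻¹ * (v * tz * v⁻¹) * g * h = (h⁻¹ * g⁻¹ * v) * tz * (h⁻¹ * g⁻¹ * v)⁻¹ by group]
  exact ncard_fix_conj _ _

/-! ### Fi24 -/

theorem D_mul_self {d : P} (hd : d ∈ Dset) : d * d = 1 := CfsgThreeTrans.mul_self threeTransposition.1 hd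

theorem D_inv {d : P} (hd : d ∈ Dset) : d⁻¹ = d := CfsgThreeTrans.inv_self threeTransposition.1 hd

theorem D_braid {d e : P} (hd : d ∈ Dset) (he : e ∈ Dset) (h : ¬ Commute d e) : d * e * d = e * d * e :=
  CfsgThreeTrans.braid threeTransposition.1 hd he h

theorem proj_C23 {d : P} (hd : d ∈ Nb (σ 0)) : proj ⟨d, nb_sub hd⟩ ∈ C23 := by
  obtain ⟨k, hk⟩ := proj_near hd
  rw [hk]
  obtain ⟨u, hu⟩ := isConj_iff.mp (σ_mem23 (x := 0) (by norm_num))
  exact isConj_iff.mpr ⟨k * u, by rw [← hu]; group⟩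

theorem no_third_nb {e b : P} (he : e ∈ Nb (σ 0)) (hb : b ∈ Nb (σ 0)) (hne : e ≠ b) (hc : Commute b e) :
    σ 0 * b * e ∉ Nb (σ 0) := by
  intro hf
  refine no_third (proj_C23 hb) (proj_C23 he) (fun h => hne (nb_unique hb he h).symm)
    (Commute.map (show Commute (⟨b, nb_sub hb⟩ : cert.sub) ⟨e, nb_sub he⟩ from Subtype.ext hc.eq) proj) ?_
  have h := proj_C23 hf
  have e' : (⟨σ 0 * b * e, nb_sub hf⟩ : cert.sub) = gS 0 * ⟨b, nb_sub hb⟩ * ⟨e, nb_sub he⟩ :=
    Subtype.ext (by simp [gS_val (show (0 : ℕ) ∈ [0, 2, 3, 4, 5, 6, 7, 8, 9, 10, 11] by decide)])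
  rwa [e', map_mul, map_mul, proj_zero, one_mul] at h

/-- A product of two commuting transpositions determines them. -/
theorem pair_unique {a b e f : P} (ha : a ∈ Dset) (hb : b ∈ Nb a) (he : e ∈ Dset) (hf : f ∈ Nb e)
    (h : a * b = e * f) : e = a ∧ f = b ∨ e = b ∧ f = a := by
  have hea : Commute e a := by
    by_contra hn
    have hp : a * b * e = e * (a * b) := by
      rw [h, ← mul_assoc, D_mul_self he, one_mul, mul_assoc, ← hf.2.2.eq, ← mul_assoc, D_mul_self he, one_mul]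
    have hab : b * e * b = a * e * a := by
      calc b * e * b = a * (a * b * e) * b := by rw [← mul_assoc, ← mul_assoc, D_mul_self ha, one_mul]
        _ = a * (e * (a * b)) * b := by rw [hp]
        _ = a * e * a * (b * b) := by group
        _ = a * e * a := by rw [D_mul_self hb.1, mul_one]
    have hnb : ¬ Commute e b := fun hc => by
      rw [← hc.eq, mul_assoc, D_mul_self hb.1, mul_one] at hab
      refine hn ?_
      calc e * a = a * e * a * a := by rw [← hab]
        _ = a * e := by rw [mul_assoc, D_mul_self ha, mul_one]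
    rw [← D_braid he ha hn, ← D_braid he hb.1 hnb] at hab
    exact hb.2.1 (mul_left_cancel (mul_right_cancel hab))
  have heb : Commute e b := by
    have hb' : b = a * (e * f) := by rw [← h, ← mul_assoc, D_mul_self ha, one_mul]
    rw [hb']
    exact hea.mul_right ((Commute.refl e).mul_right hf.2.2)
  by_cases hea' : e = a
  · exact Or.inl ⟨hea', mul_left_cancel (a := a) (by rw [h, hea'])⟩
  by_cases heb' : e = b
  · refine Or.inr ⟨heb', mul_left_cancel (a := b) ?_⟩
    rw [← hb.2.2.eq, h, heb']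
  exfalso
  obtain ⟨g, hg⟩ := isConj_iff.mp ha
  have tr : ∀ {x : P}, x ∈ Nb a → g⁻¹ * x * g ∈ Nb (σ 0) := by
    intro x hx
    refine ⟨?_, fun e' => hx.2.1 (by rw [← hg, ← e']; group), ?_⟩
    · have := D_conj g⁻¹ hx.1
      rwa [inv_inv] at this
    · have := (Commute.conj_iff g⁻¹).mpr hx.2.2
      rwa [inv_inv, ← hg, show g⁻¹ * (g * σ 0 * g⁻¹) * g = σ 0 by group] at this
  have hfa : f ∈ Nb a := by
    have hf' : f = e * (a * b) := by rw [h, ← mul_assoc, D_mul_self he, one_mul]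
    refine ⟨hf.1, fun e' => heb' ?_, ?_⟩
    · refine mul_right_cancel (b := a) ?_
      rw [← hb.2.2.eq, h, e']
    · rw [hf']
      exact hea.symm.mul_right ((Commute.refl a).mul_right hb.2.2)
  have he' := tr (x := e) ⟨he, hea', hea.symm⟩
  refine no_third_nb he' (tr hb) (fun e' => heb' (mul_left_cancel (mul_right_cancel e'))) ?_ ?_
  · have := (Commute.conj_iff g⁻¹).mpr heb.symm
    rwa [inv_inv] at this
  · rw [show σ 0 * (g⁻¹ * b * g) * (g⁻¹ * e * g) = g⁻¹ * (g * σ 0 * g⁻¹ * b * e) * g by group, hg,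
      show a * b * e = f by rw [h, mul_assoc, ← hf.2.2.eq, ← mul_assoc, D_mul_self he, one_mul]]
    exact tr hfa

/-- An element centralising a product of two commuting transpositions permutes them. -/
theorem pair_perm {a b g : P} (ha : a ∈ Dset) (hb : b ∈ Nb a) (h : Commute g (a * b)) :
    (g * a * g⁻¹ = a ∧ g * b * g⁻¹ = b) ∨ (g * a * g⁻¹ = b ∧ g * b * g⁻¹ = a) := by
  refine pair_unique ha hb (D_conj g ha) ⟨D_conj g hb.1, fun e => hb.2.1 ?_, (Commute.conj_iff g).mpr hb.2.2⟩ ?_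
  · exact mul_left_cancel (mul_right_cancel e)
  · rw [show g * a * g⁻¹ * (g * b * g⁻¹) = g * (a * b) * g⁻¹ by group, h.eq, mul_inv_cancel_right]

/-- An element of order dividing three centralising such a product centralises both. -/
theorem pair_fix {a b g : P} (ha : a ∈ Dset) (hb : b ∈ Nb a) (h : Commute g (a * b)) (h3 : g ^ 3 = 1) :
    Commute g a := by
  rcases pair_perm ha hb h with ⟨h1, -⟩ | ⟨h1, h2⟩
  · exact mul_inv_eq_iff_eq_mul.mp h1
  · exfalso
    refine hb.2.1 ?_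
    calc b = g * a * g⁻¹ := h1.symm
      _ = g * (g * b * g⁻¹) * g⁻¹ := by rw [h2]
      _ = g * (g * (g * a * g⁻¹) * g⁻¹) * g⁻¹ := by rw [h1]
      _ = g ^ 3 * a * (g ^ 3)⁻¹ := by rw [pow_succ, pow_two]; group
      _ = a := by rw [h3]; group

end CfsgLib.CosetEnum.Fi24Table.Out
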