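/-
The elements of Fi24 commuting with the element of order 13: involutions and the six transpositions.
-/
import Cfsg.Agent.Lib.CosetEnum.Fi24Table.Out.Unique
import Cfsg.Agent.Lib.CosetEnum.Fi24Table.Out.Checks

set_option autoImplicit false
set_option maxRecDepth 1000000

open Cfsg

namespace CfsgLib.CosetEnum.Fi24Table.Out

open CfsgLib.CosetEnum

local notation "P" => presFi24.Grp
local notation "σ" => presFi24.σ

/-- The image of the transposition `j` under conjugation by `k`, among the six. -/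
def cj (k j : ℕ) : ℕ :=
  if (k < 3 ↔ j < 3) ∧ k ≠ j then (if k < 3 then 3 - k - j else 12 - k - j) else j

theorem cj_lt : ∀ k < 6, ∀ j < 6, cj k j < 6 := by decide

theorem cj_table : ∀ k < 6, ∀ j < 6, fW (wF k) (pF j) = pF (cj k j) := by decide +kernel

theorem conj_F {k j : ℕ} (hk : k < 6) (hj : j < 6) : dF k * dF j * (dF k)⁻¹ = dF (cj k j) := by
  have h := (at_F hj).conj (dF k)
  rw [real_F hk, cj_table k hk j hj] at h
  exact h.eq (at_F (cj_lt k hk j hj))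

/-- A transposition commuting with the element of order 13 is one of the six. -/
theorem mem_six {d : P} (hd : d ∈ Dset) (hc : Commute ye d) : ∃ i < 6, d = dF i := by
  obtain ⟨q, hq⟩ := exists_at hd
  have h := (pt_ok q hq.lt).1 ((At.comm real_y hq).mpr hc)
  obtain ⟨i, hi, rfl⟩ := (show ∀ q ∈ fPts, ∃ i, i < 6 ∧ pF i = q from fun q hq => by
    obtain ⟨i, hi, rfl⟩ := List.getElem_of_mem hq
    exact ⟨i, hi, (List.getElem_eq_getD (fallback := 0) (h := hi)).symm⟩) q h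
  exact ⟨i, hi, hq.eq (at_F hi)⟩

theorem six_perm {g : P} (hg : Commute g ye) {i : ℕ} (hi : i < 6) : ∃ j < 6, g * dF i * g⁻¹ = dF j := by
  refine mem_six (D_conj g (dF_mem hi)) ?_
  have := (Commute.conj_iff g).mpr (y_comm hi)
  rwa [hg.eq, mul_inv_cancel_right] at this

/-- Elements bringing a member of each triple to the first one. -/
theorem exists_move {i j : ℕ} (hi : i < 3) (hj : 3 ≤ j) (hj' : j < 6) : ∃ g : P, Commute g ye ∧
    g * dF i * g⁻¹ = dF 0 ∧ g * dF j * g⁻¹ = dF 3 := by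
  obtain ⟨A, hA, hAi, hAj⟩ : ∃ A : P, Commute A ye ∧ A * dF i * A⁻¹ = dF 0 ∧ A * dF j * A⁻¹ = dF j := by
    rcases Nat.eq_zero_or_pos i with rfl | h
    · exact ⟨1, Commute.one_left _, by simp, by simp⟩
    · refine ⟨dF (3 - i), (y_comm (by omega)).symm, ?_, ?_⟩
      · rw [conj_F (by omega) (by omega), cj, if_pos ⟨by omega, by omega⟩, if_pos (by omega),
          show 3 - (3 - i) - i = 0 by omega]
      · rw [conj_F (by omega) hj', cj, if_neg (by omega)]
  obtain ⟨B, hB, hB0, hBj⟩ : ∃ B : P, Commute B ye ∧ B * dF 0 * B⁻¹ = dF 0 ∧ B * dF j * B⁻¹ = dF 3 := by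
    rcases Nat.eq_or_lt_of_le hj with rfl | h
    · exact ⟨1, Commute.one_left _, by simp, by simp⟩
    · refine ⟨dF (9 - j), (y_comm (by omega)).symm, ?_, ?_⟩
      · rw [conj_F (by omega) (by omega), cj, if_neg (by omega)]
      · rw [conj_F (by omega) hj', cj, if_pos ⟨by omega, by omega⟩, if_neg (by omega),
          show 12 - (9 - j) - j = 3 by omega]
  refine ⟨B * A, hB.mul_left hA, ?_, ?_⟩
  · rw [show B * A * dF i * (B * A)⁻¹ = B * (A * dF i * A⁻¹) * B⁻¹ by group, hAi, hB0]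
  · rw [show B * A * dF j * (B * A)⁻¹ = B * (A * dF j * A⁻¹) * B⁻¹ by group, hAj, hBj]

/-! ### No element exchanges the two triples -/

theorem r_facts : (∀ x ∈ rWord, x < 12) ∧ runT table 12 rWord.reverse 0 = 16 ∧ genPts24.getD 3 0 = 16 ∧
    fG 0 16 = 16 ∧ fW (wF 3) 16 = 16 ∧ fG 1 16 = 16 ∧ fW rWord (pF 4) ≠ pF 4 ∧ pF 0 ≠ 16 ∧ pF 3 ≠ 16 ∧
    (List.range 6).all (fun i => beqB (patAt rWord 16 i) (tgt.getD i false)) = true := by
  decide +kernel

theorem pat_iff {w : List ℕ} (hw : ∀ x ∈ w, x < 12) {d : P} {v : ℕ} (hd : At d v) (hdw : d = dW w) (i : ℕ) :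
    patAt w v i = true ↔ Commute d (ye ^ (i + 1) * d * (ye ^ (i + 1))⁻¹) := by
  have h := hd.conj (ye ^ (i + 1))
  rw [cert.realises_pow hltRels real_y (i + 1) ⟨v, hd.1⟩] at h
  have h' := At.comm (real_W hw) h
  rw [← hdw] at h'
  rw [← h', patAt, force_eq]
  exact ⟨Nat.eq_of_beq_eq_true, fun e => by rw [e]; exact Nat.beq_refl _⟩

theorem no_swap {g : P} (hg : Commute g ye) (h0 : g * dF 0 * g⁻¹ = dF 3) (h3 : g * dF 3 * g⁻¹ = dF 0)
    (h1 : g * dF 1 * g⁻¹ = dF 4) (h4 : g * dF 4 * g⁻¹ = dF 1) : False := by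
  obtain ⟨hrw, hr16, hg16, hr0, hr3, hr1, hr4, hp0, hp3, hpat⟩ := r_facts
  have at16 : At (σ 3) 16 := hg16 ▸ at_gen (by norm_num)
  have hσ3 : σ 3 = dW rWord := at16.eq (at_W hrw (by norm_num) hr16)
  have c30 : Commute (dF 3) (σ 3) := (At.comm (real_F (by norm_num)) at16).mp hr3
  have c03 : Commute (σ 0) (σ 3) := (At.comm (real_G (by norm_num)) at16).mp hr0
  set v : ℕ := ((π g ⟨16, at16.1⟩ : Fin cert.T.n) : ℕ) with hv
  have hd : At (g * σ 3 * g⁻¹) v := at16.conj g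
  have f0 : fG 0 v = v := (At.comm (real_G (by norm_num)) hd).mpr (by
    rw [← dF_zero, ← h3]; exact (Commute.conj_iff g).mpr c30)
  have f3 : fW (wF 3) v = v := (At.comm (real_F (i := 3) (by norm_num)) hd).mpr (by
    show Commute (dF 3) _
    rw [← h0, dF_zero]; exact (Commute.conj_iff g).mpr c03)
  have nv : ∀ i, i = 0 ∨ i = 3 → v ≠ pF i := by
    intro i hi e
    have e' : g * σ 3 * g⁻¹ = dF i := hd.eq (e ▸ at_F (by omega))
    rcases hi with rfl | rfl
    · rw [← h3] at e'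
      exact hp3 (((mul_left_cancel (mul_right_cancel e')) ▸ at16).inj (at_F (by norm_num))).symm
    · rw [← h0] at e'
      exact hp0 (((mul_left_cancel (mul_right_cancel e')) ▸ at16).inj (at_F (by norm_num))).symm
  rcases (pt_ok v hd.lt).2.2.2.2 f0 f3 with h | h | ⟨w, hw, hwr, hno⟩
  · exact nv 0 (Or.inl rfl) (h.trans (by decide +kernel))
  · exact nv 3 (Or.inr rfl) (h.trans (by decide +kernel))
  have hdw : g * σ 3 * g⁻¹ = dW w := hd.eq (at_W hw hd.lt hwr)
  have hgy : ∀ m : ℕ, Commute g (ye ^ m) := fun m => hg.pow_right m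
  have hp : (List.range 6).all (fun i => beqB (patAt w v i) (tgt.getD i false)) = true := by
    rw [List.all_eq_true] at hpat ⊢
    intro i hi
    rw [← hpat i hi]
    congr 1
    rw [Bool.eq_iff_iff, pat_iff hw hd hdw, pat_iff hrw at16 hσ3]
    rw [show ye ^ (i + 1) * (g * σ 3 * g⁻¹) * (ye ^ (i + 1))⁻¹ =
        g * (ye ^ (i + 1) * σ 3 * (ye ^ (i + 1))⁻¹) * g⁻¹ by
      rw [← mul_assoc, ← mul_assoc, ← (hgy (i + 1)).eq, mul_assoc g, mul_assoc g, mul_assoc g]
      rw [mul_assoc g _ g⁻¹, mul_assoc (ye ^ (i + 1) * σ 3), show (g⁻¹ * (ye ^ (i + 1))⁻¹) = (ye ^ (i + 1))⁻¹ * g⁻¹ from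
        ((hgy (i + 1)).symm.inv_inv).eq.symm]
      group, Commute.conj_iff g]
  have n1 : fG 1 v ≠ v := fun e => by
    have hc := (At.comm (real_G (by norm_num)) hd).mp e
    rw [← dF_one, ← h4] at hc
    have hc' := ((Commute.conj_iff g).mp hc).symm
    rw [hσ3] at hc'
    exact hr4 ((At.comm (real_W hrw) (at_F (by norm_num))).mpr hc')
  have h4' : fW w (pF 4) = pF 4 := (At.comm (real_W hw) (at_F (by norm_num))).mpr (by
    rw [← hdw, ← h1]
    exact (Commute.conj_iff g).mpr (dF_one ▸ ((At.comm (real_G (by norm_num)) at16).mp hr1).symm))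
  simp only [swapPat, hp, Bool.true_and] at hno
  rw [show fW w (pF (nat_lit 4)) = pF 4 from h4', show Nat.beq (pF 4) (pF 4) = true from Nat.beq_refl _,
    Bool.and_true, natBeq_eq, show fG (nat_lit 1) v = fG 1 v from rfl, decide_eq_false n1] at hno
  simp at hno

/-! ### Involutions -/

theorem conj_mul_conj (g a b : P) : g * (a * b) * g⁻¹ = g * a * g⁻¹ * (g * b * g⁻¹) := by group

theorem core_fix {x : P} (h0 : Commute x (σ 0)) (hy : Commute x ye) (h2 : x * x = 1) (h1 : x ≠ 1)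
    (hs : sgn x = 1) : ∃ j, 3 ≤ j ∧ j < 6 ∧ x = dF 0 * dF j := by
  have hx : x ∈ cert.sub := mem_sub_iff.mpr ((stab x).mpr h0.eq)
  by_cases hp : proj ⟨x, hx⟩ = 1
  · exfalso
    rcases proj_eq_one hp with e | e
    · exact h1 (congrArg Subtype.val e)
    · have e' : x = σ 0 := (congrArg Subtype.val e).trans (gS_val (by decide))
      rw [e', sgn_σ0] at hs
      exact absurd hs (by decide)
  have hq2 : proj ⟨x, hx⟩ * proj ⟨x, hx⟩ = 1 := by
    rw [← map_mul, show (⟨x, hx⟩ : cert.sub) * ⟨x, hx⟩ = 1 from Subtype.ext h2, map_one]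
  have hqy : proj ⟨x, hx⟩ * Fi23Aut.xe = Fi23Aut.xe * proj ⟨x, hx⟩ := by
    rw [← proj_y, ← map_mul, ← map_mul]
    exact congrArg proj (Subtype.ext hy.eq)
  obtain ⟨k, hk⟩ := isConj_iff.mp (Fi23Aut.invol_mem _ hq2 hp hqy)
  obtain ⟨u, hu⟩ := isConj_iff.mp (CfsgThreeTrans.M24.Unique.σ_mem23 (x := 0) (by norm_num))
  obtain ⟨d, hd, hdk⟩ := exists_lift (k * u⁻¹)
  have hdx : proj ⟨d, nb_sub hd⟩ = proj ⟨x, hx⟩ := by rw [hdk, ← hk, ← hu]; group
  have hxd : x = σ 0 * d := by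
    have e := proj_inj (g := ⟨x, hx⟩) (h := gS 0 * ⟨d, nb_sub hd⟩) (by rw [map_mul, proj_zero, one_mul, hdx]) (by
      rw [hs, Subgroup.coe_mul, gS_val (by decide), map_mul, sgn_σ0, sgn_D hd.1]; decide)
    have e' := congrArg Subtype.val e
    rwa [Subgroup.coe_mul, gS_val (by decide)] at e'
  have hyd : Commute ye d := by
    have e : d = σ 0 * x := by rw [hxd, ← mul_assoc, presFi24.σ_sq, one_mul]
    rw [e]
    exact (dF_zero ▸ y_comm (i := 0) (by norm_num)).mul_right hy.symm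
  obtain ⟨j, hj, rfl⟩ := mem_six hd.1 hyd
  refine ⟨j, ?_, hj, by rw [dF_zero]; exact hxd⟩
  by_contra hj3
  have hc := hd.2.2
  rw [← dF_zero, comm_F (by norm_num) hj] at hc
  rcases hc with rfl | hc
  · exact hd.2.1 dF_zero
  · exact hc (iff_of_true (by norm_num) (by omega))

/-- An involution of sign one commuting with the element of order 13 is a product from the two triples. -/
theorem invol_pair {x : P} (hy : Commute x ye) (h2 : x * x = 1) (h1 : x ≠ 1) (hs : sgn x = 1) :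
    ∃ i j, i < 3 ∧ 3 ≤ j ∧ j < 6 ∧ x = dF i * dF j := by
  have hinv : x⁻¹ = x := inv_eq_of_mul_eq_one_right h2
  have back : ∀ {a b : P}, x * a * x⁻¹ = b → x * b * x⁻¹ = a := fun {a b} h => by
    rw [← h, hinv, show x * (x * a * x) * x = x * x * a * (x * x) by group, h2, one_mul, mul_one]
  have hfix : ∀ i < 3, x * dF i * x⁻¹ = dF i → ∃ i j, i < 3 ∧ 3 ≤ j ∧ j < 6 ∧ x = dF i * dF j := by
    intro i hi hf
    obtain ⟨g, hg, hgi, hg3⟩ := exists_move hi (le_refl 3) (by norm_num)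
    have hfx : Commute x (dF i) := mul_inv_eq_iff_eq_mul.mp hf
    have hc : Commute (g * x * g⁻¹) (σ 0) := by
      rw [← dF_zero, ← hgi]; exact (Commute.conj_iff g).mpr hfx
    obtain ⟨j, hj3, hj6, e⟩ := core_fix hc ((hg.mul_left hy).mul_left hg.inv_left)
      (by rw [show g * x * g⁻¹ * (g * x * g⁻¹) = g * (x * x) * g⁻¹ by group, h2, mul_one, mul_inv_cancel])
      (fun e => h1 (conj_eq_one_iff.mp e))
      (by rw [map_mul, map_mul, map_inv, hs, mul_one, mul_inv_cancel])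
    obtain ⟨l, hl, hgl⟩ := six_perm hg.inv_left hj6
    have e2 : x = g⁻¹ * dF 0 * g⁻¹⁻¹ * (g⁻¹ * dF j * g⁻¹⁻¹) := by
      rw [← conj_mul_conj, ← e]; group
    rw [hgl, ← hgi, show g⁻¹ * (g * dF i * g⁻¹) * g⁻¹⁻¹ = dF i by group] at e2
    refine ⟨i, l, hi, ?_, hl, e2⟩
    by_contra hl3
    have hne : dF l ≠ dF i := fun e' => h1 (by rw [e2, e', D_mul_self (dF_mem (by omega))])
    have hc' : Commute (dF l) (dF i) := by
      have h := (Commute.refl (dF i)).inv_left.mul_left (e2 ▸ hfx : Commute (dF i * dF l) (dF i))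
      rwa [inv_mul_cancel_left] at h
    rcases (comm_F hl (by omega)).mp hc' with rfl | h
    · exact hne rfl
    · exact h (iff_of_true (by omega) (by omega))
  obtain ⟨k, hk, hxk⟩ := six_perm hy (i := 0) (by norm_num)
  by_cases hk3 : k < 3
  · interval_cases k
    · exact hfix 0 (by norm_num) hxk
    · refine hfix 2 (by norm_num) ?_
      have e1 := back hxk
      rw [← conj_F (k := 0) (j := 1) (by norm_num) (by norm_num) |>.trans (show dF (cj 0 1) = dF 2 from rfl),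
        show x * (dF 0 * dF 1 * (dF 0)⁻¹) * x⁻¹ = x * dF 0 * x⁻¹ * (x * dF 1 * x⁻¹) * (x * dF 0 * x⁻¹)⁻¹ by group,
        hxk, e1, conj_F (by norm_num) (by norm_num), conj_F (by norm_num) (by norm_num)]
      rfl
    · refine hfix 1 (by norm_num) ?_
      have e1 := back hxk
      rw [← conj_F (k := 0) (j := 2) (by norm_num) (by norm_num) |>.trans (show dF (cj 0 2) = dF 1 from rfl),
        show x * (dF 0 * dF 2 * (dF 0)⁻¹) * x⁻¹ = x * dF 0 * x⁻¹ * (x * dF 2 * x⁻¹) * (x * dF 0 * x⁻¹)⁻¹ by group,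
        hxk, e1, conj_F (by norm_num) (by norm_num), conj_F (by norm_num) (by norm_num)]
      rfl
  exfalso
  obtain ⟨B, hB, -, hBk⟩ := exists_move (i := 0) (by norm_num) (not_lt.mp hk3) hk
  set g := B * x
  have hg : Commute g ye := hB.mul_left hy
  have g0 : g * dF 0 * g⁻¹ = dF 3 := by
    rw [show g * dF 0 * g⁻¹ = B * (x * dF 0 * x⁻¹) * B⁻¹ by simp only [g]; group, hxk, hBk]
  obtain ⟨m, hm, gm⟩ := six_perm hg (i := 3) (by norm_num)
  have hm3 : m < 3 := by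
    have hc := (Commute.conj_iff g).mpr ((comm_F (i := 0) (j := 3) (by norm_num) (by norm_num)).mpr (Or.inr (by simp)))
    rw [g0, gm, comm_F (by norm_num) hm] at hc
    rcases hc with rfl | h
    · exact absurd (dF_inj (by norm_num) (by norm_num) (mul_left_cancel (mul_right_cancel (g0.trans gm.symm))))
        (by norm_num)
    · omega
  obtain ⟨A, hA, hAm, hA3⟩ := exists_move hm3 (le_refl 3) (by norm_num)
  set g1 := A * g
  have hg1 : Commute g1 ye := hA.mul_left hg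
  have a0 : g1 * dF 0 * g1⁻¹ = dF 3 := by
    rw [show g1 * dF 0 * g1⁻¹ = A * (g * dF 0 * g⁻¹) * A⁻¹ by simp only [g1]; group, g0, hA3]
  have a3 : g1 * dF 3 * g1⁻¹ = dF 0 := by
    rw [show g1 * dF 3 * g1⁻¹ = A * (g * dF 3 * g⁻¹) * A⁻¹ by simp only [g1]; group, gm, hAm]
  obtain ⟨g2, hg2, b0, b3, b1⟩ : ∃ g2 : P, Commute g2 ye ∧ g2 * dF 0 * g2⁻¹ = dF 3 ∧ g2 * dF 3 * g2⁻¹ = dF 0 ∧
      g2 * dF 1 * g2⁻¹ = dF 4 := by
    obtain ⟨l, hl, gl⟩ := six_perm hg1 (i := 1) (by norm_num)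
    have hn : ¬ Commute (dF 3) (dF l) := by
      rw [← a0, ← gl, Commute.conj_iff, comm_F (by norm_num) (by norm_num)]
      simp
    rw [comm_F (by norm_num) hl] at hn
    obtain rfl | rfl : l = 4 ∨ l = 5 := by omega
    · exact ⟨g1, hg1, a0, a3, gl⟩
    · refine ⟨g1 * dF 0, hg1.mul_left (y_comm (by norm_num)).symm, ?_, ?_, ?_⟩
      · rw [show g1 * dF 0 * dF 0 * (g1 * dF 0)⁻¹ = g1 * (dF 0 * dF 0 * (dF 0)⁻¹) * g1⁻¹ by group, mul_inv_cancel_right, a0]
      · rw [show g1 * dF 0 * dF 3 * (g1 * dF 0)⁻¹ = g1 * (dF 0 * dF 3 * (dF 0)⁻¹) * g1⁻¹ by group,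
          conj_F (by norm_num) (by norm_num)]
        exact a3
      · rw [show g1 * dF 0 * dF 1 * (g1 * dF 0)⁻¹ =
          g1 * dF 0 * g1⁻¹ * (g1 * dF 1 * g1⁻¹) * (g1 * dF 0 * g1⁻¹)⁻¹ by group, a0, gl,
          conj_F (by norm_num) (by norm_num)]
        rfl
  obtain ⟨l, hl, gl⟩ := six_perm hg2 (i := 4) (by norm_num)
  have hn : ¬ Commute (dF 0) (dF l) := by
    rw [← b3, ← gl, Commute.conj_iff, comm_F (by norm_num) (by norm_num)]
    simp
  rw [comm_F (by norm_num) hl] at hn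
  obtain rfl | rfl : l = 1 ∨ l = 2 := by omega
  · exact no_swap hg2 b0 b3 b1 gl
  · refine no_swap (g := g2 * dF 3) (hg2.mul_left (y_comm (by norm_num)).symm) ?_ ?_ ?_ ?_
    · rw [show g2 * dF 3 * dF 0 * (g2 * dF 3)⁻¹ = g2 * (dF 3 * dF 0 * (dF 3)⁻¹) * g2⁻¹ by group,
        conj_F (by norm_num) (by norm_num)]
      exact b0
    · rw [show g2 * dF 3 * dF 3 * (g2 * dF 3)⁻¹ = g2 * (dF 3 * dF 3 * (dF 3)⁻¹) * g2⁻¹ by group, mul_inv_cancel_right, b3]
    · rw [show g2 * dF 3 * dF 1 * (g2 * dF 3)⁻¹ = g2 * (dF 3 * dF 1 * (dF 3)⁻¹) * g2⁻¹ by group,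
        conj_F (by norm_num) (by norm_num)]
      exact b1
    · rw [show g2 * dF 3 * dF 4 * (g2 * dF 3)⁻¹ =
        g2 * dF 3 * g2⁻¹ * (g2 * dF 4 * g2⁻¹) * (g2 * dF 3 * g2⁻¹)⁻¹ by group, b3, gl,
        conj_F (by norm_num) (by norm_num)]
      rfl

end CfsgLib.CosetEnum.Fi24Table.Out
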