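/-
Automorphisms of the derived group of Fi24 on products of two commuting transpositions.
-/
import Cfsg.Agent.Lib.CosetEnum.Fi24Table.Out.Six
import Mathlib.GroupTheory.Sylow

set_option autoImplicit false
set_option maxRecDepth 1000000

open Cfsg

namespace CfsgLib.CosetEnum.Fi24Table.Out

open CfsgLib.CosetEnum

local notation "P" => presFi24.Grp
local notation "σ" => presFi24.σ
local notation "G'" => commutator presFi24.Grp

open scoped Classical in
/-- The value of an automorphism of the derived group, extended trivially. -/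
noncomputable def app (α : MulAut G') (g : P) : P := if h : g ∈ G' then (α ⟨g, h⟩ : P) else 1

theorem app_eq (α : MulAut G') {g : P} (h : g ∈ G') : app α g = (α ⟨g, h⟩ : P) := dif_pos h

theorem app_mem (α : MulAut G') (g : P) : app α g ∈ G' := by
  unfold app
  split
  · exact SetLike.coe_mem _
  · exact one_mem _

theorem app_mul (α : MulAut G') {g h : P} (hg : g ∈ G') (hh : h ∈ G') : app α (g * h) = app α g * app α h := by
  rw [app_eq α hg, app_eq α hh, app_eq α (mul_mem hg hh), ← Subgroup.coe_mul, ← map_mul]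
  rfl

theorem app_one (α : MulAut G') : app α 1 = 1 := by
  rw [app_eq α (one_mem _), show (⟨1, one_mem _⟩ : G') = 1 from rfl, map_one]; rfl

theorem app_inv (α : MulAut G') {g : P} (hg : g ∈ G') : app α g⁻¹ = (app α g)⁻¹ :=
  eq_inv_of_mul_eq_one_left (by rw [← app_mul α (inv_mem hg) hg, inv_mul_cancel, app_one])

theorem app_conj (α : MulAut G') {u g : P} (hu : u ∈ G') (hg : g ∈ G') :
    app α (u * g * u⁻¹) = app α u * app α g * (app α u)⁻¹ := by
  rw [app_mul α (mul_mem hu hg) (inv_mem hu), app_mul α hu hg, app_inv α hu]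

theorem app_inj (α : MulAut G') {g h : P} (hg : g ∈ G') (hh : h ∈ G') (e : app α g = app α h) : g = h := by
  rw [app_eq α hg, app_eq α hh] at e
  exact congrArg Subtype.val (α.injective (Subtype.ext e))

theorem app_comm (α : MulAut G') {g h : P} (hg : g ∈ G') (hh : h ∈ G') (hc : Commute g h) :
    Commute (app α g) (app α h) := by
  show _ * _ = _ * _
  rw [← app_mul α hg hh, ← app_mul α hh hg, hc.eq]

theorem app_pow (α : MulAut G') {g : P} (hg : g ∈ G') : ∀ m : ℕ, app α (g ^ m) = app α g ^ m := by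
  intro m
  induction m with
  | zero => rw [pow_zero, pow_zero, app_one]
  | succ m ih => rw [pow_succ, app_mul α (pow_mem hg m) hg, ih, pow_succ]

/-- The automorphism followed by conjugation with an element. -/
noncomputable def twist (g : P) (α : MulAut G') : MulAut G' := MulAut.conjNormal g * α

theorem app_twist (g : P) (α : MulAut G') {h : P} (hh : h ∈ G') :
    app (twist g α) h = g * app α h * g⁻¹ := by
  rw [app_eq _ hh, app_eq _ hh, twist, MulAut.mul_apply, MulAut.conjNormal_apply]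

/-- The products of two commuting transpositions. -/
def Pairs : Set P := {p | ∃ a ∈ Dset, ∃ b ∈ Nb a, p = a * b}

theorem pair_mem {p : P} (hp : p ∈ Pairs) : p ∈ G' ∧ p * p = 1 ∧ p ≠ 1 := by
  obtain ⟨a, ha, b, hb, rfl⟩ := hp
  refine ⟨mem_der.mpr (by rw [map_mul, sgn_D ha, sgn_D hb.1]; decide), ?_, fun e => hb.2.1 ?_⟩
  · rw [mul_assoc, ← mul_assoc b, ← hb.2.2.eq, mul_assoc a b, D_mul_self hb.1, mul_one, D_mul_self ha]
  · rw [← inv_eq_of_mul_eq_one_right e, D_inv ha]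

theorem six_nb {i j : ℕ} (hi : i < 3) (hj : 3 ≤ j) (hj' : j < 6) : dF j ∈ Nb (dF i) :=
  ⟨dF_mem hj', fun e => by have := dF_inj hj' (by omega) e; omega,
    (comm_F (by omega) hj').mpr (Or.inr (by omega))⟩

theorem six_pair {i j : ℕ} (hi : i < 3) (hj : 3 ≤ j) (hj' : j < 6) : dF i * dF j ∈ Pairs :=
  ⟨_, dF_mem (by omega), _, six_nb hi hj hj', rfl⟩

theorem nb_of_zero {d : P} (hd : d ∈ Nb (σ 0)) : σ 0 * d ∈ Pairs := ⟨_, σ_mem_D 0 (by norm_num), d, hd, rfl⟩

/-- An element of sign one with the same conjugation action on the first pair. -/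
theorem exists_even {g : P} : ∃ g' ∈ G', g' * dF 0 * g'⁻¹ = g * dF 0 * g⁻¹ ∧
    g' * dF 3 * g'⁻¹ = g * dF 3 * g⁻¹ := by
  rcases Int.units_eq_one_or (sgn g) with h | h
  · exact ⟨g, mem_der.mpr h, rfl, rfl⟩
  · refine ⟨g * dF 0, mem_der.mpr (by rw [map_mul, h, sgn_D (dF_mem (by norm_num))]; decide), ?_, ?_⟩
    · rw [show g * dF 0 * dF 0 * (g * dF 0)⁻¹ = g * (dF 0 * dF 0 * (dF 0)⁻¹) * g⁻¹ by group, mul_inv_cancel_right]
    · rw [show g * dF 0 * dF 3 * (g * dF 0)⁻¹ = g * (dF 0 * dF 3 * (dF 0)⁻¹) * g⁻¹ by group,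
        conj_F (by norm_num) (by norm_num)]
      rfl

/-- The pairs form a single class of the derived group. -/
theorem pair_conj {a b : P} (ha : a ∈ Dset) (hb : b ∈ Nb a) :
    ∃ g ∈ G', g * dF 0 * g⁻¹ = a ∧ g * dF 3 * g⁻¹ = b := by
  obtain ⟨u, hu⟩ := isConj_iff.mp ha
  have hb' : u⁻¹ * b * u ∈ Nb (σ 0) := by
    have h1 := D_conj u⁻¹ hb.1
    have h2 := (Commute.conj_iff u⁻¹).mpr hb.2.2
    rw [inv_inv] at h1 h2
    rw [← hu, show u⁻¹ * (u * σ 0 * u⁻¹) * u = σ 0 by group] at h2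
    exact ⟨h1, fun e => hb.2.1 (by rw [← hu, ← e]; group), h2⟩
  obtain ⟨h, hh, e⟩ := near_form hb'
  have h3 : dF 3 ∈ Nb (σ 0) := dF_zero ▸ six_nb (i := 0) (by norm_num) le_rfl (by norm_num)
  obtain ⟨k, hk, e'⟩ := near_form h3
  obtain ⟨g, hg, g0, g3⟩ := exists_even (g := u * (h * k⁻¹))
  refine ⟨g, hg, ?_, ?_⟩
  · rw [g0, dF_zero, show u * (h * k⁻¹) * σ 0 * (u * (h * k⁻¹))⁻¹ =
      u * (h * k⁻¹ * σ 0 * (h * k⁻¹)⁻¹) * u⁻¹ by group, sub_comm (mul_mem hh (inv_mem hk)), hu]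
  · rw [g3, e']
    calc u * (h * k⁻¹) * (k * σ 2 * k⁻¹) * (u * (h * k⁻¹))⁻¹ = u * (h * σ 2 * h⁻¹) * u⁻¹ := by group
      _ = b := by rw [← e]; group

theorem y_der : ye ∈ G' := mem_der.mpr sgn_y

/-- Up to conjugation the pairs of the six go to pairs of the six. -/
theorem exists_normal (α : MulAut G') : ∃ g ∈ G', ∀ i j, i < 3 → 3 ≤ j → j < 6 →
    ∃ k l, k < 3 ∧ 3 ≤ l ∧ l < 6 ∧ app (twist g α) (dF i * dF j) = dF k * dF l := by
  haveI : Fact (Nat.Prime 13) := ⟨by norm_num⟩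
  set Y : G' := ⟨ye, y_der⟩
  have hY : orderOf Y = 13 := by rw [← Subgroup.orderOf_coe]; exact y_order
  have hnd : ¬ 13 * 13 ∣ Nat.card G' := by rw [card_prime]; decide +kernel
  have mk : ∀ y : G', orderOf y = 13 → ∃ S : Sylow 13 G', (S : Subgroup G') = Subgroup.zpowers y := by
    intro y hy
    have hp : IsPGroup 13 (Subgroup.zpowers y) := IsPGroup.of_card (n := 1) (by rw [Nat.card_zpowers, hy, pow_one])
    have hi : ¬ 13 ∣ (Subgroup.zpowers y).index := fun hd => hnd (by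
      rw [← (Subgroup.zpowers y).card_mul_index, Nat.card_zpowers, hy]
      exact mul_dvd_mul_left _ hd)
    exact ⟨hp.toSylow hi, rfl⟩
  obtain ⟨S, hS⟩ := mk Y hY
  obtain ⟨S', hS'⟩ := mk (α Y) (by rw [MulEquiv.orderOf_eq, hY])
  obtain ⟨u, hu⟩ := MulAction.exists_smul_eq G' S S'
  have hmem : u * Y * u⁻¹ ∈ Subgroup.zpowers (α Y) := by
    rw [← hS', ← hu, Sylow.coe_subgroup_smul]
    exact ⟨Y, by rw [hS]; exact Subgroup.mem_zpowers Y, rfl⟩
  refine ⟨((u⁻¹ : G') : P), (u⁻¹).2, fun i j hi hj hj' => ?_⟩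
  obtain ⟨hp, hpp, hp1⟩ := pair_mem (six_pair hi hj hj')
  have hyp : Commute (α ⟨dF i * dF j, hp⟩) (u * Y * u⁻¹) := by
    obtain ⟨m, hm⟩ := Subgroup.mem_zpowers_iff.mp hmem
    rw [← hm]
    refine Commute.zpow_right ?_ m
    refine Commute.map (show Commute (⟨dF i * dF j, hp⟩ : G') Y from Subtype.ext ?_) α.toMonoidHom
    exact ((y_comm (by omega)).symm.mul_left (y_comm hj').symm).eq
  obtain ⟨k, l, hk, hl, hl', e⟩ := invol_pair (x := app (twist ((u⁻¹ : G') : P) α) (dF i * dF j)) (by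
      have := (Commute.conj_iff u⁻¹).mpr hyp
      rw [show u⁻¹ * (u * Y * u⁻¹) * u⁻¹⁻¹ = Y by group] at this
      have h2 := congrArg Subtype.val this.eq
      rw [app_twist _ _ hp, app_eq _ hp]
      exact h2)
    (by rw [← app_mul _ hp hp, hpp, app_one])
    (fun e => hp1 (app_inj _ hp (one_mem _) (e.trans (app_one _).symm)))
    (mem_der.mp (app_mem _ _))
  exact ⟨k, l, hk, hl, hl', e⟩

/-- Automorphisms preserve the set of pairs. -/
theorem pairs_map (α : MulAut G') {p : P} (hp : p ∈ Pairs) : app α p ∈ Pairs := by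
  obtain ⟨a, ha, b, hb, rfl⟩ := hp
  obtain ⟨v, hv, va, vb⟩ := pair_conj ha hb
  obtain ⟨g, hg, hn⟩ := exists_normal α
  obtain ⟨k, l, hk, hl, hl', e⟩ := hn 0 3 (by norm_num) le_rfl (by norm_num)
  have hp0 := (pair_mem (six_pair (i := 0) (j := 3) (by norm_num) le_rfl (by norm_num))).1
  rw [app_twist _ _ hp0] at e
  rw [← va, ← vb, ← conj_mul_conj, app_conj α hv hp0]
  set w := app α v * g⁻¹
  refine ⟨w * dF k * w⁻¹, D_conj w (dF_mem (by omega)), w * dF l * w⁻¹, ⟨D_conj w (dF_mem hl'), fun e' => ?_, ?_⟩, ?_⟩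
  · exact (six_nb hk hl hl').2.1 (mul_left_cancel (mul_right_cancel e'))
  · exact (Commute.conj_iff w).mpr (six_nb hk hl hl').2.2
  · rw [← conj_mul_conj, ← e]
    simp only [w]
    group

/-! ### Two pairs with a common member keep one -/

theorem cc_facts : (∀ x ∈ ccWord, x < 12) ∧ runT table 12 ccWord.reverse 0 = 44 ∧ fG 0 44 = 44 ∧
    fW (wF 3) 44 = 44 ∧ fW (wF 4) 44 = 44 := by decide +kernel

theorem hu_facts : (∀ x ∈ huWord, x < 12) ∧ (∀ x ∈ huWord, [0, x, 0, x] ∈ presFi24.rels ∧ [1, x, 1, x] ∈ presFi24.rels) ∧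
    runT table 12 huWord.reverse (pF 3) = genPts24.getD 3 0 ∧ runT table 12 huWord.reverse (pF 4) = 192397 := by
  decide +kernel

theorem e_facts : (∀ x ∈ eWord, x < 12) ∧ runT table 12 eWord.reverse (genPts24.getD 2 0) = 192397 ∧
    fG 0 192397 = 192397 ∧ fG 1 192397 = 192397 := by decide +kernel

theorem word_conj {d : P} {q : ℕ} (h : At d q) {w : List ℕ} (hw : ∀ x ∈ w, x < 12) :
    At (W w * d * (W w)⁻¹) (runT table 12 w.reverse q) := by
  have := h.conj (W w)
  rwa [cert.hom_word_run' hltRels hidFi24 w hw ⟨q, h.1⟩] at this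

/-- The transposition in the short form of the element of order three. -/
noncomputable def eU : P := W eWord * σ 2 * (W eWord)⁻¹

theorem at_eU : At eU 192397 := by
  have h := word_conj (at_gen (y := 2) (by norm_num)) e_facts.1
  rwa [e_facts.2.1] at h

/-- The element of order three has no fixed transposition. -/
theorem u_fix {d : P} (hd : d ∈ Dset) : ¬ Commute (dF 0 * dF 1 * (dF 3 * dF 4)) d := by
  intro hc
  obtain ⟨hw, hcm, h3, h4⟩ := hu_facts
  set h := W huWord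
  have h0 : Commute h (σ 0) := (prod_commute huWord fun x hx => comm (hcm x hx).1).symm
  have h1 : Commute h (σ 1) := (prod_commute huWord fun x hx => comm (hcm x hx).2).symm
  have e3 : h * dF 3 * h⁻¹ = σ 3 := (h3 ▸ word_conj (at_F (i := 3) (by norm_num)) hw).eq (at_gen (by norm_num))
  have e4 : h * dF 4 * h⁻¹ = eU := (h4 ▸ word_conj (at_F (i := 4) (by norm_num)) hw).eq at_eU
  have hu : h * (dF 0 * dF 1 * (dF 3 * dF 4)) * h⁻¹ = σ 0 * σ 1 * (σ 3 * eU) := by
    rw [conj_mul_conj, conj_mul_conj, conj_mul_conj, e3, e4, dF_zero, dF_one, h0.eq, mul_inv_cancel_right, h1.eq,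
      mul_inv_cancel_right]
  have hc' : Commute (σ 0 * σ 1 * (σ 3 * eU)) (h * d * h⁻¹) := hu ▸ (Commute.conj_iff h).mpr hc
  have hru : cert.Realises hltRels (σ 0 * σ 1 * (σ 3 * eU)) fU := fun q => by
    rw [show σ 0 * σ 1 * (σ 3 * eU) = σ 0 * (σ 1 * (σ 3 * eU)) by group, map_mul, Equiv.Perm.mul_apply,
      real_G (by norm_num), map_mul, Equiv.Perm.mul_apply, real_G (by norm_num), map_mul, Equiv.Perm.mul_apply,
      real_G (by norm_num), eU, cert.realises_conj hltRels hidFi24 (real_G (x := 2) (by norm_num)) eWord e_facts.1]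
    simp only [fU, force_eq]
    rfl
  set s := σ 0 * σ 1 with hsdef
  set u := σ 0 * σ 1 * (σ 3 * eU)
  have hsu : Commute s u := by
    refine (Commute.refl s).mul_right (Commute.mul_right ?_ ?_)
    · exact (comm (x := 0) (y := 3) (by decide +kernel)).mul_left (comm (x := 1) (y := 3) (by decide +kernel))
    · exact ((At.comm (real_G (by norm_num)) at_eU).mp e_facts.2.2.1).mul_left
        ((At.comm (real_G (by norm_num)) at_eU).mp e_facts.2.2.2)
  have hs3 : s ^ 3 = 1 := by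
    have h6 := rel_W (w := [0, 1, 0, 1, 0, 1]) (by decide +kernel)
    simp only [W, List.map_cons, List.map_nil, List.prod_cons, List.prod_nil, mul_one] at h6
    rw [← h6, hsdef, pow_succ, pow_two]
    group
  have step : ∀ {e : P} {q : ℕ}, At e q → Commute u e → At (s * e * s⁻¹) (fG 0 (fG 1 q)) ∧ Commute u (s * e * s⁻¹) := by
    intro e q he hue
    have := he.conj s
    simp only [π, hsdef, map_mul, Equiv.Perm.mul_apply] at this
    rw [real_G (by norm_num), real_G (by norm_num), ← hsdef] at this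
    exact ⟨this, (hsu.symm.mul_right hue).mul_right hsu.symm.inv_right⟩
  obtain ⟨q, hq⟩ := exists_at (D_conj h hd)
  obtain ⟨hb, cb⟩ := step hq hc'
  obtain ⟨hc3, cc⟩ := step hb cb
  set a := fG 0 (fG 1 q)
  set b := fG 0 (fG 1 a)
  have hback : fG 0 (fG 1 b) = q := by
    have h4 := (step hc3 cc).1
    rw [show s * (s * (s * (h * d * h⁻¹) * s⁻¹) * s⁻¹) * s⁻¹ = s ^ 3 * (h * d * h⁻¹) * (s ^ 3)⁻¹ by
      rw [pow_succ, pow_two]; group, hs3, one_mul, inv_one, mul_one] at h4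
    exact h4.inj hq
  have low : ∀ {x : ℕ}, x ≤ fG 0 (fG 1 x) → x ≤ fG 0 (fG 1 (fG 0 (fG 1 x))) → lowest x = true := by
    intro x h1 h2
    simp only [lowest, force_eq]
    rw [show Nat.ble x (fG (nat_lit 0) (fG (nat_lit 1) x)) = true from Nat.ble_eq.mpr h1]
    exact Nat.ble_eq.mpr h2
  have fix : ∀ {e : P} {x : ℕ}, At e x → Commute u e → fU x = x := fun he hue => (At.comm hru he).mpr hue
  by_cases h1 : q ≤ a ∧ q ≤ b
  · exact (pt_ok q hq.lt).2.1 (low h1.1 h1.2) (fix hq hc')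
  by_cases h2 : a ≤ b
  · exact (pt_ok a hb.lt).2.1 (low h2 (by show a ≤ fG 0 (fG 1 b); rw [hback]; omega)) (fix hb cb)
  · exact (pt_ok b hc3.lt).2.1 (low (by show b ≤ fG 0 (fG 1 b); rw [hback]; omega)
      (by show b ≤ fG 0 (fG 1 (fG 0 (fG 1 b))); rw [hback]; show b ≤ a; omega)) (fix hc3 cc)

theorem u_fix_any {k l : ℕ} (hk : 1 ≤ k) (hk' : k < 3) (hl : 4 ≤ l) (hl' : l < 6) {d : P} (hd : d ∈ Dset) :
    ¬ Commute (dF 0 * dF 3 * (dF k * dF l)) d := by
  intro hc
  obtain ⟨g, g0, g3, gk, gl⟩ : ∃ g : P, g * dF 0 * g⁻¹ = dF 0 ∧ g * dF 3 * g⁻¹ = dF 3 ∧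
      g * dF k * g⁻¹ = dF 1 ∧ g * dF l * g⁻¹ = dF 4 := by
    obtain ⟨A, A0, A3, Ak, Al⟩ : ∃ A : P, A * dF 0 * A⁻¹ = dF 0 ∧ A * dF 3 * A⁻¹ = dF 3 ∧
        A * dF k * A⁻¹ = dF 1 ∧ A * dF l * A⁻¹ = dF l := by
      obtain rfl | rfl : k = 1 ∨ k = 2 := by omega
      · exact ⟨1, by simp, by simp, by simp, by simp⟩
      · refine ⟨dF 0, ?_, ?_, ?_, ?_⟩
        all_goals rw [conj_F (by norm_num) (by omega)]
        · rfl
        · rfl
        · rfl
        · rw [cj, if_neg (by omega)]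
    obtain ⟨B, B0, B3, B1, Bl⟩ : ∃ B : P, B * dF 0 * B⁻¹ = dF 0 ∧ B * dF 3 * B⁻¹ = dF 3 ∧
        B * dF 1 * B⁻¹ = dF 1 ∧ B * dF l * B⁻¹ = dF 4 := by
      obtain rfl | rfl : l = 4 ∨ l = 5 := by omega
      · exact ⟨1, by simp, by simp, by simp, by simp⟩
      · refine ⟨dF 3, ?_, ?_, ?_, ?_⟩
        all_goals rw [conj_F (by norm_num) (by norm_num)]
        all_goals rfl
    refine ⟨B * A, ?_, ?_, ?_, ?_⟩
    all_goals rw [mul_inv_rev, ← mul_assoc]
    · rw [show B * A * dF 0 * A⁻¹ = B * (A * dF 0 * A⁻¹) by group, A0, B0]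
    · rw [show B * A * dF 3 * A⁻¹ = B * (A * dF 3 * A⁻¹) by group, A3, B3]
    · rw [show B * A * dF k * A⁻¹ = B * (A * dF k * A⁻¹) by group, Ak, B1]
    · rw [show B * A * dF l * A⁻¹ = B * (A * dF l * A⁻¹) by group, Al, Bl]
  refine u_fix (D_conj g hd) ?_
  have e : g * (dF 0 * dF 3 * (dF k * dF l)) * g⁻¹ = dF 0 * dF 1 * (dF 3 * dF 4) := by
    rw [conj_mul_conj, conj_mul_conj, conj_mul_conj, g0, g3, gk, gl, mul_assoc, ← mul_assoc (dF 3),
      ((comm_F (i := 3) (j := 1) (by norm_num) (by norm_num)).mpr (Or.inr (by simp))).eq]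
    group
  exact e ▸ (Commute.conj_iff g).mpr hc

/-- The images of two pairs with a common member have a common member. -/
theorem exists_star (α : MulAut G') : ∃ g ∈ G', ∃ c, ∃ e ∈ Nb c, ∃ f ∈ Nb c, c ∈ Dset ∧
    app (twist g α) (dF 0 * dF 3) = c * e ∧ app (twist g α) (dF 0 * dF 4) = c * f := by
  obtain ⟨g, hg, hn⟩ := exists_normal α
  obtain ⟨i, j, hi, hj, hj', e1⟩ := hn 0 3 (by norm_num) le_rfl (by norm_num)
  obtain ⟨A, hA, hAi, hAj⟩ := exists_move hi hj hj'
  obtain ⟨i', j', hi', hj'', hj6, e2⟩ := hn 0 4 (by norm_num) (by norm_num) (by norm_num)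
  have hp := (pair_mem (six_pair (i := 0) (j := 3) (by norm_num) le_rfl (by norm_num))).1
  have hq := (pair_mem (six_pair (i := 0) (j := 4) (by norm_num) (by norm_num) (by norm_num))).1
  obtain ⟨m, hm, hm'⟩ := six_perm hA (i := i') (by omega)
  obtain ⟨n, hn', hn''⟩ := six_perm hA (i := j') hj6
  set β := twist (A : P) (twist g α) with hβ
  by_cases hd : i' = i ∨ j' = j
  · rcases hd with rfl | rfl
    · exact ⟨g, hg, dF i', dF j, six_nb hi' hj hj', dF j', six_nb hi' hj'' hj6, dF_mem (by omega), e1, e2⟩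
    · refine ⟨g, hg, dF j', dF i, ⟨dF_mem (by omega), (six_nb hi hj hj').2.1.symm, (six_nb hi hj hj').2.2.symm⟩,
        dF i', ⟨dF_mem (by omega), (six_nb hi' hj hj6).2.1.symm, (six_nb hi' hj hj6).2.2.symm⟩, dF_mem hj6, ?_, ?_⟩
      · rw [e1, (six_nb hi hj hj').2.2.eq]
      · rw [e2, (six_nb hi' hj hj6).2.2.eq]
  exfalso
  push Not at hd
  have hb1 : app β (dF 0 * dF 3) = dF 0 * dF 3 := by
    rw [hβ, app_twist _ _ hp, e1, conj_mul_conj, hAi, hAj]
  have hb2 : app β (dF 0 * dF 4) = dF m * dF n := by rw [hβ, app_twist _ _ hq, e2, conj_mul_conj, hm', hn'']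
  have hm0 : m ≠ 0 := fun h => hd.1 (dF_inj (by omega) (by omega) (mul_left_cancel (mul_right_cancel
    (hm'.trans (by rw [h, hAi])))))
  have hn3 : n ≠ 3 := fun h => hd.2 (dF_inj hj6 hj' (mul_left_cancel (mul_right_cancel
    (hn''.trans (by rw [h, hAj])))))
  have hm3 : m < 3 := by
    have hc := (Commute.conj_iff A).mpr (six_nb hi' hj hj').2.2
    rw [hm', hAj, comm_F hm (by norm_num)] at hc
    rcases hc with h | h
    · exact absurd (dF_inj (by omega) hj' (mul_left_cancel (mul_right_cancel (hm'.trans (h ▸ hAj.symm))))) (by omega)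
    · omega
  have hn4 : 4 ≤ n := by
    have hc := (Commute.conj_iff A).mpr (six_nb hi hj'' hj6).2.2
    rw [hAi, hn'', comm_F (by norm_num) hn'] at hc
    rcases hc with h | h
    · exact absurd (dF_inj hj6 (by omega) (mul_left_cancel (mul_right_cancel (hn''.trans (h.symm ▸ hAi.symm))))) (by omega)
    · omega
  obtain ⟨hcw, hcp, hc0, hc3, hc4⟩ := cc_facts
  set cc := dW ccWord
  have hat : At cc 44 := at_W hcw (by norm_num) hcp
  have h00 : Commute (σ 0) cc := (At.comm (real_G (by norm_num)) hat).mp hc0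
  have h30 : Commute (dF 3) cc := (At.comm (real_F (by norm_num)) hat).mp hc3
  have h40 : Commute (dF 4) cc := (At.comm (real_F (by norm_num)) hat).mp hc4
  have hπp : σ 0 * cc ∈ Pairs := nb_of_zero ⟨hat.mem, fun e => absurd (hat.inj (e ▸ at_zero)) (by norm_num), h00⟩
  obtain ⟨c, hc, d, hdn, hcd⟩ := pairs_map β hπp
  have hcom : ∀ i, 3 ≤ i → i < 6 → Commute (dF i) cc → Commute (σ 0 * cc) (dF 0 * dF i) := fun i hi hi' h => by
    have h0i := (six_nb (i := 0) (by norm_num) hi hi').2.2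
    rw [dF_zero] at h0i ⊢
    exact (((Commute.refl (σ 0)).mul_right h0i).mul_left ((h00.symm).mul_right h.symm))
  have hP := (pair_mem hπp).1
  set u := dF 0 * dF 3 * (dF m * dF n) with hu
  have hpq : dF 0 * dF 3 * (dF 0 * dF 4) = dF 3 * dF 4 := by
    rw [(six_nb (i := 0) (j := 3) (by norm_num) le_rfl (by norm_num)).2.2.eq, mul_assoc, ← mul_assoc (dF 0),
      D_mul_self (dF_mem (by norm_num)), one_mul]
  have hu' : app β (dF 3 * dF 4) = u := by rw [← hpq, app_mul β hp hq, hb1, hb2]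
  have hqd : dF 3 * dF 4 ∈ G' := hpq ▸ mul_mem hp hq
  have h3 : u ^ 3 = 1 := by
    rw [← hu', ← app_pow β hqd, CfsgThreeTrans.pow_three threeTransposition.1 (dF_mem (by norm_num))
      (dF_mem (by norm_num)) (by rw [comm_F (by norm_num) (by norm_num)]; simp), app_one]
  have hcu : Commute u (c * d) := by
    rw [← hcd, ← hu']
    refine app_comm β hqd hP ?_
    rw [← hpq]
    exact (hcom 3 le_rfl (by norm_num) h30).symm.mul_left (hcom 4 (by norm_num) (by norm_num) h40).symm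
  exact u_fix_any (Nat.pos_of_ne_zero hm0) hm3 hn4 hn' hc (pair_fix hc hdn hcu h3)

end CfsgLib.CosetEnum.Fi24Table.Out
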