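/-
Automorphisms of the derived group of Fi24 preserve the class of point stabilisers.
-/
import Cfsg.Agent.Lib.CosetEnum.Fi24Table.Out.Star

set_option autoImplicit false
set_option maxRecDepth 1000000

open Cfsg

namespace CfsgLib.CosetEnum.Fi24Table.Out

open CfsgLib.CosetEnum

local notation "P" => presFi24.Grp
local notation "σ" => presFi24.σ
local notation "G'" => commutator presFi24.Grp

/-- The letters whose generators commute with the second member of the first pair. -/
def embL : List ℕ := [2, 3, 4, 5, 6, 7, 8, 10, 11]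

theorem embL_fix : ∀ x ∈ embL, x < 12 ∧ fG 0 (genPts24.getD x 0) = genPts24.getD x 0 ∧
    fW (wF 3) (genPts24.getD x 0) = genPts24.getD x 0 := by decide +kernel

theorem embL_comm {x : ℕ} (hx : x ∈ embL) : Commute (σ 0) (σ x) ∧ Commute (dF 3) (σ x) :=
  ⟨(At.comm (real_G (by norm_num)) (at_gen (embL_fix x hx).1)).mp (embL_fix x hx).2.1,
    (At.comm (real_F (by norm_num)) (at_gen (embL_fix x hx).1)).mp (embL_fix x hx).2.2⟩

theorem bp_facts : (∀ x ∈ bpWord, x < 12) ∧ (∀ x ∈ hbWord, x ∈ embL) ∧ Even hbWord.length ∧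
    runT table 12 hbWord.reverse (pF 4) = 29202 ∧ runT table 12 bpWord.reverse 0 = 29202 ∧
    fW bpWord (genPts24.getD 8 0) = genPts24.getD 8 0 ∧ fW bpWord (genPts24.getD 9 0) = genPts24.getD 9 0 ∧
    fG 0 (genPts24.getD 9 0) = genPts24.getD 9 0 := by decide +kernel

theorem cube_edge {x y : ℕ} (h : [x, y, x, y, x, y] ∈ presFi24.rels) : (σ x * σ y) ^ 3 = 1 := by
  have h1 := rel_W h
  simp only [W, List.map_cons, List.map_nil, List.prod_cons, List.prod_nil, mul_one] at h1
  rw [← h1, pow_succ, pow_two]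
  group

theorem sgn_two {x y : ℕ} (hx : x < 12) (hy : y < 12) : σ x * σ y ∈ G' :=
  mem_der.mpr (by rw [map_mul, sgn_σ hx, sgn_σ hy]; decide)

theorem chain_edges : ∀ e ∈ [(2, 3), (3, 4), (4, 5), (5, 6), (6, 7), (7, 8), (8, 9), (5, 10), (10, 11)],
    [e.1, e.2, e.1, e.2, e.1, e.2] ∈ presFi24.rels := by decide +kernel

/-- An even word in letters whose pairs lie in a subgroup lies in it. -/
theorem even_mem (S : Subgroup P) (L : List ℕ) (hS : ∀ x ∈ L, ∀ y ∈ L, σ x * σ y ∈ S) :
    ∀ w : List ℕ, (∀ x ∈ w, x ∈ L) → Even w.length → W w ∈ S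
  | [], _, _ => one_mem _
  | [_], _, h => absurd h (by simp)
  | x :: y :: w, hw, h => by
    have := even_mem S L hS w (fun z hz => hw z (by simp [hz]))
      (by simpa [Nat.even_add_one, parity_simps] using h)
    rw [show W (x :: y :: w) = σ x * σ y * W w by simp [W, mul_assoc]]
    exact mul_mem (hS x (hw x (by simp)) y (hw y (by simp))) this

/-- The elements whose image centralises `c`. -/
noncomputable def fixS (β : MulAut G') (c : P) : Subgroup P where
  carrier := {g | g ∈ G' ∧ Commute (app β g) c}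
  one_mem' := ⟨one_mem _, by rw [app_one]; exact Commute.one_left _⟩
  mul_mem' := fun {a b} ha hb => ⟨mul_mem ha.1 hb.1, by rw [app_mul β ha.1 hb.1]; exact ha.2.mul_left hb.2⟩
  inv_mem' := fun {a} ha => ⟨inv_mem ha.1, by rw [app_inv β ha.1]; exact ha.2.inv_left⟩

section
variable (β : MulAut G') {c e f : P} (hc : c ∈ Dset) (he : e ∈ Nb c) (hf : f ∈ Nb c)
  (h1 : app β (dF 0 * dF 3) = c * e) (h2 : app β (dF 0 * dF 4) = c * f)
include hc he hf h1 h2

theorem step_near {x y : ℕ} (hx : x ∈ embL) (hy : y ∈ embL) (hr : [x, y, x, y, x, y] ∈ presFi24.rels) :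
    σ x * σ y ∈ fixS β c := by
  have hg := sgn_two (embL_fix x hx).1 (embL_fix y hy).1
  refine ⟨hg, pair_fix hc he ?_ (by rw [← app_pow β hg, cube_edge hr, app_one])⟩
  rw [← h1]
  refine app_comm β hg (pair_mem (six_pair (by norm_num) le_rfl (by norm_num))).1 ?_
  rw [dF_zero]
  exact ((embL_comm hx).1.symm.mul_right (embL_comm hx).2.symm).mul_left
    ((embL_comm hy).1.symm.mul_right (embL_comm hy).2.symm)

theorem emb_all {x y : ℕ} (hx : x ∈ embL) (hy : y ∈ embL) : σ x * σ y ∈ fixS β c := by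
  have st := fun a b ha hb h => step_near β hc he hf h1 h2 (x := a) (y := b) ha hb (chain_edges (a, b) h)
  have tr : ∀ a b d : ℕ, σ a * σ b ∈ fixS β c → σ b * σ d ∈ fixS β c → σ a * σ d ∈ fixS β c := fun a b d p q => by
    have := mul_mem p q
    rwa [show σ a * σ b * (σ b * σ d) = σ a * (σ b * σ b) * σ d by group, presFi24.σ_sq, mul_one] at this
  have q2 : σ 2 * σ 2 ∈ fixS β c := by rw [presFi24.σ_sq]; exact one_mem _
  have q3 := st 2 3 (by decide) (by decide) (by decide)
  have q4 := tr 2 3 4 q3 (st 3 4 (by decide) (by decide) (by decide))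
  have q5 := tr 2 4 5 q4 (st 4 5 (by decide) (by decide) (by decide))
  have q6 := tr 2 5 6 q5 (st 5 6 (by decide) (by decide) (by decide))
  have q7 := tr 2 6 7 q6 (st 6 7 (by decide) (by decide) (by decide))
  have q8 := tr 2 7 8 q7 (st 7 8 (by decide) (by decide) (by decide))
  have q10 := tr 2 5 10 q5 (st 5 10 (by decide) (by decide) (by decide))
  have q11 := tr 2 10 11 q10 (st 10 11 (by decide) (by decide) (by decide))
  have h : ∀ z ∈ embL, σ 2 * σ z ∈ fixS β c := by
    intro z hz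
    simp only [embL, List.mem_cons, List.not_mem_nil, or_false] at hz
    rcases hz with rfl | rfl | rfl | rfl | rfl | rfl | rfl | rfl | rfl <;> assumption
  have := mul_mem (inv_mem (h x hx)) (h y hy)
  rwa [show (σ 2 * σ x)⁻¹ * (σ 2 * σ y) = (σ x)⁻¹ * σ y by group, inv_σ] at this

theorem step_far : σ 8 * σ 9 ∈ fixS β c := by
  obtain ⟨hbw, hhw, hev, hrun, hbp, hb8, hb9, h09⟩ := bp_facts
  set h := W hbWord
  have hlt : ∀ x ∈ hbWord, x < 12 := fun x hx => (embL_fix x (hhw x hx)).1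
  have hh : h ∈ fixS β c := even_mem _ embL (fun x hx y hy => emb_all β hc he hf h1 h2 hx hy) hbWord hhw hev
  have hat : At (dW bpWord) 29202 := at_W hbw (by norm_num) hbp
  have hb : h * dF 4 * h⁻¹ = dW bpWord := (hrun ▸ word_conj (at_F (i := 4) (by norm_num)) hlt).eq hat
  have h0 : h * dF 0 * h⁻¹ = dF 0 := by
    rw [dF_zero, (prod_commute hbWord fun x hx => (embL_comm (hhw x hx)).1).eq.symm, mul_inv_cancel_right]
  have hq := (pair_mem (six_pair (i := 0) (j := 4) (by norm_num) (by norm_num) (by norm_num))).1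
  have himg : app β (dF 0 * dW bpWord) = c * (app β h * f * (app β h)⁻¹) := by
    rw [← hb, ← h0, ← conj_mul_conj, app_conj β hh.1 hq, h2, conj_mul_conj, hh.2.eq, mul_inv_cancel_right]
  have hg := sgn_two (x := 8) (y := 9) (by norm_num) (by norm_num)
  have hnb : app β h * f * (app β h)⁻¹ ∈ Nb c := by
    refine ⟨D_conj _ hf.1, fun e' => hf.2.1 ?_, ?_⟩
    · refine mul_left_cancel (a := app β h) (mul_right_cancel (b := (app β h)⁻¹) ?_)
      rw [e', hh.2.eq, mul_inv_cancel_right]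
    · have := (Commute.conj_iff (app β h)).mpr hf.2.2
      rwa [hh.2.eq, mul_inv_cancel_right] at this
  refine ⟨hg, pair_fix hc hnb ?_ (by rw [← app_pow β hg, cube_edge (chain_edges (8, 9) (by decide)), app_one])⟩
  rw [← himg]
  refine app_comm β hg ?_ ?_
  · rw [← hb, ← h0, ← conj_mul_conj]
    exact mul_mem (mul_mem hh.1 hq) (inv_mem hh.1)
  · have b8 := (At.comm (real_W hbw) (at_gen (y := 8) (by norm_num))).mp hb8
    have b9 := (At.comm (real_W hbw) (at_gen (y := 9) (by norm_num))).mp hb9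
    have a9 := (At.comm (real_G (x := 0) (by norm_num)) (at_gen (y := 9) (by norm_num))).mp h09
    have a8 := (embL_comm (x := 8) (by decide)).1
    rw [dF_zero]
    exact (a8.symm.mul_right b8.symm).mul_left (a9.symm.mul_right b9.symm)

/-- The image of the stabiliser of the first transposition centralises the common member. -/
theorem stab_image {g : P} (hg : g ∈ G') (hgt : Commute g (σ 0)) : Commute (app β g) c := by
  have hnine : ∀ x ∈ [2, 3, 4, 5, 6, 7, 8, 9, 10, 11], σ 8 * σ x ∈ fixS β c := by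
    intro x hx
    by_cases h : x = 9
    · exact h ▸ step_far β hc he hf h1 h2
    · exact emb_all β hc he hf h1 h2 (by decide)
        ((show ∀ x ∈ [2, 3, 4, 5, 6, 7, 8, 9, 10, 11], x ≠ 9 → x ∈ embL by decide) x hx h)
  have hpairs : ∀ x ∈ [2, 3, 4, 5, 6, 7, 8, 9, 10, 11], ∀ y ∈ [2, 3, 4, 5, 6, 7, 8, 9, 10, 11],
      σ x * σ y ∈ fixS β c := fun x hx y hy => by
    have := mul_mem (inv_mem (hnine x hx)) (hnine y hy)
    rwa [show (σ 8 * σ x)⁻¹ * (σ 8 * σ y) = (σ x)⁻¹ * σ y by group, inv_σ] at this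
  have hsub : g ∈ cert.sub := mem_sub_iff.mpr ((stab g).mpr hgt.eq)
  obtain ⟨w, hw, e⟩ : ∃ w : List ℕ, (∀ x ∈ w, x ∈ [2, 3, 4, 5, 6, 7, 8, 9, 10, 11]) ∧ g = W w := by
    suffices H : ∀ k : cert.sub, ∃ w : List ℕ, (∀ x ∈ w, x ∈ [2, 3, 4, 5, 6, 7, 8, 9, 10, 11]) ∧ (k : P) = W w from
      H ⟨g, hsub⟩
    intro k
    have hk : k ∈ Subgroup.closure (gS '' {x | x ∈ [0, 2, 3, 4, 5, 6, 7, 8, 9, 10, 11]}) :=
      gS_closure ▸ Subgroup.mem_top k
    induction hk using Subgroup.closure_induction with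
    | mem k hk =>
      obtain ⟨x, hx, rfl⟩ := hk
      by_cases h0 : x = 0
      · subst h0
        exact ⟨(List.replicate 9 e7Fi24).flatten, by decide +kernel, by rw [gS_val (by decide), e7_eq_l]⟩
      · refine ⟨[x], ?_, by rw [gS_val hx]; simp [W]⟩
        intro y hy
        rw [List.mem_singleton.mp hy]
        exact (show ∀ x ∈ [0, 2, 3, 4, 5, 6, 7, 8, 9, 10, 11], x ≠ 0 → x ∈ [2, 3, 4, 5, 6, 7, 8, 9, 10, 11] by
          decide) x hx h0
    | one => exact ⟨[], by simp, rfl⟩
    | mul a b _ _ ha hb =>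
      obtain ⟨v, hv, ev⟩ := ha
      obtain ⟨w, hw, ew⟩ := hb
      exact ⟨v ++ w, fun x hx => (List.mem_append.mp hx).elim (hv x) (hw x), by
        rw [Subgroup.coe_mul, ev, ew]; simp [W]⟩
    | inv a _ ha =>
      obtain ⟨v, hv, ev⟩ := ha
      exact ⟨v.reverse, fun x hx => hv x (List.mem_reverse.mp hx), by
        rw [Subgroup.coe_inv, ev]
        exact (prod_reverse_inv presFi24.σ presFi24.σ_sq v).symm⟩
  have hev : Even w.length := by
    have hs := mem_der.mp hg
    rw [e, sgn_word w fun x hx => (show ∀ x ∈ [2, 3, 4, 5, 6, 7, 8, 9, 10, 11], x < 12 by decide) x (hw x hx)] at hs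
    by_contra hn
    rw [(Nat.not_even_iff_odd.mp hn).neg_one_pow] at hs
    exact absurd hs (by decide)
  exact (e ▸ even_mem _ _ hpairs w hw hev : g ∈ fixS β c).2

end

/-- The stabiliser of the first transposition in the derived group. -/
def Hd : Set P := {g | g ∈ G' ∧ Commute g (σ 0)}

/-- Every automorphism, followed by a conjugation, preserves the stabiliser. -/
theorem exists_stab (α : MulAut G') : ∃ g ∈ G', app (twist g α) '' Hd = Hd := by
  obtain ⟨g, hg, c, e, he, f, hf, hc, h1, h2⟩ := exists_star α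
  obtain ⟨u, hu, u0, -⟩ := pair_conj hc he
  rw [dF_zero] at u0
  refine ⟨u⁻¹ * g, mul_mem (inv_mem hu) hg, ?_⟩
  refine Set.eq_of_subset_of_ncard_le ?_ ?_ (Set.toFinite _)
  · rintro _ ⟨k, hk, rfl⟩
    refine ⟨app_mem _ _, ?_⟩
    have hc' := stab_image (twist g α) hc he hf h1 h2 hk.1 hk.2
    rw [app_twist _ _ hk.1] at hc' ⊢
    have := (Commute.conj_iff u⁻¹).mpr hc'
    rw [inv_inv, ← u0] at this
    rw [show u⁻¹ * (u * σ 0 * u⁻¹) * u = σ 0 by group] at this
    rw [show u⁻¹ * g * app α k * (u⁻¹ * g)⁻¹ = u⁻¹ * (g * app α k * g⁻¹) * u by group]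
    exact this
  · rw [Set.ncard_image_of_injOn fun a ha b hb e => app_inj _ ha.1 hb.1 e]

end CfsgLib.CosetEnum.Fi24Table.Out
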