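/-
Every automorphism of the derived group of Fi24 is conjugation by an element of Fi24.
-/
import Cfsg.Agent.Lib.CosetEnum.Fi24Table.Out.Stab

set_option autoImplicit false
set_option maxRecDepth 1000000

open Cfsg

namespace CfsgLib.CosetEnum.Fi24Table.Out

open CfsgLib.CosetEnum

local notation "P" => presFi24.Grp
local notation "σ" => presFi24.σ
local notation "G'" => commutator presFi24.Grp

/-- The stabiliser of the first transposition in the derived group, as a subgroup. -/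
noncomputable def H0 : Subgroup P := G' ⊓ cert.sub

theorem mem_H0 {g : P} : g ∈ H0 ↔ g ∈ Hd :=
  ⟨fun h => ⟨h.1, l_central h.2⟩, fun h => ⟨h.1, mem_sub_iff.mpr ((stab g).mpr h.2.eq)⟩⟩

/-- The stabiliser is Fi23. -/
noncomputable def to23 : H0 →* presFi23.Grp := proj.comp (Subgroup.inclusion inf_le_right)

theorem to23_bij : Function.Bijective to23 := by
  refine ⟨fun a b h => Subtype.ext (congrArg (fun g : cert.sub => (g : P))
    (proj_inj (g := Subgroup.inclusion inf_le_right a) (h := Subgroup.inclusion inf_le_right b) h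
      ((mem_der.mp a.2.1).trans (mem_der.mp b.2.1).symm))), fun k => ?_⟩
  obtain ⟨g, rfl⟩ := proj_surj k
  rcases Int.units_eq_one_or (sgn (g : P)) with h | h
  · exact ⟨⟨g, mem_der.mpr h, g.2⟩, rfl⟩
  · refine ⟨⟨(gS 0 : P) * g, mem_der.mpr ?_, (gS 0 * g).2⟩, ?_⟩
    · rw [map_mul, gS_val (by decide), sgn_σ0, h]; decide
    · show proj (gS 0 * g) = proj g
      rw [map_mul, proj_zero, one_mul]

theorem twist_twist (g h : P) (α : MulAut G') : twist g (twist h α) = twist (g * h) α := by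
  rw [twist, twist, twist, map_mul, mul_assoc]

/-- An automorphism preserving the stabiliser can be made the identity on it. -/
theorem fix_stab (α : MulAut G') (h : app α '' Hd = Hd) :
    ∃ k ∈ H0, ∀ g ∈ Hd, app (twist k α) g = g := by
  have hin : ∀ g : H0, app α g ∈ H0 := fun g => mem_H0.mpr (h ▸ ⟨g, mem_H0.mp g.2, rfl⟩)
  let ρ : H0 →* H0 :=
    { toFun := fun g => ⟨app α g, hin g⟩
      map_one' := Subtype.ext (app_one α)
      map_mul' := fun a b => Subtype.ext (app_mul α a.2.1 b.2.1) }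
  have hρ : Function.Bijective ρ := by
    refine ⟨fun a b e => Subtype.ext (app_inj α a.2.1 b.2.1 (congrArg Subtype.val e)), fun b => ?_⟩
    obtain ⟨a, ha, e⟩ : (b : P) ∈ app α '' Hd := h.symm ▸ mem_H0.mp b.2
    exact ⟨⟨a, mem_H0.mpr ha⟩, Subtype.ext e⟩
  let E : H0 ≃* presFi23.Grp := MulEquiv.ofBijective to23 to23_bij
  obtain ⟨k, hk⟩ := Fi23Aut.aut_inner ((E.symm.trans (MulEquiv.ofBijective ρ hρ)).trans E)
  refine ⟨((E.symm k⁻¹ : H0) : P), (E.symm k⁻¹).2, fun g hg => ?_⟩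
  have hk' := hk (E ⟨g, mem_H0.mpr hg⟩)
  simp only [MulEquiv.trans_apply, MulEquiv.symm_apply_apply] at hk'
  have e : E.symm k⁻¹ * ρ ⟨g, mem_H0.mpr hg⟩ * (E.symm k⁻¹)⁻¹ = ⟨g, mem_H0.mpr hg⟩ := by
    apply E.injective
    rw [map_mul, map_mul]
    simp only [map_inv, MulEquiv.apply_symm_apply, inv_inv]
    rw [show E (ρ ⟨g, mem_H0.mpr hg⟩) = k * E ⟨g, mem_H0.mpr hg⟩ * k⁻¹ from hk']
    group
  rw [app_twist _ _ hg.1]
  exact congrArg Subtype.val e

theorem real_two {x y : ℕ} (hx : x < 12) (hy : y < 12) :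
    cert.Realises hltRels (σ x * σ y) (fun d => fG x (fG y d)) := fun d => by
  rw [map_mul, Equiv.Perm.mul_apply, real_G hx, real_G hy]

/-- The image of a transposition. -/
noncomputable def fimg (α : MulAut G') (u : P) : P := app α u * σ 0 * (app α u)⁻¹

section
variable (α : MulAut G') (hid : ∀ g ∈ Hd, app α g = g)
include hid

theorem fimg_eq {u u' : P} (hu : u ∈ G') (hu' : u' ∈ G') (h : u * σ 0 * u⁻¹ = u' * σ 0 * u'⁻¹) :
    fimg α u = fimg α u' := by
  have hk : u⁻¹ * u' ∈ Hd := ⟨mul_mem (inv_mem hu) hu', by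
    show _ * _ = _ * _
    calc u⁻¹ * u' * σ 0 = u⁻¹ * (u' * σ 0 * u'⁻¹) * u' := by group
      _ = σ 0 * (u⁻¹ * u') := by rw [← h]; group⟩
  have e : app α u' = app α u * (u⁻¹ * u') := by
    rw [← hid _ hk, ← app_mul α hu hk.1, mul_inv_cancel_left]
  rw [fimg, fimg, e]
  calc app α u * σ 0 * (app α u)⁻¹ = app α u * (σ 0 * (u⁻¹ * u') * (u⁻¹ * u')⁻¹) * (app α u)⁻¹ := by group
    _ = _ := by rw [← hk.2.eq]; group

theorem fimg_inj {u u' : P} (hu : u ∈ G') (hu' : u' ∈ G') (h : fimg α u = fimg α u') :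
    u * σ 0 * u⁻¹ = u' * σ 0 * u'⁻¹ := by
  have hk : (app α u)⁻¹ * app α u' ∈ Hd := ⟨mul_mem (inv_mem (app_mem α u)) (app_mem α u'), by
    show _ * _ = _ * _
    calc (app α u)⁻¹ * app α u' * σ 0 = (app α u)⁻¹ * fimg α u' * app α u' := by rw [fimg]; group
      _ = σ 0 * ((app α u)⁻¹ * app α u') := by rw [← h, fimg]; group⟩
  have e : (app α u)⁻¹ * app α u' = u⁻¹ * u' := app_inj α hk.1 (mul_mem (inv_mem hu) hu') (by
    rw [hid _ hk, app_mul α (inv_mem hu) hu', app_inv α hu])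
  rw [e] at hk
  calc u * σ 0 * u⁻¹ = u * (σ 0 * (u⁻¹ * u') * (u⁻¹ * u')⁻¹) * u⁻¹ := by group
    _ = _ := by rw [← hk.2.eq]; group

theorem fimg_comm {u g : P} (hu : u ∈ G') (hg : g ∈ Hd) (hd : Commute g (u * σ 0 * u⁻¹)) :
    Commute g (fimg α u) := by
  have hk : u⁻¹ * g * u ∈ Hd := ⟨mul_mem (mul_mem (inv_mem hu) hg.1) hu, by
    have := (Commute.conj_iff u⁻¹).mpr hd
    rwa [inv_inv, show u⁻¹ * (u * σ 0 * u⁻¹) * u = σ 0 by group] at this⟩
  have e : app α u * (u⁻¹ * g * u) * (app α u)⁻¹ = g := by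
    rw [← hid _ hk, ← app_conj α hu hk.1, show u * (u⁻¹ * g * u) * u⁻¹ = g by group, hid _ hg]
  have := (Commute.conj_iff (app α u)).mpr hk.2
  rwa [e] at this

/-- The transposition is kept. -/
def Good (d : P) : Prop := ∀ u ∈ G', u * σ 0 * u⁻¹ = d → fimg α u = d

theorem good_of {u : P} (hu : u ∈ G') (h : fimg α u = u * σ 0 * u⁻¹) : Good α (u * σ 0 * u⁻¹) :=
  fun u' hu' e => by rw [fimg_eq α hid hu' hu e, h]

theorem good_conj {h d : P} (hd : Good α d) (hh : h ∈ Hd) : Good α (h * d * h⁻¹) := by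
  intro u hu e
  have h1 := hd (h⁻¹ * u) (mul_mem (inv_mem hh.1) hu) (by
    rw [show h⁻¹ * u * σ 0 * (h⁻¹ * u)⁻¹ = h⁻¹ * (u * σ 0 * u⁻¹) * h by group, e]; group)
  rw [fimg, app_mul α (inv_mem hh.1) hu, app_inv α hh.1, hid _ hh] at h1
  rw [fimg, ← h1]
  group

theorem good_zero : Good α (σ 0) := by
  have := good_of α hid (u := 1) (one_mem _) (by rw [fimg, app_one])
  rwa [one_mul, inv_one, mul_one] at this

theorem good_sub {h d : P} (hd : Good α d) (hc : Commute (σ 0) d) (hh : h ∈ cert.sub) : Good α (h * d * h⁻¹) := by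
  rcases Int.units_eq_one_or (sgn h) with hs | hs
  · exact good_conj α hid hd ⟨mem_der.mpr hs, l_central hh⟩
  · have := good_conj α hid (h := h * σ 0) hd
      ⟨mem_der.mpr (by rw [map_mul, hs, sgn_σ0]; decide), (l_central hh).mul_left (Commute.refl _)⟩
    rwa [show h * σ 0 * d * (h * σ 0)⁻¹ = h * (σ 0 * d * (σ 0)⁻¹) * h⁻¹ by group, hc.eq, mul_inv_cancel_right] at this

theorem good_near : Good α (dF 3) := by
  obtain ⟨g, hg, g0, -⟩ : ∃ g ∈ G', g * σ 0 * g⁻¹ = dF 3 ∧ True := by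
    obtain ⟨g, hg, g0, -⟩ := pair_conj (dF_mem (i := 3) (by norm_num)) (b := σ 0) (by
      have h := six_nb (i := 0) (j := 3) (by norm_num) le_rfl (by norm_num)
      rw [dF_zero] at h
      exact ⟨σ_mem_D 0 (by norm_num), h.2.1.symm, h.2.2.symm⟩)
    exact ⟨g, hg, dF_zero ▸ g0, trivial⟩
  rw [← g0]
  refine good_of α hid hg ?_
  obtain ⟨q, hq⟩ := exists_at (D_conj (app α g) (σ_mem_D 0 (by norm_num)) : fimg α g ∈ Dset)
  have hfix : ∀ x ∈ [2, 3, 4, 5, 6, 7, 8, 10, 11], fG 0 (fG x q) = q := by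
    intro x hx
    have he : x ∈ embL := hx
    have hx12 := (embL_fix x he).1
    refine (At.comm (real_two (by norm_num) hx12) hq).mpr (fimg_comm α hid hg
      ⟨sgn_two (by norm_num) hx12, (Commute.refl _).mul_left (embL_comm he).1.symm⟩ ?_)
    rw [g0]
    exact ((dF_zero ▸ (six_nb (i := 0) (j := 3) (by norm_num) le_rfl (by norm_num)).2.2).mul_left
      (embL_comm he).2.symm)
  rcases (pt_ok q hq.lt).2.2.1 hfix with rfl | rfl
  · exfalso
    have := fimg_inj α hid hg (one_mem _) ((hq.eq at_zero : fimg α g = σ 0).trans (by rw [fimg, app_one, one_mul, inv_one, mul_one]))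
    rw [g0, one_mul, inv_one, mul_one, ← dF_zero] at this
    exact absurd (dF_inj (by norm_num) (by norm_num) this) (by norm_num)
  · rw [g0]
    exact hq.eq ((show pF 3 = 88677 by decide +kernel) ▸ at_F (by norm_num))

theorem far_cases {u : P} (hu : u ∈ G') (hne : u * σ 0 * u⁻¹ ≠ σ 0)
    (hc : ∀ x ∈ [3, 4, 5, 6, 7, 8, 9, 10, 11], Commute (σ x) (u * σ 0 * u⁻¹)) :
    fimg α u = σ 1 ∨ fimg α u = dF 2 := by
  obtain ⟨q, hq⟩ := exists_at (D_conj (app α u) (σ_mem_D 0 (by norm_num)) : fimg α u ∈ Dset)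
  have hfix : ∀ x ∈ [4, 5, 6, 7, 8, 9, 10, 11], fG 3 (fG x q) = q := by
    intro x hx
    have hr : ∀ x ∈ [3, 4, 5, 6, 7, 8, 9, 10, 11], x < 12 ∧ [0, x, 0, x] ∈ presFi24.rels := by decide +kernel
    have hx' : x ∈ [3, 4, 5, 6, 7, 8, 9, 10, 11] := List.mem_cons_of_mem _ hx
    refine (At.comm (real_two (by norm_num) (hr x hx').1) hq).mpr (fimg_comm α hid hu
      ⟨sgn_two (by norm_num) (hr x hx').1,
        (comm (hr 3 (by decide)).2).symm.mul_left (comm (hr x hx').2).symm⟩ ?_)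
    exact (hc 3 (by decide)).mul_left (hc x hx')
  rcases (pt_ok q hq.lt).2.2.2.1 hfix with rfl | rfl | rfl
  · exfalso
    refine hne ?_
    have := fimg_inj α hid hu (one_mem _) ((hq.eq at_zero : fimg α u = σ 0).trans (by rw [fimg, app_one, one_mul, inv_one, mul_one]))
    rwa [one_mul, inv_one, mul_one] at this
  · exact Or.inr (hq.eq ((show pF 2 = 1 by decide +kernel) ▸ at_F (by norm_num)))
  · exact Or.inl (hq.eq ((show genPts24.getD 1 0 = 3 by decide +kernel) ▸ at_gen (by norm_num)))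

end

theorem u_facts : σ 0 * σ 1 * σ 0 * (σ 0 * σ 1)⁻¹ = σ 1 ∧ σ 1 * σ 0 * σ 0 * (σ 1 * σ 0)⁻¹ = dF 2 :=
  ⟨conj_step braid01, by
    rw [dF_two, braid01, mul_inv_rev, inv_σ, inv_σ, mul_assoc (σ 1) (σ 0) (σ 0), presFi24.σ_sq, mul_one, mul_assoc]⟩

theorem far_comm : ∀ x ∈ [3, 4, 5, 6, 7, 8, 9, 10, 11], Commute (σ x) (σ 1) ∧ Commute (σ x) (dF 2) := by
  intro x hx
  have hr : ∀ x ∈ [3, 4, 5, 6, 7, 8, 9, 10, 11], [0, x, 0, x] ∈ presFi24.rels ∧ [1, x, 1, x] ∈ presFi24.rels := by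
    decide +kernel
  have h0 := (comm (hr x hx).1).symm
  have h1 := (comm (hr x hx).2).symm
  exact ⟨h1, dF_two ▸ (h0.mul_right h1).mul_right h0⟩

theorem far_ne : σ 1 ≠ σ 0 ∧ dF 2 ≠ σ 0 ∧ σ 1 ≠ dF 2 := by
  rw [← dF_zero, ← dF_one]
  exact ⟨fun e => absurd (dF_inj (by norm_num) (by norm_num) e) (by norm_num),
    fun e => absurd (dF_inj (by norm_num) (by norm_num) e) (by norm_num),
    fun e => absurd (dF_inj (by norm_num) (by norm_num) e) (by norm_num)⟩

theorem exists_der {d : P} (hd : d ∈ Dset) : ∃ u ∈ G', u * σ 0 * u⁻¹ = d := by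
  obtain ⟨u, rfl⟩ := isConj_iff.mp hd
  rcases Int.units_eq_one_or (sgn u) with h | h
  · exact ⟨u, mem_der.mpr h, rfl⟩
  · exact ⟨u * σ 0, mem_der.mpr (by rw [map_mul, h, sgn_σ0]; decide), by group⟩

/-- An automorphism that is the identity on the stabiliser and keeps a far transposition is trivial. -/
theorem eq_one {α : MulAut G'} (hid : ∀ g ∈ Hd, app α g = g) (h1 : fimg α (σ 0 * σ 1) = σ 1) : α = 1 := by
  have hu1 := sgn_two (x := 0) (y := 1) (by norm_num) (by norm_num)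
  have hu2 := sgn_two (x := 1) (y := 0) (by norm_num) (by norm_num)
  have g1 : Good α (σ 1) := fun u hu e => by rw [fimg_eq α hid hu hu1 (e.trans u_facts.1.symm), h1]
  have g2 : Good α (dF 2) := by
    intro u hu e
    rcases far_cases α hid hu (e ▸ far_ne.2.1) (fun x hx => e ▸ (far_comm x hx).2) with h | h
    · exfalso
      refine far_ne.2.2 ?_
      have := fimg_inj α hid hu hu1 (h.trans h1.symm)
      rw [e, u_facts.1] at this
      exact this.symm
    · exact h
  have g3 : Good α (σ 2) := by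
    obtain ⟨k, hk, e⟩ := near_form (dF_zero ▸ six_nb (i := 0) (j := 3) (by norm_num) le_rfl (by norm_num) :
      dF 3 ∈ Nb (σ 0))
    have := good_sub α hid (h := k⁻¹) (good_near α hid)
      (dF_zero ▸ (six_nb (i := 0) (j := 3) (by norm_num) le_rfl (by norm_num)).2.2) (inv_mem hk)
    rw [e] at this
    rwa [show k⁻¹ * (k * σ 2 * k⁻¹) * k⁻¹⁻¹ = σ 2 by group] at this
  have all : ∀ d ∈ Dset, Good α d := by
    intro d hd
    obtain ⟨g, rfl⟩ := isConj_iff.mp hd
    obtain ⟨r, hr, h, hh, e, -⟩ := conj_form g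
    rw [e]
    rcases hr with rfl | rfl | rfl
    · rw [show rootT 0 = σ 0 by simp [rootT, root]]
      exact good_sub α hid (good_zero α hid) (Commute.refl _) hh
    · rw [rootT_one, ← dF_two]
      rcases Int.units_eq_one_or (sgn h) with hs | hs
      · exact good_conj α hid g2 ⟨mem_der.mpr hs, l_central hh⟩
      · have := good_conj α hid (h := h * σ 0) g1
          ⟨mem_der.mpr (by rw [map_mul, hs, sgn_σ0]; decide), (l_central hh).mul_left (Commute.refl _)⟩
        rwa [show h * σ 0 * σ 1 * (h * σ 0)⁻¹ = h * (σ 0 * σ 1 * (σ 0)⁻¹) * h⁻¹ by group, inv_σ, ← dF_two] at this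
    · rw [rootT_eight]
      exact good_sub α hid g3 two_commute hh
  apply MulEquiv.ext
  rintro ⟨g, hg⟩
  refine Subtype.ext ?_
  have hz : g⁻¹ * app α g ∈ Subgroup.center P := by
    rw [Subgroup.mem_center_iff]
    intro z
    refine (Subgroup.mem_centralizer_singleton_iff.mp ((Subgroup.closure_le _).mpr ?_ (closure_D ▸ Subgroup.mem_top z) :
      z ∈ Subgroup.centralizer {g⁻¹ * app α g}))
    intro d hd
    obtain ⟨u, hu, e⟩ := exists_der hd
    refine Subgroup.mem_centralizer_singleton_iff.mpr ?_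
    have k1 : app α g * d * (app α g)⁻¹ = g * d * g⁻¹ := by
      have h := all (g * d * g⁻¹) (D_conj g hd) (g * u) (mul_mem hg hu) (by rw [← e]; group)
      rw [fimg, app_mul α hg hu] at h
      rw [← h]
      conv_lhs => rw [← all d hd u hu e, fimg]
      group
    calc d * (g⁻¹ * app α g) = g⁻¹ * (g * d * g⁻¹) * app α g := by group
      _ = g⁻¹ * app α g * d := by rw [← k1]; group
  rw [center_eq_bot, Subgroup.mem_bot, inv_mul_eq_one] at hz
  show ((α ⟨g, hg⟩ : G') : P) = g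
  rw [← app_eq α hg, ← hz]

/-- Conjugation in Fi24 gives every automorphism of the derived group. -/
theorem conj_surjective : Function.Surjective (MulAut.conjNormal : P →* MulAut G') := by
  intro α
  obtain ⟨g, -, hg⟩ := exists_stab α
  obtain ⟨k, -, hk⟩ := fix_stab (twist g α) hg
  rw [twist_twist] at hk
  set β := twist (k * g) α
  suffices H : ∃ v : P, twist v β = 1 by
    obtain ⟨v, hv⟩ := H
    refine ⟨(v * (k * g))⁻¹, ?_⟩
    rw [show twist v β = twist (v * (k * g)) α from twist_twist _ _ _, twist] at hv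
    rw [map_inv]
    exact (eq_inv_of_mul_eq_one_right hv).symm
  have hu1 := sgn_two (x := 0) (y := 1) (by norm_num) (by norm_num)
  rcases far_cases β hk hu1 (u_facts.1.symm ▸ far_ne.1) (fun x hx => u_facts.1.symm ▸ (far_comm x hx).1) with h | h
  · exact ⟨1, by rw [twist, map_one, one_mul]; exact eq_one hk h⟩
  · refine ⟨σ 0, eq_one (fun g hg => ?_) ?_⟩
    · rw [app_twist _ _ hg.1, hk g hg, ← hg.2.eq, mul_inv_cancel_right]
    · rw [fimg, app_twist _ _ hu1]
      rw [fimg] at h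
      calc σ 0 * app β (σ 0 * σ 1) * (σ 0)⁻¹ * σ 0 * (σ 0 * app β (σ 0 * σ 1) * (σ 0)⁻¹)⁻¹
          = σ 0 * (app β (σ 0 * σ 1) * σ 0 * (app β (σ 0 * σ 1))⁻¹) * (σ 0)⁻¹ := by group
        _ = σ 1 := by
          rw [h, dF_two, inv_σ]
          calc σ 0 * (σ 0 * σ 1 * σ 0) * σ 0 = σ 0 * σ 0 * σ 1 * (σ 0 * σ 0) := by group
            _ = σ 1 := by rw [presFi24.σ_sq, one_mul, mul_one]

theorem conj_injective : Function.Injective (MulAut.conjNormal : P →* MulAut G') := by
  rw [← MonoidHom.ker_eq_bot_iff]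
  rcases normal_cases (MulAut.conjNormal : P →* MulAut G').ker with h | h
  · exact h
  exfalso
  obtain ⟨g, hg, g0, g4⟩ := pair_conj (dF_mem (i := 0) (by norm_num))
    (six_nb (i := 0) (j := 4) (by norm_num) (by norm_num) (by norm_num))
  have hp := (pair_mem (six_pair (i := 0) (j := 3) (by norm_num) le_rfl (by norm_num))).1
  have e := congrArg (fun a : MulAut G' => ((a ⟨_, hp⟩ : G') : P)) (MonoidHom.mem_ker.mp (h hg))
  simp only [MulAut.conjNormal_apply, MulAut.one_apply] at e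
  rw [conj_mul_conj, g0, g4] at e
  exact absurd (dF_inj (by norm_num) (by norm_num) (mul_left_cancel e)) (by norm_num)

/-- The outer automorphism group of the derived group has order two. -/
theorem card_out : Nat.card (Cfsg.Out G') = 2 := by
  have hI : Cfsg.Inn G' = (G').map (MulAut.conjNormal : P →* MulAut G') := by
    ext a
    have e : ∀ u : G', (MulAut.conjNormal (u : P) : MulAut G') = MulAut.conj u := fun u =>
      MulEquiv.ext fun x => Subtype.ext (by simp)
    constructor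
    · rintro ⟨u, rfl⟩
      exact ⟨u, u.2, e u⟩
    · rintro ⟨u, hu, rfl⟩
      exact ⟨⟨u, hu⟩, (e ⟨u, hu⟩).symm⟩
  show Nat.card (MulAut G' ⧸ Cfsg.Inn G') = 2
  rw [← Subgroup.index_eq_card, hI, Subgroup.index_map_of_bijective ⟨conj_injective, conj_surjective⟩,
    index_commutator]

end CfsgLib.CosetEnum.Fi24Table.Out
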